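import Cfsg.Agent.H11.Poin
import Cfsg.Prelude.Def_ChevStructure

/-! Per type data: `poinT` (Poincaré polynomial), `card_WeylT`, `coxT` (Coxeter system of the Weyl group),
`coxOrdT` (order of the Coxeter element), `kerT` (kernel of the Cartan matrix on a cyclic group). -/

namespace H11
open Cfsg Cfsg.Lie

set_option maxRecDepth 4000 in
theorem poinG2_3 {R : Type*} [CommSemiring R] (q : R) : poin (nodeSet chevG2 3) q =
    (q ^ 0 + q ^ 1 + q ^ 2 + q ^ 3 + q ^ 4 + q ^ 5) * poin (nodeSet chevG2 2) q := by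
  rw [poin_of_chk agreeG2 ⟨6, 0x8779967a9789, 0x50403050402010302000001, 0x50403020100, 0x10100⟩ 3 0 2
    [0, 1, 2, 3, 4, 5] (by decide +kernel) (by decide +kernel)]
  simp only [List.map_cons, List.map_nil, List.sum_cons, List.sum_nil]
  ring

set_option maxRecDepth 4000 in
theorem poinG2_2 {R : Type*} [CommSemiring R] (q : R) : poin (nodeSet chevG2 2) q =
    (q ^ 0 + q ^ 1) * poin (nodeSet chevG2 0) q := by
  rw [poin_of_chk agreeG2 ⟨2, 0x7b98, 0x100, 0x100, 0x10⟩ 2 1 0
    [0, 1] (by decide +kernel) (by decide +kernel)]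
  simp only [List.map_cons, List.map_nil, List.sum_cons, List.sum_nil]
  ring

theorem poinG2 {R : Type*} [CommRing R] (q : R) : (q - 1) ^ 2 * poin (Set.univ : Set (Node chevG2)) q =
    (q ^ 2 - 1) * (q ^ 6 - 1) := by
  rw [← nodeSet_full (l := 2) rfl, show 2 ^ 2 - 1 = 3 from rfl, poinG2_3, poinG2_2, nodeSet_zero, poin_empty]
  ring

theorem card_WeylG2 : Nat.card (Weyl chevG2) = 12 := by
  rw [card_Weyl, ← nodeSet_full (l := 2) rfl, show 2 ^ 2 - 1 = 3 from rfl, poinG2_3, poinG2_2, nodeSet_zero, poin_empty]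
  norm_num

theorem coxG2 : ∃ cs : CoxeterSystem CoxeterMatrix.G₂ (Weyl chevG2), ∀ i, cs.simple i = sW (D := chevG2) i :=
  exists_cox agreeG2 CoxeterMatrix.G₂ (show ∀ i j : Fin 2, fastG2.chkOrd [i, j] (CoxeterMatrix.G₂ i j) = true by decide +kernel)

theorem coxOrdG2 : orderOf (wp (sW (D := chevG2)) (List.finRange 2)) = 6 :=
  orderOf_of_chk agreeG2 _ _ (by decide +kernel)

theorem kerG2 (M : Type*) [CommGroup M] [IsCyclic M] [Finite M] :
    Nat.card (mact (M := M) (cartanM chevG2)).ker = 1 := by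
  have h : cartanM chevG2 = lmat 2 [[2, -3], [-1, 2]] := by ext i j; exact cartanG2 i j
  rw [h]
  refine (card_ker_of_smith (ι := Fin 2) (P := lmat 2 [[0, -1], [1, 2]]) (P' := lmat 2 [[2, 1], [-1, 0]])
    (Q := lmat 2 [[1, 2], [0, 1]]) (Q' := lmat 2 [[1, -2], [0, 1]]) (d := fun i => [1, 1].getD i 0)
    (by decide +kernel) (by decide +kernel) (by decide +kernel)).trans ?_
  simp [Fin.prod_univ_succ]

set_option maxRecDepth 4000 in
theorem poinB2_3 {R : Type*} [CommSemiring R] (q : R) : poin (nodeSet chevB2 3) q =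
    (q ^ 0 + q ^ 1 + q ^ 2 + q ^ 3) * poin (nodeSet chevB2 2) q := by
  rw [poin_of_chk agreeB2 ⟨4, 0x87799789, 0x302010302000001, 0x3020100, 0x100⟩ 3 0 2
    [0, 1, 2, 3] (by decide +kernel) (by decide +kernel)]
  simp only [List.map_cons, List.map_nil, List.sum_cons, List.sum_nil]
  ring

set_option maxRecDepth 4000 in
theorem poinB2_2 {R : Type*} [CommSemiring R] (q : R) : poin (nodeSet chevB2 2) q =
    (q ^ 0 + q ^ 1) * poin (nodeSet chevB2 0) q := by
  rw [poin_of_chk agreeB2 ⟨2, 0x7a98, 0x100, 0x100, 0x10⟩ 2 1 0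
    [0, 1] (by decide +kernel) (by decide +kernel)]
  simp only [List.map_cons, List.map_nil, List.sum_cons, List.sum_nil]
  ring

theorem poinB2 {R : Type*} [CommRing R] (q : R) : (q - 1) ^ 2 * poin (Set.univ : Set (Node chevB2)) q =
    (q ^ 2 - 1) * (q ^ 4 - 1) := by
  rw [← nodeSet_full (l := 2) rfl, show 2 ^ 2 - 1 = 3 from rfl, poinB2_3, poinB2_2, nodeSet_zero, poin_empty]
  ring

theorem card_WeylB2 : Nat.card (Weyl chevB2) = 8 := by
  rw [card_Weyl, ← nodeSet_full (l := 2) rfl, show 2 ^ 2 - 1 = 3 from rfl, poinB2_3, poinB2_2, nodeSet_zero, poin_empty]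
  norm_num

theorem coxB2 : ∃ cs : CoxeterSystem (CoxeterMatrix.B 2) (Weyl chevB2), ∀ i, cs.simple i = sW (D := chevB2) i :=
  exists_cox agreeB2 (CoxeterMatrix.B 2) (show ∀ i j : Fin 2, fastB2.chkOrd [i, j] ((CoxeterMatrix.B 2) i j) = true by decide +kernel)

theorem coxOrdB2 : orderOf (wp (sW (D := chevB2)) (List.finRange 2)) = 4 :=
  orderOf_of_chk agreeB2 _ _ (by decide +kernel)

theorem kerB2 (M : Type*) [CommGroup M] [IsCyclic M] [Finite M] :
    Nat.card (mact (M := M) (cartanM chevB2)).ker = Nat.gcd 2 (Nat.card M) := by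
  have h : cartanM chevB2 = lmat 2 [[2, -2], [-1, 2]] := by ext i j; exact cartanB2 i j
  rw [h]
  refine (card_ker_of_smith (ι := Fin 2) (P := lmat 2 [[0, -1], [1, 2]]) (P' := lmat 2 [[2, 1], [-1, 0]])
    (Q := lmat 2 [[1, 2], [0, 1]]) (Q' := lmat 2 [[1, -2], [0, 1]]) (d := fun i => [1, 2].getD i 0)
    (by decide +kernel) (by decide +kernel) (by decide +kernel)).trans ?_
  simp [Fin.prod_univ_succ]

set_option maxRecDepth 4000 in
theorem poinD4_15 {R : Type*} [CommSemiring R] (q : R) : poin (nodeSet chevD4 15) q =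
    (q ^ 0 + q ^ 1 + q ^ 2 + 2 * q ^ 3 + q ^ 4 + q ^ 5 + q ^ 6) * poin (nodeSet chevD4 14) q := by
  rw [poin_of_chk agreeD4 ⟨8, 0x88878879779897887988997888978889, 0x707070606060507040306050502040402050303030401020101020000000001, 0x605040303020100, 0x1223100⟩ 15 0 14
    [0, 1, 2, 3, 3, 4, 5, 6] (by decide +kernel) (by decide +kernel)]
  simp only [List.map_cons, List.map_nil, List.sum_cons, List.sum_nil]
  ring

set_option maxRecDepth 4000 in
theorem poinD4_14 {R : Type*} [CommSemiring R] (q : R) : poin (nodeSet chevD4 14) q =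
    (q ^ 0 + q ^ 1 + q ^ 2 + q ^ 3) * poin (nodeSet chevD4 10) q := by
  rw [poin_of_chk agreeD4 ⟨4, 0x7889987987988988, 0x2030300030201000100020000010000, 0x3020100, 0x3120⟩ 14 2 10
    [0, 1, 2, 3] (by decide +kernel) (by decide +kernel)]
  simp only [List.map_cons, List.map_nil, List.sum_cons, List.sum_nil]
  ring

set_option maxRecDepth 4000 in
theorem poinD4_10 {R : Type*} [CommSemiring R] (q : R) : poin (nodeSet chevD4 10) q =
    (q ^ 0 + q ^ 1 + q ^ 2) * poin (nodeSet chevD4 8) q := by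
  rw [poin_of_chk agreeD4 ⟨3, 0x798999798898, 0x10002000200000000000100, 0x20100, 0x310⟩ 10 1 8
    [0, 1, 2] (by decide +kernel) (by decide +kernel)]
  simp only [List.map_cons, List.map_nil, List.sum_cons, List.sum_nil]
  ring

set_option maxRecDepth 4000 in
theorem poinD4_8 {R : Type*} [CommSemiring R] (q : R) : poin (nodeSet chevD4 8) q =
    (q ^ 0 + q ^ 1) * poin (nodeSet chevD4 0) q := by
  rw [poin_of_chk agreeD4 ⟨2, 0x78989888, 0x1000000, 0x100, 0x30⟩ 8 3 0
    [0, 1] (by decide +kernel) (by decide +kernel)]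
  simp only [List.map_cons, List.map_nil, List.sum_cons, List.sum_nil]
  ring

theorem poinD4 {R : Type*} [CommRing R] (q : R) : (q - 1) ^ 4 * poin (Set.univ : Set (Node chevD4)) q =
    (q ^ 2 - 1) * (q ^ 4 - 1) * (q ^ 4 - 1) * (q ^ 6 - 1) := by
  rw [← nodeSet_full (l := 4) rfl, show 2 ^ 4 - 1 = 15 from rfl, poinD4_15, poinD4_14, poinD4_10, poinD4_8, nodeSet_zero, poin_empty]
  ring

theorem card_WeylD4 : Nat.card (Weyl chevD4) = 192 := by
  rw [card_Weyl, ← nodeSet_full (l := 4) rfl, show 2 ^ 4 - 1 = 15 from rfl, poinD4_15, poinD4_14, poinD4_10, poinD4_8, nodeSet_zero, poin_empty]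
  norm_num

theorem coxD4 : ∃ cs : CoxeterSystem coxeterD4 (Weyl chevD4), ∀ i, cs.simple i = sW (D := chevD4) i :=
  exists_cox agreeD4 coxeterD4 (show ∀ i j : Fin 4, fastD4.chkOrd [i, j] (coxeterD4 i j) = true by decide +kernel)

theorem coxOrdD4 : orderOf (wp (sW (D := chevD4)) (List.finRange 4)) = 6 :=
  orderOf_of_chk agreeD4 _ _ (by decide +kernel)

theorem kerD4 (M : Type*) [CommGroup M] [IsCyclic M] [Finite M] :
    Nat.card (mact (M := M) (cartanM chevD4)).ker = Nat.gcd 2 (Nat.card M) ^ 2 := by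
  have h : cartanM chevD4 = lmat 4 [[2, -1, 0, 0], [-1, 2, -1, -1], [0, -1, 2, 0], [0, -1, 0, 2]] := by ext i j; exact cartanD4 i j
  rw [h]
  refine (card_ker_of_smith (ι := Fin 4) (P := lmat 4 [[-1, 0, 0, 0], [-2, -1, 0, 0], [-3, -2, -1, 0], [2, 2, 1, 1]]) (P' := lmat 4 [[-1, 0, 0, 0], [2, -1, 0, 0], [-1, 2, -1, 0], [-1, 0, 1, 1]])
    (Q := lmat 4 [[0, 0, 0, 1], [1, 0, 0, 2], [0, 1, -1, 1], [0, 0, 1, 2]]) (Q' := lmat 4 [[-2, 1, 0, 0], [-3, 0, 1, 1], [-2, 0, 0, 1], [1, 0, 0, 0]]) (d := fun i => [1, 1, 2, 2].getD i 0)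
    (by decide +kernel) (by decide +kernel) (by decide +kernel)).trans ?_
  simp [Fin.prod_univ_succ, sq]

set_option maxRecDepth 4000 in
theorem poinF4_15 {R : Type*} [CommSemiring R] (q : R) : poin (nodeSet chevF4 15) q =
    (q ^ 0 + q ^ 1 + q ^ 2 + q ^ 3 + 2 * q ^ 4 + 2 * q ^ 5 + 2 * q ^ 6 + 2 * q ^ 7 + 2 * q ^ 8 + 2 * q ^ 9 + 2 * q ^ 10 + 2 * q ^ 11 + q ^ 12 + q ^ 13 + q ^ 14 + q ^ 15) * poin (nodeSet chevF4 14) q := by
  rw [poin_of_chk agreeF4 ⟨24, 0x88878879879879789878789797978977889678899789896987a779879887887a87997979987978989798897888978889, 0x17171716161615171514161513151214141311131112140e1210130d10110f0c0f0f10080d0e0e120e0c0d110c0d0b100b0a0c07090b0a060a0909050808070f0706080b0507040a060503090304060404020503020301020101020000000001, 0xf0e0d0c0b0b0a09080a0908070605070605040403020100, 0x12110000321000121132100⟩ 15 0 14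
    [0, 1, 2, 3, 4, 4, 5, 6, 7, 5, 6, 7, 8, 9, 10, 8, 9, 10, 11, 11, 12, 13, 14, 15] (by decide +kernel) (by decide +kernel)]
  simp only [List.map_cons, List.map_nil, List.sum_cons, List.sum_nil]
  ring

set_option maxRecDepth 4000 in
theorem poinF4_14 {R : Type*} [CommSemiring R] (q : R) : poin (nodeSet chevF4 14) q =
    (q ^ 0 + q ^ 1 + q ^ 2 + q ^ 3 + q ^ 4 + q ^ 5) * poin (nodeSet chevF4 6) q := by
  rw [poin_of_chk agreeF4 ⟨6, 0x788a978a896a87a879889888, 0x40505000503040003040200020103000002010001000000, 0x50403020100, 0x321230⟩ 14 3 6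
    [0, 1, 2, 3, 4, 5] (by decide +kernel) (by decide +kernel)]
  simp only [List.map_cons, List.map_nil, List.sum_cons, List.sum_nil]
  ring

set_option maxRecDepth 4000 in
theorem poinF4_6 {R : Type*} [CommSemiring R] (q : R) : poin (nodeSet chevF4 6) q =
    (q ^ 0 + q ^ 1 + q ^ 2 + q ^ 3) * poin (nodeSet chevF4 4) q := by
  rw [poin_of_chk agreeF4 ⟨4, 0x987a979989798898, 0x30200000103000002000000000100, 0x3020100, 0x1210⟩ 6 1 4
    [0, 1, 2, 3] (by decide +kernel) (by decide +kernel)]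
  simp only [List.map_cons, List.map_nil, List.sum_cons, List.sum_nil]
  ring

set_option maxRecDepth 4000 in
theorem poinF4_4 {R : Type*} [CommSemiring R] (q : R) : poin (nodeSet chevF4 4) q =
    (q ^ 0 + q ^ 1) * poin (nodeSet chevF4 0) q := by
  rw [poin_of_chk agreeF4 ⟨2, 0x97a88988, 0x10000, 0x100, 0x20⟩ 4 2 0
    [0, 1] (by decide +kernel) (by decide +kernel)]
  simp only [List.map_cons, List.map_nil, List.sum_cons, List.sum_nil]
  ring

theorem poinF4 {R : Type*} [CommRing R] (q : R) : (q - 1) ^ 4 * poin (Set.univ : Set (Node chevF4)) q =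
    (q ^ 2 - 1) * (q ^ 6 - 1) * (q ^ 8 - 1) * (q ^ 12 - 1) := by
  rw [← nodeSet_full (l := 4) rfl, show 2 ^ 4 - 1 = 15 from rfl, poinF4_15, poinF4_14, poinF4_6, poinF4_4, nodeSet_zero, poin_empty]
  ring

theorem card_WeylF4 : Nat.card (Weyl chevF4) = 1152 := by
  rw [card_Weyl, ← nodeSet_full (l := 4) rfl, show 2 ^ 4 - 1 = 15 from rfl, poinF4_15, poinF4_14, poinF4_6, poinF4_4, nodeSet_zero, poin_empty]
  norm_num

theorem coxF4 : ∃ cs : CoxeterSystem CoxeterMatrix.F₄ (Weyl chevF4), ∀ i, cs.simple i = sW (D := chevF4) i :=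
  exists_cox agreeF4 CoxeterMatrix.F₄ (show ∀ i j : Fin 4, fastF4.chkOrd [i, j] (CoxeterMatrix.F₄ i j) = true by decide +kernel)

theorem coxOrdF4 : orderOf (wp (sW (D := chevF4)) (List.finRange 4)) = 12 :=
  orderOf_of_chk agreeF4 _ _ (by decide +kernel)

theorem kerF4 (M : Type*) [CommGroup M] [IsCyclic M] [Finite M] :
    Nat.card (mact (M := M) (cartanM chevF4)).ker = 1 := by
  have h : cartanM chevF4 = lmat 4 [[2, -1, 0, 0], [-1, 2, -2, 0], [0, -1, 2, -1], [0, 0, -1, 2]] := by ext i j; exact cartanF4 i j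
  rw [h]
  refine (card_ker_of_smith (ι := Fin 4) (P := lmat 4 [[-1, 0, 0, 0], [1, 0, -1, 0], [-2, -1, 0, 0], [-2, -2, -2, -1]]) (P' := lmat 4 [[-1, 0, 0, 0], [2, 0, -1, 0], [-1, -1, 0, 0], [0, 2, 2, -1]])
    (Q := lmat 4 [[0, 0, 1, -2], [1, 0, 2, -4], [0, 0, 2, -3], [0, 1, 2, -2]]) (Q' := lmat 4 [[-2, 1, 0, 0], [2, 0, -2, 1], [-3, 0, 2, 0], [-2, 0, 1, 0]]) (d := fun i => [1, 1, 1, 1].getD i 0)
    (by decide +kernel) (by decide +kernel) (by decide +kernel)).trans ?_
  simp [Fin.prod_univ_succ]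

set_option maxRecDepth 4000 in
theorem poinE6_63 {R : Type*} [CommSemiring R] (q : R) : poin (nodeSet chevE6 63) q =
    (q ^ 0 + q ^ 1 + q ^ 2 + q ^ 3 + 2 * q ^ 4 + 2 * q ^ 5 + 2 * q ^ 6 + 2 * q ^ 7 + 3 * q ^ 8 + 2 * q ^ 9 + 2 * q ^ 10 + 2 * q ^ 11 + 2 * q ^ 12 + q ^ 13 + q ^ 14 + q ^ 15 + q ^ 16) * poin (nodeSet chevE6 62) q := by
  rw [poin_of_chk agreeE6 ⟨27, 0x788888978888897888889778888977888798887997879887798887988887888879887899879789798789988789878988797988987988789878979878898878788898978898897898889788888987888889, 0x191a1a1a1a1a1a181919191918191718181817171816151716161617141015151514171514141315160f13121413130e11131212120d12111111110c101010100f160f0f0e0f10140e0d0f0b0e130c0e0d0a0d120d0c0c090c110b0a0b0e0b0b090b080d0a0a0a09070c090907080a080508080609070407060706060306040505050805050304040704030402030603020203010202010101020100000000000001, 0x100f0e0d0c0c0b0a09080b0a090807080706060504050403020100, 0x543102000013222433111543200⟩ 63 0 62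
    [0, 1, 2, 3, 4, 5, 4, 5, 6, 6, 7, 8, 7, 8, 9, 10, 11, 8, 9, 10, 11, 12, 12, 13, 14, 15, 16] (by decide +kernel) (by decide +kernel)]
  simp only [List.map_cons, List.map_nil, List.sum_cons, List.sum_nil]
  ring

set_option maxRecDepth 4000 in
theorem poinE6_62 {R : Type*} [CommSemiring R] (q : R) : poin (nodeSet chevE6 62) q =
    (q ^ 0 + q ^ 1 + q ^ 2 + q ^ 3 + 2 * q ^ 4 + q ^ 5 + q ^ 6 + q ^ 7 + q ^ 8) * poin (nodeSet chevE6 30) q := by
  rw [poin_of_chk agreeE6 ⟨10, 0x788889978889897889889779888978888799887998879888798888988888, 0x80909090900090708080800070806070700060607050400050505060300040404030600030302040500020103020200000201010100010000000000, 0x8070605040403020100, 0x5431123450⟩ 62 5 30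
    [0, 1, 2, 3, 4, 4, 5, 6, 7, 8] (by decide +kernel) (by decide +kernel)]
  simp only [List.map_cons, List.map_nil, List.sum_cons, List.sum_nil]
  ring

set_option maxRecDepth 4000 in
theorem poinE6_30 {R : Type*} [CommSemiring R] (q : R) : poin (nodeSet chevE6 30) q =
    (q ^ 0 + q ^ 1 + q ^ 2 + 2 * q ^ 3 + q ^ 4 + q ^ 5 + q ^ 6) * poin (nodeSet chevE6 28) q := by
  rw [poin_of_chk agreeE6 ⟨8, 0x988879987899979789898789978988897988889878888898, 0x707070600000605060700000406030500000504020400000203050300000301040200000102010000000000000100, 0x605040303020100, 0x13224310⟩ 30 1 28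
    [0, 1, 2, 3, 3, 4, 5, 6] (by decide +kernel) (by decide +kernel)]
  simp only [List.map_cons, List.map_nil, List.sum_cons, List.sum_nil]
  ring

set_option maxRecDepth 4000 in
theorem poinE6_28 {R : Type*} [CommSemiring R] (q : R) : poin (nodeSet chevE6 28) q =
    (q ^ 0 + q ^ 1 + q ^ 2 + q ^ 3) * poin (nodeSet chevE6 24) q := by
  rw [poin_of_chk agreeE6 ⟨4, 0x978899897899889789888988, 0x203030000000301020000000102000000000000010000, 0x3020100, 0x4320⟩ 28 2 24
    [0, 1, 2, 3] (by decide +kernel) (by decide +kernel)]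
  simp only [List.map_cons, List.map_nil, List.sum_cons, List.sum_nil]
  ring

set_option maxRecDepth 4000 in
theorem poinE6_24 {R : Type*} [CommSemiring R] (q : R) : poin (nodeSet chevE6 24) q =
    (q ^ 0 + q ^ 1 + q ^ 2) * poin (nodeSet chevE6 16) q := by
  rw [poin_of_chk agreeE6 ⟨3, 0x978998897998889888, 0x102000000000200000000000001000000, 0x20100, 0x430⟩ 24 3 16
    [0, 1, 2] (by decide +kernel) (by decide +kernel)]
  simp only [List.map_cons, List.map_nil, List.sum_cons, List.sum_nil]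
  ring

set_option maxRecDepth 4000 in
theorem poinE6_16 {R : Type*} [CommSemiring R] (q : R) : poin (nodeSet chevE6 16) q =
    (q ^ 0 + q ^ 1) * poin (nodeSet chevE6 0) q := by
  rw [poin_of_chk agreeE6 ⟨2, 0x979888898888, 0x100000000, 0x100, 0x40⟩ 16 4 0
    [0, 1] (by decide +kernel) (by decide +kernel)]
  simp only [List.map_cons, List.map_nil, List.sum_cons, List.sum_nil]
  ring

theorem poinE6 {R : Type*} [CommRing R] (q : R) : (q - 1) ^ 6 * poin (Set.univ : Set (Node chevE6)) q =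
    (q ^ 2 - 1) * (q ^ 5 - 1) * (q ^ 6 - 1) * (q ^ 8 - 1) * (q ^ 9 - 1) * (q ^ 12 - 1) := by
  rw [← nodeSet_full (l := 6) rfl, show 2 ^ 6 - 1 = 63 from rfl, poinE6_63, poinE6_62, poinE6_30, poinE6_28, poinE6_24, poinE6_16, nodeSet_zero, poin_empty]
  ring

theorem card_WeylE6 : Nat.card (Weyl chevE6) = 51840 := by
  rw [card_Weyl, ← nodeSet_full (l := 6) rfl, show 2 ^ 6 - 1 = 63 from rfl, poinE6_63, poinE6_62, poinE6_30, poinE6_28, poinE6_24, poinE6_16, nodeSet_zero, poin_empty]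
  norm_num

theorem coxE6 : ∃ cs : CoxeterSystem CoxeterMatrix.E₆ (Weyl chevE6), ∀ i, cs.simple i = sW (D := chevE6) i :=
  exists_cox agreeE6 CoxeterMatrix.E₆ (show ∀ i j : Fin 6, fastE6.chkOrd [i, j] (CoxeterMatrix.E₆ i j) = true by decide +kernel)

theorem coxOrdE6 : orderOf (wp (sW (D := chevE6)) (List.finRange 6)) = 12 :=
  orderOf_of_chk agreeE6 _ _ (by decide +kernel)

theorem kerE6 (M : Type*) [CommGroup M] [IsCyclic M] [Finite M] :
    Nat.card (mact (M := M) (cartanM chevE6)).ker = Nat.gcd 3 (Nat.card M) := by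
  have h : cartanM chevE6 = lmat 6 [[2, 0, -1, 0, 0, 0], [0, 2, 0, -1, 0, 0], [-1, 0, 2, -1, 0, 0], [0, -1, -1, 2, -1, 0], [0, 0, 0, -1, 2, -1], [0, 0, 0, 0, -1, 2]] := by ext i j; exact cartanE6 i j
  rw [h]
  refine (card_ker_of_smith (ι := Fin 6) (P := lmat 6 [[-1, 0, 0, 0, 0, 0], [0, -1, 0, 0, 0, 0], [1, -2, 0, -1, 0, 0], [2, -3, 0, -2, -1, 0], [-2, 1, -1, 0, 0, 0], [-5, 0, -4, -3, -2, -1]]) (P' := lmat 6 [[-1, 0, 0, 0, 0, 0], [0, -1, 0, 0, 0, 0], [2, -1, 0, 0, -1, 0], [-1, 2, -1, 0, 0, 0], [0, -1, 2, -1, 0, 0], [0, 0, -1, 2, 4, -1]])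
    (Q := lmat 6 [[0, 0, 0, 0, 1, -2], [0, 0, 0, 0, 2, -3], [1, 0, 0, 0, 2, -4], [0, 1, 0, 0, 4, -6], [0, 0, 1, 0, 4, -5], [0, 0, 0, 1, 4, -4]]) (Q' := lmat 6 [[-2, 0, 1, 0, 0, 0], [0, -2, 0, 1, 0, 0], [2, -3, 0, 0, 1, 0], [4, -4, 0, 0, 0, 1], [-3, 2, 0, 0, 0, 0], [-2, 1, 0, 0, 0, 0]]) (d := fun i => [1, 1, 1, 1, 1, 3].getD i 0)
    (by decide +kernel) (by decide +kernel) (by decide +kernel)).trans ?_
  simp [Fin.prod_univ_succ]

set_option maxRecDepth 4000 in
theorem poinE7_127 {R : Type*} [CommSemiring R] (q : R) : poin (nodeSet chevE7 127) q =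
    (q ^ 0 + q ^ 1 + q ^ 2 + q ^ 3 + q ^ 4 + 2 * q ^ 5 + 2 * q ^ 6 + 2 * q ^ 7 + 2 * q ^ 8 + 3 * q ^ 9 + 3 * q ^ 10 + 3 * q ^ 11 + 3 * q ^ 12 + 3 * q ^ 13 + 3 * q ^ 14 + 3 * q ^ 15 + 3 * q ^ 16 + 3 * q ^ 17 + 3 * q ^ 18 + 2 * q ^ 19 + 2 * q ^ 20 + 2 * q ^ 21 + 2 * q ^ 22 + q ^ 23 + q ^ 24 + q ^ 25 + q ^ 26 + q ^ 27) * poin (nodeSet chevE7 63) q := by
  rw [poin_of_chk agreeE7 ⟨56, 0x78888889788888897888888978888889778888897788887988887997887988787988877988887988888788888798887899887978987987897988789988878988789888797988798798898879888789878797987898798787898878979887889888788788898797889898788987897898979789889878987889788978978889797888898788788898797889878978987889798788898778888897788888997888898978889889788988897798888978888879988879988879888879888879888889888888, 0x36373737373737373536363636363536343535353534343533343434333333343231333232323233302b313131313033313030302f31322a2f2f2e302f2f292e2d2f2e2e2e282c2e2d2d2d2d272d2c2c2c2c2c262b2b2b2b2b2a32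2a2a2a292a2b302929282a25292f2827292824282e2628272723272d2726262622262c2525242529252524232521282424222423202723232322221f26222221202124211b211f211e23201a20201f1d221f191f1d1e201e1e181e1e1c1f1d1d171d1c1d1c1c1c161c1b1a1b1b1b211b191b181a1a201a1a191719191f1917181a15181e1818161914171d1716171613161c161415151811151515131417101414131412160f1313121213120e12121011111115110b110f101014100a0f100e0f130f090e0e0f0d120e080d0d0d0e0d0c070c0c0c0c0c0d050a0b0b0b0b0b110b090a0a0a0a10090a080909090f0808090708080e0707070806050d060606060704060505050504070c0404040305060403030204030303020103020202020002010101010101000000000000, 0x1b1a191817161615141312111514131211101211100f100f0e0e0d0c0f0e0d0d0c0b0c0b0a090b0a090807060a0908070605050403020100, 0x65431020000013222243331111115443332222000000654311234560⟩ 127 6 63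
    [0, 1, 2, 3, 4, 5, 5, 6, 7, 8, 9, 10, 6, 7, 8, 9, 10, 11, 9, 10, 11, 12, 11, 12, 13, 13, 14, 15, 12, 13, 14, 14, 15, 16, 15, 16, 17, 18, 16, 17, 18, 19, 20, 21, 17, 18, 19, 20, 21, 22, 22, 23, 24, 25, 26, 27] (by decide +kernel) (by decide +kernel)]
  simp only [List.map_cons, List.map_nil, List.sum_cons, List.sum_nil]
  ring

set_option maxRecDepth 4000 in
theorem poinE7_63 {R : Type*} [CommSemiring R] (q : R) : poin (nodeSet chevE7 63) q =
    (q ^ 0 + q ^ 1 + q ^ 2 + q ^ 3 + 2 * q ^ 4 + 2 * q ^ 5 + 2 * q ^ 6 + 2 * q ^ 7 + 3 * q ^ 8 + 2 * q ^ 9 + 2 * q ^ 10 + 2 * q ^ 11 + 2 * q ^ 12 + q ^ 13 + q ^ 14 + q ^ 15 + q ^ 16) * poin (nodeSet chevE7 62) q := by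
  rw [poin_of_chk agreeE7 ⟨27, 0xa78888899788889897888988977898889779888798988799798798879798887898888798888799887899987978997987898988789987898897979888987988978987889798788898878978889889788988897898888978888889878888889, 0x191a1a1a1a1a001a1819191919001819171818180017171816151700161616171410001515151417150014141315160f0013121413130e0011131212120d0012111111110c00101010100f16000f0f0e0f1014000e0d0f0b0e13000c0e0d0a0d12000d0c0c090c11000b0a0b0e0b0b00090b080d0a0a000a09070c09090007080a0805080008060907040700060706060306000405050508050005030404070400030402030603000202030102020001010102010000000000000001, 0x100f0e0d0c0c0b0a09080b0a090807080706060504050403020100, 0x543102000013222433111543200⟩ 63 0 62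
    [0, 1, 2, 3, 4, 5, 4, 5, 6, 6, 7, 8, 7, 8, 9, 10, 11, 8, 9, 10, 11, 12, 12, 13, 14, 15, 16] (by decide +kernel) (by decide +kernel)]
  simp only [List.map_cons, List.map_nil, List.sum_cons, List.sum_nil]
  ring

set_option maxRecDepth 4000 in
theorem poinE7_62 {R : Type*} [CommSemiring R] (q : R) : poin (nodeSet chevE7 62) q =
    (q ^ 0 + q ^ 1 + q ^ 2 + q ^ 3 + 2 * q ^ 4 + q ^ 5 + q ^ 6 + q ^ 7 + q ^ 8) * poin (nodeSet chevE7 30) q := by
  rw [poin_of_chk agreeE7 ⟨10, 0xa788889997888998978899889779988897898887999887998987988897988888988888, 0x80909090900000907080808000007080607070000060607050400000505050603000004040403060000030302040500000201030202000000020101010000010000000000, 0x8070605040403020100, 0x5431123450⟩ 62 5 30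
    [0, 1, 2, 3, 4, 4, 5, 6, 7, 8] (by decide +kernel) (by decide +kernel)]
  simp only [List.map_cons, List.map_nil, List.sum_cons, List.sum_nil]
  ring

set_option maxRecDepth 4000 in
theorem poinE7_30 {R : Type*} [CommSemiring R] (q : R) : poin (nodeSet chevE7 30) q =
    (q ^ 0 + q ^ 1 + q ^ 2 + 2 * q ^ 3 + q ^ 4 + q ^ 5 + q ^ 6) * poin (nodeSet chevE7 28) q := by
  rw [poin_of_chk agreeE7 ⟨8, 0x89888798987899897978988987898978988889798888898788888898, 0x70707060000000605060700000004060305000000050402040000000203050300000003010402000000010201000000000000000100, 0x605040303020100, 0x13224310⟩ 30 1 28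
    [0, 1, 2, 3, 3, 4, 5, 6] (by decide +kernel) (by decide +kernel)]
  simp only [List.map_cons, List.map_nil, List.sum_cons, List.sum_nil]
  ring

set_option maxRecDepth 4000 in
theorem poinE7_28 {R : Type*} [CommSemiring R] (q : R) : poin (nodeSet chevE7 28) q =
    (q ^ 0 + q ^ 1 + q ^ 2 + q ^ 3) * poin (nodeSet chevE7 24) q := by
  rw [poin_of_chk agreeE7 ⟨4, 0x8978899889789988897898888988, 0x203030000000003010200000000010200000000000000010000, 0x3020100, 0x4320⟩ 28 2 24
    [0, 1, 2, 3] (by decide +kernel) (by decide +kernel)]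
  simp only [List.map_cons, List.map_nil, List.sum_cons, List.sum_nil]
  ring

set_option maxRecDepth 4000 in
theorem poinE7_24 {R : Type*} [CommSemiring R] (q : R) : poin (nodeSet chevE7 24) q =
    (q ^ 0 + q ^ 1 + q ^ 2) * poin (nodeSet chevE7 16) q := by
  rw [poin_of_chk agreeE7 ⟨3, 0x897899888979988889888, 0x1020000000000020000000000000001000000, 0x20100, 0x430⟩ 24 3 16
    [0, 1, 2] (by decide +kernel) (by decide +kernel)]
  simp only [List.map_cons, List.map_nil, List.sum_cons, List.sum_nil]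
  ring

set_option maxRecDepth 4000 in
theorem poinE7_16 {R : Type*} [CommSemiring R] (q : R) : poin (nodeSet chevE7 16) q =
    (q ^ 0 + q ^ 1) * poin (nodeSet chevE7 0) q := by
  rw [poin_of_chk agreeE7 ⟨2, 0x89798888898888, 0x100000000, 0x100, 0x40⟩ 16 4 0
    [0, 1] (by decide +kernel) (by decide +kernel)]
  simp only [List.map_cons, List.map_nil, List.sum_cons, List.sum_nil]
  ring

theorem poinE7 {R : Type*} [CommRing R] (q : R) : (q - 1) ^ 7 * poin (Set.univ : Set (Node chevE7)) q =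
    (q ^ 2 - 1) * (q ^ 6 - 1) * (q ^ 8 - 1) * (q ^ 10 - 1) * (q ^ 12 - 1) * (q ^ 14 - 1) * (q ^ 18 - 1) := by
  rw [← nodeSet_full (l := 7) rfl, show 2 ^ 7 - 1 = 127 from rfl, poinE7_127, poinE7_63, poinE7_62, poinE7_30, poinE7_28, poinE7_24, poinE7_16, nodeSet_zero, poin_empty]
  ring

theorem card_WeylE7 : Nat.card (Weyl chevE7) = 2903040 := by
  rw [card_Weyl, ← nodeSet_full (l := 7) rfl, show 2 ^ 7 - 1 = 127 from rfl, poinE7_127, poinE7_63, poinE7_62, poinE7_30, poinE7_28, poinE7_24, poinE7_16, nodeSet_zero, poin_empty]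
  norm_num

theorem coxE7 : ∃ cs : CoxeterSystem CoxeterMatrix.E₇ (Weyl chevE7), ∀ i, cs.simple i = sW (D := chevE7) i :=
  exists_cox agreeE7 CoxeterMatrix.E₇ (show ∀ i j : Fin 7, fastE7.chkOrd [i, j] (CoxeterMatrix.E₇ i j) = true by decide +kernel)

theorem coxOrdE7 : orderOf (wp (sW (D := chevE7)) (List.finRange 7)) = 18 :=
  orderOf_of_chk agreeE7 _ _ (by decide +kernel)

theorem kerE7 (M : Type*) [CommGroup M] [IsCyclic M] [Finite M] :
    Nat.card (mact (M := M) (cartanM chevE7)).ker = Nat.gcd 2 (Nat.card M) := by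
  have h : cartanM chevE7 = lmat 7 [[2, 0, -1, 0, 0, 0, 0], [0, 2, 0, -1, 0, 0, 0], [-1, 0, 2, -1, 0, 0, 0], [0, -1, -1, 2, -1, 0, 0], [0, 0, 0, -1, 2, -1, 0], [0, 0, 0, 0, -1, 2, -1], [0, 0, 0, 0, 0, -1, 2]] := by ext i j; exact cartanE7 i j
  rw [h]
  refine (card_ker_of_smith (ι := Fin 7) (P := lmat 7 [[-1, 0, 0, 0, 0, 0, 0], [0, -1, 0, 0, 0, 0, 0], [1, -2, 0, -1, 0, 0, 0], [2, -3, 0, -2, -1, 0, 0], [3, -4, 0, -3, -2, -1, 0], [-2, 1, -1, 0, 0, 0, 0], [-4, -1, -4, -4, -3, -2, -1]]) (P' := lmat 7 [[-1, 0, 0, 0, 0, 0, 0], [0, -1, 0, 0, 0, 0, 0], [2, -1, 0, 0, 0, -1, 0], [-1, 2, -1, 0, 0, 0, 0], [0, -1, 2, -1, 0, 0, 0], [0, 0, -1, 2, -1, 0, 0], [0, 0, 0, -1, 2, 4, -1]])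
    (Q := lmat 7 [[0, 0, 0, 0, 0, 1, -2], [0, 0, 0, 0, 0, 2, -3], [1, 0, 0, 0, 0, 2, -4], [0, 1, 0, 0, 0, 4, -6], [0, 0, 1, 0, 0, 4, -5], [0, 0, 0, 1, 0, 4, -4], [0, 0, 0, 0, 1, 4, -3]]) (Q' := lmat 7 [[-2, 0, 1, 0, 0, 0, 0], [0, -2, 0, 1, 0, 0, 0], [2, -3, 0, 0, 1, 0, 0], [4, -4, 0, 0, 0, 1, 0], [6, -5, 0, 0, 0, 0, 1], [-3, 2, 0, 0, 0, 0, 0], [-2, 1, 0, 0, 0, 0, 0]]) (d := fun i => [1, 1, 1, 1, 1, 1, 2].getD i 0)
    (by decide +kernel) (by decide +kernel) (by decide +kernel)).trans ?_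
  simp [Fin.prod_univ_succ]

set_option maxRecDepth 4000 in
theorem poinE8_255 {R : Type*} [CommSemiring R] (q : R) : poin (nodeSet chevE8 255) q =
    (q ^ 0 + q ^ 1 + q ^ 2 + q ^ 3 + q ^ 4 + q ^ 5 + 2 * q ^ 6 + 2 * q ^ 7 + 2 * q ^ 8 + 2 * q ^ 9 + 3 * q ^ 10 + 3 * q ^ 11 + 4 * q ^ 12 + 4 * q ^ 13 + 4 * q ^ 14 + 4 * q ^ 15 + 5 * q ^ 16 + 5 * q ^ 17 + 6 * q ^ 18 + 6 * q ^ 19 + 6 * q ^ 20 + 6 * q ^ 21 + 7 * q ^ 22 + 7 * q ^ 23 + 7 * q ^ 24 + 7 * q ^ 25 + 7 * q ^ 26 + 7 * q ^ 27 + 8 * q ^ 28 + 8 * q ^ 29 + 7 * q ^ 30 + 7 * q ^ 31 + 7 * q ^ 32 + 7 * q ^ 33 + 7 * q ^ 34 + 7 * q ^ 35 + 6 * q ^ 36 + 6 * q ^ 37 + 6 * q ^ 38 + 6 * q ^ 39 + 5 * q ^ 40 + 5 * q ^ 41 + 4 * q ^ 42 + 4 * q ^ 43 + 4 * q ^ 44 + 4 * q ^ 45 + 3 * q ^ 46 + 3 * q ^ 47 + 2 * q ^ 48 + 2 * q ^ 49 + 2 * q ^ 50 + 2 * q ^ 51 + q ^ 52 + q ^ 53 + q ^ 54 + q ^ 55 + q ^ 56 + q ^ 57) * poin (nodeSet chevE8 127) q := by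
  rw [poin_of_chk agreeE8 ⟨240, 0x788888889788888889788888889788888889788888889778888889778888879888887997888798878879888787988887798888879888888788888879888878998887978988798789879887897988878998888789888789888879798887987988798879889888798888789878879798787987987898879878878988787979887898798878789888789798887889888878887888988797889879878898988788988789789879797898987978987898789897987898898878988788978879789788987897887897978897979788898797887889878897898788897987888898878887888987797889879878898778978987979789878987898778897987978979878979798788987987788898779788987789789877889798778889887778888897978888978978889788978897888978978888978788888986878888897978888998788889789788899797888989878889788978899789788989797889889878897888977997889779897897798897977988898779788889789788897889788978889789788889797888889868788887999788879989788799889787998889779988889689788879989788799889787998889779988889699878879888978798888977988888969888787988889779888889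698888779888889698888869888888a78888887a7888889978888887a788887997888898978888887a78888799788879897888988978888887a7788879977887989778798897789888977888887a878887997788798977879889777988897798888977888878a888879798887987988798879879888798988887988887899788797997879879977988799798887997887898878797988779879887988798878789888779798887987988877898888797988887898888878888878a8888798988879879887988798798887979888879988888798887889988797899879878997988789998887899887897898797978979879789988797898789878979798789987987897898878997988789898887898878898887978988798789889887898887897988797979889879798878987988979879888988798887889878797898789878987878979878979798788987987878898878978988788979887888988878878888987978889898788898789788989797889889878898788978989789789889797898889878987888978897889788897897888897978888898788788889879788898789788987889789878889798788889877888888977888888997888889897888898897888988897889888897798888897888888799888879988887988888798888879888887988888898888888,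 0xeeefefefefefefefefedeeeeeeeeeeeeedeeecedededededececedebececececebebebeceaebebebeaeaeaeaebe9e8eae9e9e9e9e9eae7e1e8e8e8e8e8e7eae8e7e7e7e7e6e8e9e0e6e6e6e5e7e6e6dfe5e5e4e6e5e5e5dee4e3e5e4e4e4e4dde2e4e3e3e3e3e3dce3e2e2e2e2e2e2dbe1e1e1e1e1e1e0e9e0e0e0e0dfe0e1e7dfdfdfdee0dadfe6dededddfded9dee5dddcdeddddd8dde4dbdddcdcdcd7dce3dcdbdbdbdbd6dbe2dadadad9dadfdadad9d9d8dad5ded9d9d8d7d9d8d4ddd8d8d6d8d7d7d3dcd7d7d7d6d6d6d2dbd6d6d5d5d4d5d9d5cbd5d4d3d5d1d8d4cad4d2d4d3d0d7d3c9d3d3d2d2cfd6d2c8d2d1d0d1d4d1d1c7d1cfd1ced3d0d0c6d0d0cfcdd2cfcfc5cfcdced0cececec4cececccfcdcdcdc3cdcccdccccccccc2cccbcbcacbcbcbd5cbcac9cbc7cacad4cac8cac9c6c9c9d3c9c9c8c8c5c8c8d2c8c7c6c7cac1c7d1c7c5c7c4c9c0c6d0c6c6c5c3c8bfc5cfc5c3c4c6c4bec4cec4c4c2c5c3bdc3cdc3c2c3c2c2bcc2ccc2c1c0c1c1c7b7c1c1bfc1bec0c6b6c0c0c0bfbdbfc5b5bfbfbdbec0bbc4b4bebebebcbfbac3b3bdbdbcbdbcb9c2b2bcbcbabbbbbebbb1bbbbbbb9babdbab0babab9bab8bcb9afb9b9b8b8b9b8b8aeb8b8b7b6b7b7b7c1b7a1b5b7b4b6b6c0b6a0b6b5b3b5b5bfb59fb3b4b6b1b4beb49eb4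b2b5b0b3bdb39db2b3b2afb2bcb29cb0b1b1b4adbbb19bb1afb0b3acbab09aafb0aeb2abb9af99aeaeafaeaab8ae98acadadadb1ada897adabacacb0aca796abacaaabafaba695aaaaaba9aeaaa594a9a9a9aaa9a9a493a7a8a8a8a8a8ad8ca8a6a7a7a7a7ac8ba6a7a5a6a6a6ab8aa5a5a6a4a5a5aa89a4a4a4a5a3a4a988a3a3a3a3a4a2a387a2a2a2a2a2a3a24da1a0a1a1a1a1a1b79fa19ea0a0a0a0b6a09f9d9f9f9f9fb59d9ea09b9e9e9eb49e9c9f9a9d9d9db39c9d9c999c9c9cb29a9b9b9e979b9bb19b999a9d969a9ab0999a989c959999af98989998949898ae969797979b928cad979596969a918bac9596949599908aab94949593988f89aa93939394938e88a99192929292978692929091919196859190918f90909584908f8f908e8f94838f8e8e8e8f8d93828e8d8d8d8d8e8d628d8b8c8c8c8c8697a88c8a8b8b8b8596a78a8b898a8a8495a689898a88898394a588888889878293a487878787886887a385868686818c928686848585808b9185848583847f8a9084838384827e898f83828282836d888e828081817d86818181817f807c858080807f807e7b847f7f7f7e7e7f71837e7e7e7c7d7a817d7d7d7d7d7b79807c7c7c7c7b7c747f7b7b7b7b79787d7a7a7a7a7a7a767c7979797979777a7878787878787875777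7777777777579737676767676767772757575757574737b70747474747274766f737373737372756e727272727171707e6c717171706f71746b7070706e706f736a6f6f6f6f6e6e72696e6e6e6d6d6d6c8267616d6c6c6b6d7166606c6b6a6c6b70655f6b696b6a6a6f645e6a6a6969696e635d69686868686787684c67676766686d5c4b66666567666c5b4a65646665656b5a4963656464646a594864636363636958476262626261628d6261616160625c6d6160605f61605b6c605f5e605f5f5a6b5f5d5f5e5e5e596a5e5e5d5d5d5d58695d5c5c5c5b5c6167465b5b5a5c576066455a595b5a565f6544585a5959555e644359585858545d6342575756575b575741565557535a565640545655525955553f555454515854543e535253565353533d515350555252523c52514f545151513b4f5052505050503a504e514f4f4f4f394e4f4e4e4e4e4e384d4d4d4d4d4c4da24c4c4c4c4b4d4c684b4b4b4a4c4b46674a4a494b4a4a456649484a4949494465474948484848436448474747474742634646464546464b5c4545444641454a5b444345444044495a424443433f434859434242423e4247584141404145374157403f413d443640563e403f3c43353f553f3e3e3b42343e543d3c3d403d333d533b3d3a3f3c323c523c3b393e3b31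3b51393a3c3a3a303a503a383b39392f394f38393838382e384e3737363737413737363537333640363634363532353f353535343431343e3434333233362d3d3333313330352c3c323232312f342b3b31312f3032302a3a3030302e312f29392f2f2e2f2e2e28382e2e2d2c2d2d332d232d2b2d2a2c322c222c2c2b292b312b212b292a2c27302a202a2a282b262f291f29282928252e281e282627272a27271d272725262926261c262526242825251b252424252424241a242322232323232d232123202222222c2222211f2121212b211f20221d20202a20201e211c1f1f291f1e1f1e1b1e1e281e1c1d1d20191d271d1d1b1c1f181c261c1b1c1a1e171b251b1a1a1b1a161a241a181919191d141919191718181c131818171816171b121717161617151a1116161515151615101515131414141419140d141213131318130c121311121217120b111112101116110a101010110f1510090f0f0f0f100f0e080e0e0e0e0e0e0f060c0d0d0d0d0d0d140d0b0c0c0c0c0c130b0c0a0b0b0b0b120a0a0b090a0a0a110909090a08090910080808080907060f0707070707080507060606060605080e050505050406070504040403050404040303020403030303020103020202020200020101010101010100000000000000, 0x39383736353433333231302f2e2d3231302f2e2d2c2f2e2d2c2b2d2c2b2a2b2a292928272c2b2a292a292828272629282727262526252423282726262524252423222423222120232221201f1e1d27262525242324232221232221201f2221201f1e1d2221201f1e1d21201f1e1d201f1e1d1f1e1d1e1d1d1c1c1b1c1b1a1c1b1a191c1b1a19181c1b1a1918171c1b1a1918171a19181716181716151615141413121c1b1a191817161918171615171615141514131312111615141314131212111013121111100f100f0e0d121110100f0e0f0e0d0c0e0d0c0b0a0d0c0b0a0908070c0b0a0908070606050403020100,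 0x765431020000001322222433331111111111544433333322222222220000000000000000000000655444333311111111111222222333334444555667655444333311111000000322222000000000000000231111143333222222222254443333331111111111655444333322222000000076543112345670⟩ 255 7 127
    [0, 1, 2, 3, 4, 5, 6, 6, 7, 8, 9, 10, 11, 12, 7, 8, 9, 10, 11, 12, 13, 10, 11, 12, 13, 14, 12, 13, 14, 15, 14, 15, 16, 16, 17, 18, 13, 14, 15, 16, 15, 16, 17, 17, 18, 19, 16, 17, 18, 18, 19, 20, 19, 20, 21, 22, 17, 18, 19, 19, 20, 21, 20, 21, 22, 23, 21, 22, 23, 24, 25, 22, 23, 24, 25, 26, 27, 28, 18, 19, 20, 20, 21, 22, 21, 22, 23, 24, 22, 23, 24, 25, 26, 23, 24, 25, 26, 27, 28, 23, 24, 25, 26, 27, 28, 24, 25, 26, 27, 28, 25, 26, 27, 28, 26, 27, 28, 27, 28, 28, 29, 29, 30, 29, 30, 31, 29, 30, 31, 32, 29, 30, 31, 32, 33, 29, 30, 31, 32, 33, 34, 29, 30, 31, 32, 33, 34, 31, 32, 33, 34, 35, 33, 34, 35, 36, 35, 36, 37, 37, 38, 39, 29, 30, 31, 32, 33, 34, 35, 32, 33, 34, 35, 36, 34, 35, 36, 37, 36, 37,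 38, 38, 39, 40, 35, 36, 37, 38, 37, 38, 39, 39, 40, 41, 38, 39, 40, 40, 41, 42, 41, 42, 43, 44, 39, 40, 41, 41, 42, 43, 42, 43, 44, 45, 43, 44, 45, 46, 47, 44, 45, 46, 47, 48, 49, 50, 45, 46, 47, 48, 49, 50, 51, 51, 52, 53, 54, 55, 56, 57] (by decide +kernel) (by decide +kernel)]
  simp only [List.map_cons, List.map_nil, List.sum_cons, List.sum_nil]
  ring

set_option maxRecDepth 4000 in
theorem poinE8_127 {R : Type*} [CommSemiring R] (q : R) : poin (nodeSet chevE8 127) q =
    (q ^ 0 + q ^ 1 + q ^ 2 + q ^ 3 + q ^ 4 + 2 * q ^ 5 + 2 * q ^ 6 + 2 * q ^ 7 + 2 * q ^ 8 + 3 * q ^ 9 + 3 * q ^ 10 + 3 * q ^ 11 + 3 * q ^ 12 + 3 * q ^ 13 + 3 * q ^ 14 + 3 * q ^ 15 + 3 * q ^ 16 + 3 * q ^ 17 + 3 * q ^ 18 + 2 * q ^ 19 + 2 * q ^ 20 + 2 * q ^ 21 + 2 * q ^ 22 + q ^ 23 + q ^ 24 + q ^ 25 + q ^ 26 + q ^ 27) * poin (nodeSet chevE8 63) q := by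
  rw [poin_of_chk agreeE8 ⟨56, 0xb7888888a9788888a8978888a8897888a8889778a8888977a8888798a8887997a8879887a8798887a798888799888887a8888879a8887899a8879789a8798789a798878999888789a8878988a8797988a798798899887988a8789878a797987899879878a78988789979887898988878a8788898a797889899878898a78978989979789898987898a7889788997897889897978898898788a78889879978898798978987988979879888987798888897a78888899978888998978889988978899888977998888978988887999888799898879888987988889798888889888888, 0x363737373737370037353636363636003536343535353500343435333434340033333334323133003232323233302b0031313131303331003030302f31322a002f2f2e302f2f29002e2d2f2e2e2e28002c2e2d2d2d2d27002d2c2c2c2c2c26002b2b2b2b2b2a32002a2a2a292a2b30002929282a25292f002827292824282e002628272723272d002726262622262c002525242529252500242325212824240022242320272323002322221f2622220021202124211b21001f211e23201a2000201f1d221f191f001d1e201e1e181e001e1c1f1d1d171d001c1d1c1c1c161c001b1a1b1b1b211b00191b181a1a201a001a191719191f190017181a15181e180018161914171d170016171613161c160014151518111515001513141710141400131412160f131300121213120e1212001011111115110b00110f101014100a000f100e0f130f09000e0e0f0d120e08000d0d0d0e0d0c07000c0c0c0c0c0d05000a0b0b0b0b0b11000b090a0a0a0a1000090a080909090f000808090708080e000707070806050d0006060606070406000505050504070c00040404030506040003030204030303000201030202020200000201010101010001000000000000,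 0x1b1a191817161615141312111514131211101211100f100f0e0e0d0c0f0e0d0d0c0b0c0b0a090b0a090807060a0908070605050403020100, 0x65431020000013222243331111115443332222000000654311234560⟩ 127 6 63
    [0, 1, 2, 3, 4, 5, 5, 6, 7, 8, 9, 10, 6, 7, 8, 9, 10, 11, 9, 10, 11, 12, 11, 12, 13, 13, 14, 15, 12, 13, 14, 14, 15, 16, 15, 16, 17, 18, 16, 17, 18, 19, 20, 21, 17, 18, 19, 20, 21, 22, 22, 23, 24, 25, 26, 27] (by decide +kernel) (by decide +kernel)]
  simp only [List.map_cons, List.map_nil, List.sum_cons, List.sum_nil]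
  ring

set_option maxRecDepth 4000 in
theorem poinE8_63 {R : Type*} [CommSemiring R] (q : R) : poin (nodeSet chevE8 63) q =
    (q ^ 0 + q ^ 1 + q ^ 2 + q ^ 3 + 2 * q ^ 4 + 2 * q ^ 5 + 2 * q ^ 6 + 2 * q ^ 7 + 3 * q ^ 8 + 2 * q ^ 9 + 2 * q ^ 10 + 2 * q ^ 11 + 2 * q ^ 12 + q ^ 13 + q ^ 14 + q ^ 15 + q ^ 16) * poin (nodeSet chevE8 62) q := by
  rw [poin_of_chk agreeE8 ⟨27, 0x8a7888888997888889897888898897788988897789888798898879978987988789798887889888878988887989887899898797898979878988988789898789888979798888987988897898788897987888898878897888988897889888897898888897888888898788888889, 0x191a1a1a1a1a00001a18191919190000181917181818000017171816151700001616161714100000151515141715000014141315160f000013121413130e000011131212120d000012111111110c0000101010100f1600000f0f0e0f101400000e0d0f0b0e1300000c0e0d0a0d1200000d0c0c090c1100000b0a0b0e0b0b0000090b080d0a0a00000a09070c0909000007080a08050800000806090704070000060706060306000004050505080500000503040407040000030402030603000002020301020200000101010201000000000000000001,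 0x100f0e0d0c0c0b0a09080b0a090807080706060504050403020100, 0x543102000013222433111543200⟩ 63 0 62
    [0, 1, 2, 3, 4, 5, 4, 5, 6, 6, 7, 8, 7, 8, 9, 10, 11, 8, 9, 10, 11, 12, 12, 13, 14, 15, 16] (by decide +kernel) (by decide +kernel)]
  simp only [List.map_cons, List.map_nil, List.sum_cons, List.sum_nil]
  ring

set_option maxRecDepth 4000 in
theorem poinE8_62 {R : Type*} [CommSemiring R] (q : R) : poin (nodeSet chevE8 62) q =
    (q ^ 0 + q ^ 1 + q ^ 2 + q ^ 3 + 2 * q ^ 4 + q ^ 5 + q ^ 6 + q ^ 7 + q ^ 8) * poin (nodeSet chevE8 30) q := by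
  rw [poin_of_chk agreeE8 ⟨10, 0x8a788889899788898989788989889779898889788988879989887998898798888979888888988888, 0x80909090900000009070808080000000708060707000000060607050400000005050506030000000404040306000000030302040500000002010302020000000002010101000000010000000000, 0x8070605040403020100, 0x5431123450⟩ 62 5 30
    [0, 1, 2, 3, 4, 4, 5, 6, 7, 8] (by decide +kernel) (by decide +kernel)]
  simp only [List.map_cons, List.map_nil, List.sum_cons, List.sum_nil]
  ring

set_option maxRecDepth 4000 in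
theorem poinE8_30 {R : Type*} [CommSemiring R] (q : R) : poin (nodeSet chevE8 30) q =
    (q ^ 0 + q ^ 1 + q ^ 2 + 2 * q ^ 3 + q ^ 4 + q ^ 5 + q ^ 6) * poin (nodeSet chevE8 28) q := by
  rw [poin_of_chk agreeE8 ⟨8, 0x8898887988987899889797898889878988978988888979888888987888888898, 0x7070706000000000605060700000000040603050000000005040204000000000203050300000000030104020000000001020100000000000000000100, 0x605040303020100, 0x13224310⟩ 30 1 28
    [0, 1, 2, 3, 3, 4, 5, 6] (by decide +kernel) (by decide +kernel)]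
  simp only [List.map_cons, List.map_nil, List.sum_cons, List.sum_nil]
  ring

set_option maxRecDepth 4000 in
theorem poinE8_28 {R : Type*} [CommSemiring R] (q : R) : poin (nodeSet chevE8 28) q =
    (q ^ 0 + q ^ 1 + q ^ 2 + q ^ 3) * poin (nodeSet chevE8 24) q := by
  rw [poin_of_chk agreeE8 ⟨4, 0x88978899888978998888978988888988, 0x203030000000000030102000000000001020000000000000000010000, 0x3020100, 0x4320⟩ 28 2 24
    [0, 1, 2, 3] (by decide +kernel) (by decide +kernel)]
  simp only [List.map_cons, List.map_nil, List.sum_cons, List.sum_nil]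
  ring

set_option maxRecDepth 4000 in
theorem poinE8_24 {R : Type*} [CommSemiring R] (q : R) : poin (nodeSet chevE8 24) q =
    (q ^ 0 + q ^ 1 + q ^ 2) * poin (nodeSet chevE8 16) q := by
  rw [poin_of_chk agreeE8 ⟨3, 0x889789988889799888889888, 0x10200000000000002000000000000000001000000, 0x20100, 0x430⟩ 24 3 16
    [0, 1, 2] (by decide +kernel) (by decide +kernel)]
  simp only [List.map_cons, List.map_nil, List.sum_cons, List.sum_nil]
  ring

set_option maxRecDepth 4000 in
theorem poinE8_16 {R : Type*} [CommSemiring R] (q : R) : poin (nodeSet chevE8 16) q =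
    (q ^ 0 + q ^ 1) * poin (nodeSet chevE8 0) q := by
  rw [poin_of_chk agreeE8 ⟨2, 0x8897988888898888, 0x100000000, 0x100, 0x40⟩ 16 4 0
    [0, 1] (by decide +kernel) (by decide +kernel)]
  simp only [List.map_cons, List.map_nil, List.sum_cons, List.sum_nil]
  ring

theorem poinE8 {R : Type*} [CommRing R] (q : R) : (q - 1) ^ 8 * poin (Set.univ : Set (Node chevE8)) q =
    (q ^ 2 - 1) * (q ^ 8 - 1) * (q ^ 12 - 1) * (q ^ 14 - 1) * (q ^ 18 - 1) * (q ^ 20 - 1) * (q ^ 24 - 1) * (q ^ 30 - 1) := by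
  rw [← nodeSet_full (l := 8) rfl, show 2 ^ 8 - 1 = 255 from rfl, poinE8_255, poinE8_127, poinE8_63, poinE8_62, poinE8_30, poinE8_28, poinE8_24, poinE8_16, nodeSet_zero, poin_empty]
  ring

theorem card_WeylE8 : Nat.card (Weyl chevE8) = 696729600 := by
  rw [card_Weyl, ← nodeSet_full (l := 8) rfl, show 2 ^ 8 - 1 = 255 from rfl, poinE8_255, poinE8_127, poinE8_63, poinE8_62, poinE8_30, poinE8_28, poinE8_24, poinE8_16, nodeSet_zero, poin_empty]
  norm_num

theorem coxE8 : ∃ cs : CoxeterSystem CoxeterMatrix.E₈ (Weyl chevE8), ∀ i, cs.simple i = sW (D := chevE8) i :=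
  exists_cox agreeE8 CoxeterMatrix.E₈ (show ∀ i j : Fin 8, fastE8.chkOrd [i, j] (CoxeterMatrix.E₈ i j) = true by decide +kernel)

theorem coxOrdE8 : orderOf (wp (sW (D := chevE8)) (List.finRange 8)) = 30 :=
  orderOf_of_chk agreeE8 _ _ (by decide +kernel)

theorem kerE8 (M : Type*) [CommGroup M] [IsCyclic M] [Finite M] :
    Nat.card (mact (M := M) (cartanM chevE8)).ker = 1 := by
  have h : cartanM chevE8 = lmat 8 [[2, 0, -1, 0, 0, 0, 0, 0], [0, 2, 0, -1, 0, 0, 0, 0], [-1, 0, 2, -1, 0, 0, 0, 0], [0, -1, -1, 2, -1, 0, 0, 0], [0, 0, 0, -1, 2, -1, 0, 0], [0, 0, 0, 0, -1, 2, -1, 0], [0, 0, 0, 0, 0, -1, 2, -1], [0, 0, 0, 0, 0, 0, -1, 2]] := by ext i j; exact cartanE8 i j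
  rw [h]
  refine (card_ker_of_smith (ι := Fin 8) (P := lmat 8 [[-1, 0, 0, 0, 0, 0, 0, 0], [0, -1, 0, 0, 0, 0, 0, 0], [1, -2, 0, -1, 0, 0, 0, 0], [2, -3, 0, -2, -1, 0, 0, 0], [3, -4, 0, -3, -2, -1, 0, 0], [4, -5, 0, -4, -3, -2, -1, 0], [-2, 1, -1, 0, 0, 0, 0, 0], [-3, -2, -4, -5, -4, -3, -2, -1]]) (P' := lmat 8 [[-1, 0, 0, 0, 0, 0, 0, 0], [0, -1, 0, 0, 0, 0, 0, 0], [2, -1, 0, 0, 0, 0, -1, 0], [-1, 2, -1, 0, 0, 0, 0, 0], [0, -1, 2, -1, 0, 0, 0, 0], [0, 0, -1, 2, -1, 0, 0, 0], [0, 0, 0, -1, 2, -1, 0, 0], [0, 0, 0, 0, -1, 2, 4, -1]])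
    (Q := lmat 8 [[0, 0, 0, 0, 0, 0, 1, -2], [0, 0, 0, 0, 0, 0, 2, -3], [1, 0, 0, 0, 0, 0, 2, -4], [0, 1, 0, 0, 0, 0, 4, -6], [0, 0, 1, 0, 0, 0, 4, -5], [0, 0, 0, 1, 0, 0, 4, -4], [0, 0, 0, 0, 1, 0, 4, -3], [0, 0, 0, 0, 0, 1, 4, -2]]) (Q' := lmat 8 [[-2, 0, 1, 0, 0, 0, 0, 0], [0, -2, 0, 1, 0, 0, 0, 0], [2, -3, 0, 0, 1, 0, 0, 0], [4, -4, 0, 0, 0, 1, 0, 0], [6, -5, 0, 0, 0, 0, 1, 0], [8, -6, 0, 0, 0, 0, 0, 1], [-3, 2, 0, 0, 0, 0, 0, 0], [-2, 1, 0, 0, 0, 0, 0, 0]]) (d := fun i => [1, 1, 1, 1, 1, 1, 1, 1].getD i 0)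
    (by decide +kernel) (by decide +kernel) (by decide +kernel)).trans ?_
  simp [Fin.prod_univ_succ]

variable {D : ChevalleyDatum} [Good D] [Cert D] {K : Type*} [Field K] [Finite K]

omit [Cert D] [Finite K] in
theorem card_diag_mul : Nat.card (mact (M := Kˣ) (cartanM D)).ker * Nat.card (D.diagonalSubgroup K) =
    (Nat.card K - 1) ^ D.rank := by
  rw [diagonalSubgroup_eq, card_H_mul, Nat.card_units]

omit [Cert D] in
theorem poin_cast (J : Set (Node D)) (q : ℕ) : ((poin J q : ℕ) : ℤ) = poin J (q : ℤ) := by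
  simp [poin]

/-- the order formula: `d |G| = q^N (q-1)^l P(q)` -/
theorem card_group_mul : ((Nat.card (mact (M := Kˣ) (cartanM D)).ker * Nat.card (D.group K) : ℕ) : ℤ) =
    (Nat.card K : ℤ) ^ (D.nroots / 2) * (((Nat.card K : ℤ) - 1) ^ D.rank * poin (Set.univ : Set (Node D)) (Nat.card K : ℤ)) := by
  have h := card_H_mul (D := D) (K := K)
  rw [Nat.card_units] at h
  have h1 : 1 ≤ Nat.card K := Nat.card_pos
  zify [h1] at h
  rw [group_eq, StSys.card_grp, ← h, ← poin_cast]
  push_cast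
  ring

end H11
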