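import Cfsg.Agent.H24.Alt
import Cfsg.Agent.H02.Fitting

/-! Lifting fusion from sections (`sec_lift`, `exists_conj_pow`), 2-subgroups of `SL₂`, involution centralizers covered by
commuting copies of `SL₂` (`Cov`) and the exclusion of the section A₈ (`no_A8`). -/

namespace H11
open Subgroup
open scoped MatrixGroups Pointwise

variable {G A : Type*} [Group G] [Group A]

theorem exists_pow_part [Finite G] (g : G) {r : ℕ} (hr : r.Prime) (t : ℕ) :
    ∃ k s, (g ^ (1 + r ^ t * k)) ^ r ^ s = 1 := by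
  obtain ⟨s, m, h1, h2⟩ := Nat.exists_eq_pow_mul_and_not_dvd (orderOf_pos g).ne' r hr.ne_one
  have h0 : 0 < m := Nat.pos_of_ne_zero (by rintro rfl; simp at h1)
  obtain ⟨k, -, hk⟩ := Nat.exists_mul_mod_eq_of_coprime (m - 1) ((hr.coprime_iff_not_dvd.2 h1).pow_left t) h0.ne'
  obtain ⟨c, hc⟩ : m ∣ 1 + r ^ t * k := by
    refine (Nat.ModEq.dvd_iff (Nat.ModEq.add_left 1 hk) dvd_rfl).2 (by rw [show 1 + (m - 1) = m by omega])
  exact ⟨k, s, by rw [hc, ← pow_mul, mul_right_comm, mul_comm m, ← h2, pow_mul, pow_orderOf_eq_one, one_pow]⟩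

theorem sec_lift [Finite G] {π : G →* A} (hπ : Function.Surjective π) {l r t : ℕ} [Fact l.Prime] (hr : r.Prime) {V : Subgroup A}
    (hV : IsPGroup l V) (hc : ∀ u ∈ V, ∀ v ∈ V, u * v = v * u) {b : A} (hb : b ∈ normalizer (V : Set A))
    (ht : ∀ u ∈ V, b ^ r ^ t * u = u * b ^ r ^ t) : ∃ Q : Subgroup G, IsPGroup l Q ∧ Q.map π = V ∧
      (∀ y n, π y = 1 → y ^ l ^ n = 1 → ∃ h, h * y * h⁻¹ ∈ Q) ∧
      ∃ g s, g ^ r ^ s = 1 ∧ g ∈ normalizer (Q : Set G) ∧ ∀ u ∈ V, π g * u * (π g)⁻¹ = b * u * b⁻¹ := by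
  let M := V.comap π
  let P : Sylow l M := default
  let f : M →* V := (π.comp M.subtype).codRestrict V fun x => x.2
  have hf : Function.Surjective f := fun v => let ⟨x, hx⟩ := hπ v; ⟨⟨x, show π x ∈ V from hx ▸ v.2⟩, Subtype.ext hx⟩
  have h1 : (P.mapSurjective hf : Subgroup V) = ⊤ := ((P.mapSurjective hf).3 (hV.to_subgroup ⊤) le_top).symm
  have h2 (Q : Subgroup G) (h : IsPGroup l Q) (hM : Q ≤ M) : ∃ m : M, ∀ y ∈ Q, m.1 * y * m.1⁻¹ ∈ (P : Subgroup M).map M.subtype := by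
    obtain ⟨P', h3⟩ := (h.comap_of_injective M.subtype M.subtype_injective).exists_le_sylow
    obtain ⟨m, e⟩ := MulAction.exists_smul_eq M P' P
    exact ⟨m, fun y hy => ⟨m * ⟨y, hM hy⟩ * m⁻¹, e ▸ smul_mem_pointwise_smul _ (MulAut.conj m) _ (h3 hy), rfl⟩⟩
  have h3 : ((P : Subgroup M).map M.subtype).map π = V := le_antisymm (map_le_iff_le_comap.2 (map_subtype_le _)) fun v hv => by
    obtain ⟨x, hx, e⟩ := h1.ge (mem_top (⟨v, hv⟩ : V))
    exact ⟨_, ⟨x, hx, rfl⟩, congrArg Subtype.val e⟩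
  have h4 := P.isPGroup'.map M.subtype
  have h5 : (P : Subgroup M).map M.subtype ≤ M := map_subtype_le _
  generalize (P : Subgroup M).map M.subtype = Q at *
  refine ⟨Q, h4, h3, fun y n e1 e2 => ?_, ?_⟩
  · obtain ⟨m, hm⟩ := h2 (zpowers y) (IsPGroup.iff_card.2 (by
      rw [Nat.card_zpowers]; exact ((Nat.dvd_prime_pow Fact.out).1 (orderOf_dvd_of_pow_eq_one e2)).imp fun _ h => h.2))
      (zpowers_le.2 (show π y ∈ V from e1 ▸ one_mem _))
    exact ⟨m, hm y (mem_zpowers y)⟩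
  obtain ⟨g, rfl⟩ := hπ b
  obtain ⟨m, hm⟩ := h2 (Q.map (MulAut.conj g).toMonoidHom) (h4.map _) (by
    rintro _ ⟨y, hy, rfl⟩; simpa [M] using (mem_normalizer_iff.1 hb _).1 (h5 hy))
  have h6 : m.1 * g ∈ normalizer (Q : Set G) := mem_normalizer_fintype fun y hy => by
    simpa [mul_assoc] using hm _ ⟨y, hy, rfl⟩
  have h7 (u) (hu : u ∈ V) : π (m.1 * g) * u * (π (m.1 * g))⁻¹ = π g * u * (π g)⁻¹ := by
    have := hc _ m.2 _ ((mem_normalizer_iff.1 hb _).1 hu)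
    rw [map_mul, mul_inv_rev, ← mul_assoc, mul_assoc (π m.1), mul_assoc (π m.1), this, mul_inv_cancel_right]
  have h8 (n u) (hu : u ∈ V) : π (m.1 * g) ^ n * u * (π (m.1 * g) ^ n)⁻¹ = π g ^ n * u * (π g ^ n)⁻¹ := by
    induction n generalizing u with
    | zero => simp
    | succ n ih =>
      have := ih _ ((mem_normalizer_iff.1 hb _).1 hu)
      rw [← h7 u hu] at this
      rw [pow_succ, pow_succ, mul_inv_rev, mul_inv_rev]
      calc _ = π (m.1 * g) ^ n * (π (m.1 * g) * u * (π (m.1 * g))⁻¹) * (π (m.1 * g) ^ n)⁻¹ := by group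
        _ = _ := by rw [this, h7 u hu]; group
  obtain ⟨k, s, e1⟩ := exists_pow_part (m.1 * g) hr t
  refine ⟨_, s, e1, pow_mem h6 _, fun u hu => ?_⟩
  rw [map_pow, h8 _ u hu, pow_add, pow_mul, pow_one, mul_assoc (π g), (Commute.pow_left (ht u hu) k).eq]; group

theorem exists_conj_pow [Finite G] {π : G →* A} (hπ : Function.Surjective π) {l r t k : ℕ} [hl : Fact l.Prime] (hr : r.Prime)
    (hlr : l ≠ r) {a b : A} (ha : orderOf a = l) (hb : b * a * b⁻¹ = a ^ k) (hk : k ^ r ^ t ≡ 1 [MOD l]) :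
    ∃ y : G, orderOf y = l ∧ IsConj y (y ^ k) := by
  classical
  have := Fact.mk hr
  have := Finite.of_surjective π hπ
  have h0 (n) : b ^ n * a * (b ^ n)⁻¹ = a ^ k ^ n := by
    induction n with
    | zero => simp
    | succ n ih => rw [pow_succ', mul_inv_rev, pow_succ', pow_mul, ← hb, conj_pow, ← ih]; group
  obtain ⟨Q, h1, h2, -, g, s, h3, h4, h5⟩ := sec_lift hπ (l := l) (t := t) hr (V := zpowers a)
    (IsPGroup.of_card (n := 1) (by rw [Nat.card_zpowers, ha, pow_one])) (by rintro _ ⟨i, rfl⟩ _ ⟨j, rfl⟩; exact zpow_mul_comm ..) (b := b)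
    (mem_normalizer_fintype (by rintro _ ⟨i, rfl⟩; rw [← conj_zpow, hb]; exact zpow_mem (npow_mem_zpowers ..) _)) (by
      rintro _ ⟨i, rfl⟩
      refine (Commute.zpow_right (mul_inv_eq_iff_eq_mul.1 ((h0 _).trans ?_)) i).eq
      rw [← pow_mod_orderOf, ha, hk, ← ha, pow_mod_orderOf, pow_one])
  obtain ⟨e, he⟩ := IsPGroup.iff_card.1 h1
  have h6 (y) (hy : y ∈ Q) : y ^ l ^ e = 1 := by simpa [he] using congrArg Subtype.val (pow_card_eq_one' (x := (⟨y, hy⟩ : Q)))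
  let k' := k ^ l ^ e
  have h7 : k' ≡ k [MOD l] := (ZMod.natCast_eq_natCast_iff ..).1 (by push_cast [k']; exact ZMod.pow_card_pow _)
  have h8 : k' ^ r ^ t ≡ 1 [MOD l ^ e] := by
    rw [← pow_mul, mul_comm, pow_mul]
    have := dvd_sub_pow_of_dvd_sub (R := ℤ) hk.dvd e
    exact (Nat.modEq_iff_dvd.2 (by push_cast at this ⊢; simpa using this)).of_dvd (pow_dvd_pow l e.le_succ)
  let X := {y : G // y ∈ Q ∧ π y = a}
  let f : X → X := fun y => ⟨g⁻¹ * y.1 ^ k' * g, (mem_normalizer_iff''.1 h4 _).1 (pow_mem y.2.1 _), by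
    rw [map_mul, map_mul, map_pow, y.2.2, map_inv, ← pow_mod_orderOf, ha, h7, ← ha, pow_mod_orderOf, ← hb, ← h5 a (mem_zpowers a)]; group⟩
  have h9 (n) (y : X) : (f^[n] y).1 = (g ^ n)⁻¹ * y.1 ^ k' ^ n * g ^ n := by
    induction n with
    | zero => simp
    | succ n ih => rw [Function.iterate_succ_apply']; simp only [f, ih]; rw [pow_succ k', pow_mul, pow_succ g, ← inv_inv (g ^ n), inv_inv (g ^ n)⁻¹, conj_pow]; group
  have h10 (y : X) : f^[r ^ (s + t)] y = y := Subtype.ext (by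
    rw [h9, pow_add, pow_mul g, h3, mul_comm (r ^ s), pow_mul k', pow_eq_pow_mod _ (h6 _ y.2.1), show _ % _ = _ from h8.pow _, one_pow, one_pow,
      ← pow_eq_pow_mod _ (h6 _ y.2.1)]; simp)
  have := Fintype.ofFinite X
  let σ : Equiv.Perm X := Equiv.ofBijective f (Finite.injective_iff_bijective.1 (Function.Injective.of_comp (f := f^[r ^ (s + t) - 1]) (by
    rw [← Function.iterate_succ, Nat.succ_eq_add_one, Nat.sub_add_cancel (Nat.one_le_pow _ _ hr.pos), funext h10]; exact fun _ _ h => h)))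
  obtain ⟨y0, hy0 : y0 ∈ Q, e0⟩ := h2.ge (mem_zpowers a)
  have h11 : Fintype.card X = Nat.card ↥(Q ⊓ π.ker) := by
    rw [← Nat.card_eq_fintype_card]
    exact Nat.card_congr ⟨fun y => ⟨y0⁻¹ * y, Q.mul_mem (Q.inv_mem hy0) y.2.1, by simp [y.2.2, e0]⟩,
      fun y => ⟨y0 * y, mul_mem hy0 y.2.1, by rw [map_mul, e0, y.2.2, mul_one]⟩, fun y => by simp, fun y => by simp⟩
  obtain ⟨y, hy⟩ := Equiv.Perm.exists_fixed_point_of_prime (p := r) (n := s + t) (σ := σ) (fun h => by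
    rw [h11] at h
    exact hlr ((Nat.prime_dvd_prime_iff_eq hr hl.out).1 (hr.dvd_of_dvd_pow (he ▸ h.trans (card_dvd_of_le inf_le_left)))).symm)
    (Equiv.ext fun y => by rw [← h10 y, Equiv.Perm.coe_pow, h10]; exact h10 y)
  obtain ⟨j, -, hj⟩ := (Nat.dvd_prime_pow hl.out).1 (orderOf_dvd_of_pow_eq_one (h6 _ y.2.1))
  obtain _ | j := j
  · exact absurd (ha.symm.trans (by rw [← y.2.2, orderOf_eq_one_iff.1 hj, map_one, orderOf_one])) hl.out.ne_one
  have h12 : orderOf (y.1 ^ l ^ j) = l := by rw [orderOf_pow, hj, Nat.gcd_eq_right (pow_dvd_pow _ j.le_succ), pow_succ, Nat.mul_div_cancel_left _ (pow_pos hl.out.pos _)]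
  refine ⟨_, h12, isConj_iff.2 ⟨g, ?_⟩⟩
  rw [← pow_eq_pow_iff_modEq.2 (h12.symm ▸ h7 :), ← conj_pow, ← pow_mul, mul_comm _ k', pow_mul]
  congr 1
  have : g⁻¹ * y.1 ^ k' * g = y := congrArg Subtype.val hy
  conv_lhs => rw [← this]
  group

theorem exists_fix {x : G} {p n : ℕ} [Fact p.Prime] (hx : x ^ p ^ n = 1) {X : Set G} (hX : X.Finite) (h : ¬ p ∣ X.ncard)
    (h1 : ∀ a, x * a * x⁻¹ ∈ X ↔ a ∈ X) : ∃ a ∈ X, x * a = a * x := by
  have := hX.fintype
  obtain ⟨a, ha⟩ := Equiv.Perm.exists_fixed_point_of_prime (p := p) (n := n) (σ := (MulAut.toPerm _ (MulAut.conj x)).subtypePerm (p := (· ∈ X)) h1)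
    (by rwa [← Nat.card_eq_fintype_card]) (by
      refine (Equiv.Perm.subtypePerm_pow _ _ _).trans (Equiv.ext fun a => Subtype.ext ?_)
      change ((MulAut.toPerm _ (MulAut.conj x)) ^ p ^ n) a.1 = a.1
      rw [← map_pow, ← map_pow, hx]; simp)
  exact ⟨a, a.2, mul_inv_eq_iff_eq_mul.1 (congrArg Subtype.val ha)⟩

section sl2
variable {K : Type*} [Field K] (h2 : (2 : K) ≠ 0)

theorem sl2_ext {a b : SL(2, K)} (h : a.1 0 0 = b.1 0 0 ∧ a.1 0 1 = b.1 0 1 ∧ a.1 1 0 = b.1 1 0 ∧ a.1 1 1 = b.1 1 1) : a = b :=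
  Subtype.ext (Matrix.ext fun i j => by fin_cases i <;> fin_cases j; exacts [h.1, h.2.1, h.2.2.1, h.2.2.2])

theorem sl2_ent {a b : SL(2, K)} (h : a = b) : a.1 0 0 = b.1 0 0 ∧ a.1 0 1 = b.1 0 1 ∧ a.1 1 0 = b.1 1 0 ∧ a.1 1 1 = b.1 1 1 := by
  simp [h]

theorem sl2_det (a : SL(2, K)) : a.1 0 0 * a.1 1 1 - a.1 0 1 * a.1 1 0 = 1 := Matrix.det_fin_two a.1 ▸ a.2

theorem sl2_lin {a y : SL(2, K)} (h1 : a ≠ 1) (h1' : a ≠ -1) (h : y * a = a * y) : ∃ s t : K, y.1 = s • 1 + t • a.1 := by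
  obtain ⟨e1, e2, e3, e4⟩ := sl2_ent h
  simp only [Matrix.SpecialLinearGroup.coe_mul, Matrix.mul_apply, Fin.sum_univ_two] at e1 e2 e3 e4
  have key (t : K) (a1 : y.1 0 1 = t * a.1 0 1) (a2 : y.1 1 0 = t * a.1 1 0) (a3 : y.1 0 0 - y.1 1 1 = t * (a.1 0 0 - a.1 1 1)) :
      ∃ s t : K, y.1 = s • 1 + t • a.1 := ⟨y.1 0 0 - t * a.1 0 0, t, Matrix.ext fun i j => by
    fin_cases i <;> fin_cases j <;> simp [a1, a2]; linear_combination -a3⟩
  by_cases b1 : a.1 0 1 = 0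
  · by_cases b2 : a.1 1 0 = 0
    · have b3 : a.1 0 0 - a.1 1 1 ≠ 0 := fun b3 => by
        have := sl2_det a
        rcases sq_eq_one_iff.1 (show a.1 0 0 ^ 2 = 1 by linear_combination this + a.1 0 0 * b3 + a.1 1 0 * b1) with e | e
        · exact h1 (sl2_ext (by simp [b1, b2, ← sub_eq_zero.1 b3, e]))
        · exact h1' (sl2_ext (by simp [b1, b2, ← sub_eq_zero.1 b3, e]))
      refine key ((y.1 0 0 - y.1 1 1) / (a.1 0 0 - a.1 1 1)) (mul_left_cancel₀ b3 ?_) (mul_left_cancel₀ b3 ?_) (by field_simp)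
      · rw [b1] at e2 ⊢; linear_combination -e2
      · rw [b2] at e3 ⊢; linear_combination e3
    · refine key (y.1 1 0 / a.1 1 0) ?_ (by field_simp) ?_ <;> field_simp
      · linear_combination e1
      · linear_combination -e3
  · refine key (y.1 0 1 / a.1 0 1) (by field_simp) ?_ ?_ <;> field_simp
    · linear_combination -e1
    · linear_combination e2

theorem sl2_comm {a x y : SL(2, K)} (h1 : a ≠ 1) (h1' : a ≠ -1) (hx : x * a = a * x) (hy : y * a = a * y) : x * y = y * x := by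
  obtain ⟨s, t, e⟩ := sl2_lin h1 h1' hx
  refine Subtype.ext ?_
  have := congrArg Subtype.val hy
  simp only [Matrix.SpecialLinearGroup.coe_mul] at this ⊢
  simp only [e, mul_add, add_mul, smul_mul_assoc, mul_smul_comm, this, one_mul, mul_one]

theorem sl2_cen {a : SL(2, K)} : a ∈ center SL(2, K) ↔ a = 1 ∨ a = -1 := ⟨fun h => by
  by_contra! h1
  have : (!![1, 1; 0, 1] * !![1, 0; 1, 1] : Matrix (Fin 2) (Fin 2) K) 0 0 = (!![1, 0; 1, 1] * !![1, 1; 0, 1] : Matrix (Fin 2) (Fin 2) K) 0 0 :=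
    (sl2_ent (sl2_comm h1.1 h1.2 (mem_center_iff.1 h ⟨!![1, 1; 0, 1], by simp⟩) (mem_center_iff.1 h ⟨!![1, 0; 1, 1], by simp⟩))).1
  simp at this, by rintro (rfl | rfl) <;> simp [mem_center_iff]⟩

include h2

theorem sl2_neg_ne (a : SL(2, K)) : -a ≠ a := fun e => by
  obtain ⟨e1, e2, -, -⟩ := sl2_ent e
  have := sl2_det a
  simp only [Matrix.SpecialLinearGroup.coe_neg, Matrix.neg_apply] at e1 e2
  exact h2 (by linear_combination -2 * this - a.1 1 1 * e1 + a.1 1 0 * e2)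

theorem sl2_sq {a : SL(2, K)} (h : a * a = 1) : a = 1 ∨ a = -1 := by
  by_contra! h1
  obtain ⟨e1, e2, e3, e4⟩ := sl2_ent (eq_inv_of_mul_eq_one_left h)
  simp [Matrix.SpecialLinearGroup.coe_inv, Matrix.adjugate_fin_two] at e1 e2 e3 e4
  have b1 : a.1 0 1 = 0 := mul_left_cancel₀ h2 (by linear_combination e2)
  have b2 : a.1 1 0 = 0 := mul_left_cancel₀ h2 (by linear_combination e3)
  rcases sq_eq_one_iff.1 (show a.1 1 1 ^ 2 = 1 by linear_combination sl2_det a - a.1 1 1 * e1 + a.1 1 0 * b1) with e | e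
  · exact h1.1 (sl2_ext (by simp [b1, b2, e1, e]))
  · exact h1.2 (sl2_ext (by simp [b1, b2, e1, e]))

theorem sl2_ne {a : SL(2, K)} (h : a * a = -1) : a ≠ 1 ∧ a ≠ -1 :=
  ⟨by rintro rfl; exact sl2_neg_ne h2 1 (by simpa using h.symm), by rintro rfl; exact sl2_neg_ne h2 1 (by simpa using h.symm)⟩

theorem sl2_inv {a b y : SL(2, K)} (h : a * a = -1) (hb : b * a = -(a * b)) (hy : y * a = a * y) : y * b * y = b := by
  obtain ⟨s, t, e⟩ := sl2_lin (sl2_ne h2 h).1 (sl2_ne h2 h).2 hy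
  have h3 := sl2_det y
  have h4 := sl2_det a
  obtain ⟨e1, -, -, e2⟩ := sl2_ent h
  simp [Matrix.mul_apply, e] at e1 e2 h3
  have h5 : a.1 0 0 + a.1 1 1 = 0 := pow_eq_zero_iff two_ne_zero |>.1 (by linear_combination e1 + e2 + 2 * h4)
  have h6 : s * s + t * t = 1 := by linear_combination h3 - s * t * h5 - t * t * h4
  have h7 := congrArg Subtype.val h
  have h8 : a.1 * b.1 = -(b.1 * a.1) := by simpa using congrArg Subtype.val (neg_eq_iff_eq_neg.2 hb).symm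
  refine Subtype.ext ?_
  simp only [Matrix.SpecialLinearGroup.coe_mul, Matrix.SpecialLinearGroup.coe_neg, Matrix.SpecialLinearGroup.coe_one] at h7 ⊢
  simp only [e, mul_add, add_mul, smul_mul_assoc, mul_smul_comm, h8, one_mul, mul_one, neg_mul, mul_assoc, h7, mul_neg]
  refine Eq.trans (b := (s * s + t * t) • b.1) (by module) (by rw [h6, one_smul])

theorem sl2_eq {a c : SL(2, K)} (h : a * a = -1) (h' : c * c = -1) (e : c * a = a * c) : c = a ∨ c = -a := by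
  have : c * a⁻¹ * (c * a⁻¹) = 1 := by
    rw [mul_assoc, ← mul_assoc _ c, (Commute.inv_left e.symm).eq, mul_assoc, ← mul_assoc, ← mul_inv_rev, h, h', mul_inv_cancel]
  exact (sl2_sq h2 this).imp (by simp [mul_inv_eq_one]) (by simp [mul_inv_eq_iff_eq_mul])

theorem sl2_cent {R : Subgroup SL(2, K)} [Finite R] (hR : IsPGroup 2 R) {x : SL(2, K)} {n : ℕ} (hx : x ^ 7 ^ n = 1)
    (hn : x ∈ normalizer (R : Set SL(2, K))) {r : SL(2, K)} (hr : r ∈ R) : r * x = x * r := by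
  classical
  have : Fact (Nat.Prime 7) := ⟨by norm_num⟩
  by_cases h0 : r ∈ center SL(2, K)
  · exact (mem_center_iff.1 h0 x).symm
  have hc := @sl2_cen K _
  let N := (center SL(2, K)).subgroupOf R
  have : Nontrivial (R ⧸ N) := ⟨⟨((⟨r, hr⟩ : R) : R ⧸ N), 1, fun e => h0 ((QuotientGroup.eq_one_iff (N := N) _).1 e)⟩⟩
  have := (hR.to_quotient N).center_nontrivial
  obtain ⟨⟨c, hc1⟩, hc2⟩ := exists_prime_orderOf_dvd_card' (G := center (R ⧸ N)) 2
    ((((hR.to_quotient N).to_subgroup _).card_eq_or_dvd).resolve_left Finite.one_lt_card.ne')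
  obtain ⟨c, rfl⟩ := QuotientGroup.mk_surjective c
  let X := {a : SL(2, K) | a ∈ R ∧ a * a = -1 ∧ ∀ r ∈ R, r * a = a * r ∨ r * a = -(a * r)}
  have h3 : c.1 ∈ X := by
    have a1 : c.1 * c.1 ∈ center SL(2, K) :=
      (QuotientGroup.eq_one_iff (N := N) (c * c)).1 (by simpa [sq, QuotientGroup.mk_mul] using congrArg Subtype.val (orderOf_dvd_iff_pow_eq_one.1 hc2.dvd))
    refine ⟨c.2, (hc.1 a1).resolve_left fun e => ?_, fun r hr => ?_⟩
    · have : (⟨(c : R ⧸ N), hc1⟩ : center (R ⧸ N)) = 1 := Subtype.ext ((QuotientGroup.eq_one_iff c).2 (hc.2 (sl2_sq h2 e)))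
      simp [this] at hc2
    · exact (hc.1 (QuotientGroup.eq (s := N) (a := c * ⟨r, hr⟩) (b := (⟨r, hr⟩ : R) * c) |>.1
        (mem_center_iff.1 hc1 ((⟨r, hr⟩ : R) : R ⧸ N)).symm)).imp (fun e => (inv_mul_eq_one.1 e).symm)
        fun e => (inv_mul_eq_iff_eq_mul.1 e).trans (by simp)
  have h4 : X.Finite := (Set.toFinite (R : Set SL(2, K))).subset fun _ h => h.1
  have h5 : X.ncard ≤ 6 := by
    by_cases h : ∃ b ∈ X, b * c = -(c * b)
    · obtain ⟨b, hb, e⟩ := h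
      refine (Set.ncard_le_ncard (t := ({c.1, -c.1, b, -b, c.1 * b, -(c.1 * b)} : Finset SL(2, K))) fun a ha => ?_).trans
        (by rw [Set.ncard_coe_finset]; exact Finset.card_le_six)
      have k1 := sl2_eq h2 h3.2.1 ha.2.1
      have k2 := sl2_eq h2 hb.2.1 ha.2.1
      have k3 := sl2_eq h2 (a := c * b) (by rw [mul_assoc, ← mul_assoc b, e, neg_mul, mul_neg, mul_assoc, hb.2.1, ← mul_assoc, h3.2.1]; simp)
        ha.2.1
      rcases h3.2.2 a ha.1 with e1 | e1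
      · rcases k1 e1 with e | e <;> simp [e]
      rcases hb.2.2 a ha.1 with e2 | e2
      · rcases k2 e2 with e | e <;> simp [e]
      rcases k3 (by rw [← mul_assoc, e1, neg_mul, mul_assoc, e2, mul_neg, neg_neg, mul_assoc]) with e | e <;> simp [e]
    · refine (Set.ncard_le_ncard (t := ({c.1, -c.1} : Finset SL(2, K))) fun a ha => ?_).trans
        (by rw [Set.ncard_coe_finset]; exact Finset.card_le_two.trans (by decide))
      rcases sl2_eq h2 h3.2.1 ha.2.1 ((h3.2.2 a ha.1).resolve_right fun e => h ⟨a, ha, e⟩) with e | e <;> simp [e]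
  have h6 {y} (hy : y ∈ normalizer (R : Set SL(2, K))) {a} (ha : a ∈ X) : y * a * y⁻¹ ∈ X := by
    refine ⟨(mem_normalizer_iff.1 hy _).1 ha.1, by rw [conj_mul, ha.2.1]; simp, fun r hr => ?_⟩
    refine (ha.2.2 _ ((mem_normalizer_iff''.1 hy _).1 hr)).imp (fun e => ?_) fun e => ?_
    · simpa [mul_assoc] using congrArg (y * · * y⁻¹) e
    · simpa [mul_assoc] using congrArg (y * · * y⁻¹) e
  obtain ⟨a, ha, h7⟩ := exists_fix hx h4 (fun h => by have := Nat.le_of_dvd ((Set.ncard_pos h4).2 ⟨_, h3⟩) h; omega) fun a =>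
    ⟨fun h => by simpa [mul_assoc] using h6 (inv_mem hn) h, h6 hn⟩
  rcases ha.2.2 r hr with e | e
  · exact sl2_comm (sl2_ne h2 ha.2.1).1 (sl2_ne h2 ha.2.1).2 e h7
  have h8 := sl2_inv h2 ha.2.1 e h7
  obtain ⟨k, hk⟩ := hR ⟨x ^ 2, by
    have := mul_mem ((mem_normalizer_iff.1 hn _).1 hr) (inv_mem hr)
    rwa [show x * r * x⁻¹ * r⁻¹ = x ^ 2 by
      rw [← h8, mul_assoc x, mul_assoc x, mul_inv_cancel_right, h8, sq]; simp] at this⟩
  have h9 : x ^ 2 ^ (k + 1) = 1 := by rw [pow_succ', pow_mul]; exact congrArg Subtype.val hk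
  rw [show x = 1 by simpa [(show Nat.Coprime 7 2 by decide).pow n (k + 1)] using pow_gcd_eq_one.2 ⟨hx, h9⟩]; simp

end sl2

/-- the centralizer of `z` is covered by a subgroup of a product of groups `SL₂` -/
def Cov (K ι : Type*) [Field K] (z : G) : Prop := ∃ (C : Subgroup (ι → SL(2, K))) (Φ : C →* G), (∀ g, g * z = z * g → g ∈ Φ.range) ∧
  (∀ a, Φ a = 1 → a.1 = 1 ∨ a.1 = fun _ => -1) ∧ ∀ a, (∀ i, a.1 i = 1 ∨ a.1 i = -1) → Φ a = 1 ∨ Φ a = z

namespace Cov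
variable {K ι : Type*} [Field K] {z : G} (h : Cov K ι z) (h2 : (2 : K) ≠ 0)
include h h2

theorem cent {R : Subgroup G} [Finite R] (hR : IsPGroup 2 R) (hz : ∀ r ∈ R, r * z = z * r) {x : G} {n : ℕ} (hx : x ^ 7 ^ n = 1)
    (hxz : x * z = z * x) (hn : x ∈ normalizer (R : Set G)) {r : G} (hr : r ∈ R) : r * x = x * r := by
  obtain ⟨C, Φ, h3, h4, -⟩ := h
  have h5 (a) (e : Φ a = 1) : a ^ 2 = 1 := Subtype.ext (by rcases h4 a e with e | e <;> ext1 <;> simp [e])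
  obtain ⟨y, rfl⟩ := h3 x hxz
  obtain ⟨r, rfl⟩ := h3 r (hz r hr)
  obtain ⟨k, hk⟩ : Even (7 ^ n + 1) := (Odd.pow (by decide)).add_one
  have h6 : (y ^ (7 ^ n + 1)) ^ 7 ^ n = 1 := by rw [← pow_mul, mul_comm, pow_mul, hk, ← two_mul, pow_mul, h5 _ (by rwa [map_pow]), one_pow]
  have h7 : Φ (y ^ (7 ^ n + 1)) = Φ y := by rw [map_pow, pow_succ, hx, one_mul]
  rw [← h7] at hn ⊢
  generalize y ^ (7 ^ n + 1) = y at *
  have h8 : Finite Φ.ker := Finite.of_injective (fun a : Φ.ker => (⟨a.1.1, h4 a a.2⟩ : ({1, fun _ => -1} : Set (ι → SL(2, K)))))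
    fun a b e => Subtype.ext (Subtype.ext (Subtype.mk.inj e))
  have h9 : Finite (R.comap Φ) := by
    have : Finite ((Φ.subgroupComap R).ker) := Finite.of_injective (fun a : (Φ.subgroupComap R).ker =>
      (⟨a.1.1, congrArg Subtype.val a.2⟩ : Φ.ker)) fun a b e => Subtype.ext (Subtype.ext (Subtype.mk.inj e))
    exact (MonoidHom.finite_iff_finite_ker_range _).2 ⟨this, inferInstance⟩
  have h10 : IsPGroup 2 (R.comap Φ) := fun a => let ⟨k, hk⟩ := hR ⟨_, a.2⟩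
    ⟨k + 1, Subtype.ext (by rw [pow_succ, pow_mul]; exact h5 _ (by simpa using congrArg Subtype.val hk))⟩
  rw [← map_mul, ← map_mul]
  refine congrArg Φ (Subtype.ext (funext fun i => ?_))
  let e : C →* SL(2, K) := (Pi.evalMonoidHom _ i).comp C.subtype
  have : Finite ((R.comap Φ).map e) := Finite.of_surjective _ (e.subgroupMap_surjective _)
  exact sl2_cent h2 (h10.map e) (x := e y) (by rw [← map_pow, h6, map_one]) (le_normalizer_map e ⟨y, le_normalizer_comap Φ hn, rfl⟩) ⟨r, hr, rfl⟩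

theorem mem8 {e f g : G} (he : e * e = 1) (hf : f * f = 1) (h1 : e * z = z * e) (h3 : f * z = z * f) (h4 : f * e = e * f)
    (h5 : e ≠ 1 ∧ e ≠ z) (h6 : f ≠ 1 ∧ f ≠ z) (h7 : e * f ≠ 1 ∧ e * f ≠ z) (g1 : g * z = z * g) (g2 : g * e = e * g) (g3 : g * f = f * g) :
    ∃ s ∈ [1, e, f, e * f], g * s = 1 ∨ g * s = z := by
  obtain ⟨C, Φ, a1, a2, a3⟩ := h
  obtain ⟨e, rfl⟩ := a1 e h1
  obtain ⟨f, rfl⟩ := a1 f h3
  obtain ⟨g, rfl⟩ := a1 g g1
  have k1 {e : C} (he : Φ e * Φ e = 1) (h5 : Φ e ≠ 1 ∧ Φ e ≠ z) (i) : e.1 i * e.1 i = -1 := by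
    rcases a2 (e * e) (by rwa [map_mul]) with h | h
    · exact ((a3 e fun i => sl2_sq h2 (congrFun h i)).elim h5.1 h5.2).elim
    · exact congrFun h i
  have k2 {a b : C} (h : Φ a * Φ b = Φ b * Φ a) : (∀ i, a.1 i * b.1 i = b.1 i * a.1 i) ∨ ∀ i, a.1 i * b.1 i = -(b.1 i * a.1 i) :=
    (a2 (a * b * (b * a)⁻¹) (by simp [h])).imp (fun h i => mul_inv_eq_one.1 (congrFun h i))
      fun h i => (mul_inv_eq_iff_eq_mul.1 (congrFun h i)).trans (by simp)
  have k3 := k1 he h5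
  have k4 := k1 hf h6
  have k5 := k1 (e := e * f) (by rw [map_mul, mul_assoc, ← mul_assoc (Φ f), h4, mul_assoc, hf, mul_one, he]) (by rwa [map_mul])
  have k6 (i) : f.1 i * e.1 i = -(e.1 i * f.1 i) := by
    rcases k2 h4 with h | h
    · have := k5 i
      simp only [coe_mul, Pi.mul_apply] at this
      rw [mul_assoc, ← mul_assoc (f.1 i), h, mul_assoc, k4, ← mul_assoc] at this
      simp only [mul_neg, mul_one, k3, neg_neg] at this
      exact (sl2_neg_ne h2 1 this.symm).elim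
    · exact h i
  have k7 (s : C) (b1 : ∀ i, (g * s).1 i * e.1 i = e.1 i * (g * s).1 i) (b2 : ∀ i, (g * s).1 i * f.1 i = f.1 i * (g * s).1 i) :
      Φ g * Φ s = 1 ∨ Φ g * Φ s = z := map_mul Φ g s ▸ a3 _ fun i => sl2_sq h2 (by
    have := sl2_inv h2 (k3 i) (k6 i) (b1 i)
    rwa [b2, mul_assoc, mul_eq_left] at this)
  rcases k2 g2 with b1 | b1 <;> rcases k2 g3 with b2 | b2
  · exact ⟨1, by simp, map_one Φ ▸ k7 1 (by simpa using b1) (by simpa using b2)⟩
  · exact ⟨Φ e, by simp, k7 e (fun i => by simp only [coe_mul, Pi.mul_apply]; rw [← mul_assoc (e.1 i), ← b1]) fun i => by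
      simp only [coe_mul, Pi.mul_apply]; rw [mul_assoc, ← neg_neg (e.1 i * f.1 i), ← k6, mul_neg, ← mul_assoc, b2]; simp [mul_assoc]⟩
  · exact ⟨Φ f, by simp, k7 f (fun i => by
      simp only [coe_mul, Pi.mul_apply]; rw [mul_assoc, k6, mul_neg, ← mul_assoc, b1]; simp [mul_assoc]) fun i => by
      simp only [coe_mul, Pi.mul_apply]; rw [← mul_assoc (f.1 i), ← b2]⟩
  · exact ⟨Φ e * Φ f, by simp, map_mul Φ e f ▸ k7 (e * f) (fun i => by
      simp only [coe_mul, Pi.mul_apply]; rw [mul_assoc, mul_assoc, k6, ← mul_assoc, ← mul_assoc, b1]; simp [mul_assoc]) fun i => by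
      simp only [coe_mul, Pi.mul_apply]; rw [← mul_assoc (f.1 i), ← neg_neg (f.1 i * _), ← b2, neg_mul, mul_assoc _ (f.1 i), ← mul_assoc (f.1 i), k6]
      simp [mul_assoc]⟩

end Cov

theorem closure_elem {s : Set A} (h : ∀ a ∈ s, a * a = 1 ∧ ∀ c ∈ s, a * c = c * a) :
    (∀ u ∈ closure s, ∀ v ∈ closure s, u * v = v * u) ∧ ∀ u ∈ closure s, u * u = 1 := by
  have h1 : ∀ u ∈ closure s, ∀ v ∈ closure s, u * v = v * u := fun u hu v hv =>
    closure_induction₂ (p := fun u v _ _ => Commute u v) (fun a c ha hc => (h a ha).2 c hc) (fun _ _ => .one_left _) (fun _ _ => .one_right _)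
      (fun _ _ _ _ _ _ => .mul_left) (fun _ _ _ _ _ _ => .mul_right) (fun _ _ _ _ => .inv_left) (fun _ _ _ _ => .inv_right) hu hv
  refine ⟨h1, fun u hu => closure_induction (fun a ha => (h a ha).1) (one_mul _) (fun a c ha hc e1 e2 => ?_) (fun a _ e => ?_) hu⟩
  · rw [mul_assoc, ← mul_assoc c, ← h1 a ha c hc, mul_assoc, e2, mul_one, e1]
  · rw [← mul_inv_rev, e, inv_one]

theorem no_two_ker {K ι : Type*} [Field K] (h2 : (2 : K) ≠ 0) [Finite G] (hC : ∀ z : G, orderOf z = 2 → Cov K ι z) {H : Subgroup G}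
    {π : H →* A} (hπ : Function.Surjective π) {s : Set A} (hs : ∀ a ∈ s, a * a = 1 ∧ ∀ c ∈ s, a * c = c * a) {b : A} (hb : b ^ 7 = 1)
    (h1 : ∀ a ∈ s, b * a * b⁻¹ ∈ closure s) (h3 : ∃ a ∈ s, b * a * b⁻¹ ≠ a) {y : H} {n : ℕ} (e1 : π y = 1) (e2 : y ^ 2 ^ n = 1) : y = 1 := by
  have : Fact (Nat.Prime 7) := ⟨by norm_num⟩
  have := Finite.of_surjective π hπ
  obtain ⟨a1, a2⟩ := closure_elem hs
  obtain ⟨Q, b1, b2, b3, x, k, b4, b5, b6⟩ := sec_lift hπ (l := 2) (r := 7) (t := 1) Fact.out (V := closure s)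
    (fun u => ⟨1, Subtype.ext (by simpa [sq] using a2 u u.2)⟩) a1 (b := b) (mem_normalizer_fintype fun u hu =>
      closure_induction h1 (by simp [one_mem]) (fun _ _ _ _ a c => by simpa using mul_mem a c) (fun _ _ a => by simpa [mul_assoc] using inv_mem a) hu)
    (by simp [hb])
  obtain ⟨a, ha, h3⟩ := h3
  obtain ⟨a, ha', rfl⟩ := b2.ge (subset_closure ha)
  rw [← b6 _ (subset_closure ha)] at h3
  by_contra h4
  obtain ⟨g, hg⟩ := b3 y n e1 e2
  let X := {z : H | z ∈ Q ∧ π z = 1 ∧ orderOf z = 2 ∧ ∀ r ∈ Q, r * z = z * r}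
  obtain ⟨z, hz⟩ : X.Nonempty := by
    have := b1.isNilpotent
    have h := H02.inf_center_ne_bot_of_isNilpotent (π.ker.subgroupOf Q) (fun e => h4 (by
      simpa using e.le (show (⟨_, hg⟩ : Q) ∈ π.ker.subgroupOf Q by simp [mem_subgroupOf, e1])))
    obtain ⟨c, hc⟩ := exists_prime_orderOf_dvd_card' 2 (((b1.to_subgroup _).card_eq_or_dvd).resolve_left (mt card_eq_one.1 h))
    exact ⟨c, c.1.2, c.2.1, by simpa using hc, fun r hr => congrArg Subtype.val (mem_center_iff.1 c.2.2 ⟨r, hr⟩)⟩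
  have h5 : ∀ z ∈ X, x * z ≠ z * x := fun z hz e => h3 (by
    have : Finite (Q.map H.subtype) := inferInstance
    have := (hC z (by simpa using hz.2.2.1)).cent h2 (b1.map H.subtype) (by rintro _ ⟨r, hr, rfl⟩; exact congrArg Subtype.val (hz.2.2.2 r hr))
      (x := x) (n := k) (congrArg Subtype.val b4) (congrArg Subtype.val e) (le_normalizer_map _ ⟨x, b5, rfl⟩) ⟨a, ha', rfl⟩
    rw [← map_mul, ← show a * x = x * a from Subtype.ext this]; simp)
  have h6 {x} (hx : x ∈ normalizer (Q : Set H)) {a} (ha : a ∈ X) : x * a * x⁻¹ ∈ X :=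
    ⟨(mem_normalizer_iff.1 hx _).1 ha.1, by simp [ha.2.1], (MulAut.conj x).orderOf_eq a ▸ ha.2.2.1, fun r hr => by
      simpa [mul_assoc] using congrArg (x * · * x⁻¹) (ha.2.2.2 _ ((mem_normalizer_iff''.1 hx _).1 hr))⟩
  have h7 : 7 ≤ X.ncard := Nat.le_of_dvd ((Set.ncard_pos X.toFinite).2 ⟨z, hz⟩) (by
    by_contra h
    obtain ⟨a, ha, e⟩ := exists_fix b4 X.toFinite h fun a => ⟨fun h => by simpa [mul_assoc] using h6 (inv_mem b5) h, h6 b5⟩
    exact h5 a ha e)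
  classical
  have h8 (T : Finset H) (h : T.card < 7) : ∃ e ∈ X, e ∉ T := by
    by_contra! h'
    have := Set.ncard_le_ncard (s := X) (t := T) h'
    rw [Set.ncard_coe_finset] at this; omega
  obtain ⟨e, he, c1⟩ := h8 {z} (by simp)
  obtain ⟨f, hf, c2⟩ := h8 {z, e, e * z} (Finset.card_le_three.trans_lt (by decide))
  have h9 {e} (he : e ∈ X) : e * e = 1 ∧ e ≠ 1 := ⟨by rw [← sq, ← he.2.2.1, pow_orderOf_eq_one], by rintro rfl; simpa using he.2.2.1⟩
  simp only [Finset.mem_insert, Finset.mem_singleton, not_or] at c1 c2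
  obtain ⟨t, ht, h10⟩ := (hC z (by simpa using hz.2.2.1)).mem8 h2 (e := e) (f := f) (g := a) (congrArg Subtype.val (h9 he).1)
    (congrArg Subtype.val (h9 hf).1) (congrArg Subtype.val (hz.2.2.2 e he.1)) (congrArg Subtype.val (hz.2.2.2 f hf.1))
    (congrArg Subtype.val (he.2.2.2 f hf.1)) (by simpa using ⟨(h9 he).2, c1⟩) (by simpa using ⟨(h9 hf).2, c2.1⟩)
    ⟨fun h => c2.2.1 (mul_left_cancel ((Subtype.ext h : e * f = 1).trans (h9 he).1.symm)),
      fun h => c2.2.2 (by rw [← (Subtype.ext h : e * f = z), ← mul_assoc, (h9 he).1, one_mul])⟩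
    (congrArg Subtype.val (hz.2.2.2 a ha')) (congrArg Subtype.val (he.2.2.2 a ha')) (congrArg Subtype.val (hf.2.2.2 a ha'))
  obtain ⟨t, rfl, h11⟩ : ∃ t' : H, t' = t ∧ π t' = 1 := by
    simp only [List.mem_cons, List.not_mem_nil, or_false] at ht
    rcases ht with rfl | rfl | rfl | rfl
    exacts [⟨1, rfl, map_one _⟩, ⟨e, rfl, he.2.1⟩, ⟨f, rfl, hf.2.1⟩, ⟨e * f, rfl, by rw [map_mul, he.2.1, hf.2.1, mul_one]⟩]
  have h12 : π a = 1 := by
    refine (mul_one _).symm.trans ((h11 ▸ (map_mul π a t).symm :).trans ?_)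
    rcases h10 with h | h
    exacts [(Subtype.ext h : a * t = 1) ▸ map_one _, (Subtype.ext h : a * t = z) ▸ hz.2.1]
  simp [h12] at h3

theorem no_A8 {K ι : Type*} [Field K] (h2 : (2 : K) ≠ 0) [Finite G] (hC : ∀ z : G, orderOf z = 2 → Cov K ι z) {H : Subgroup G}
    {r : ℕ} (hr : 8 ≤ r) {π : H →* alternatingGroup (Fin r)} (hπ : Function.Surjective π) : False := by
  let j := H24.Alt.embA (Fin.castLEEmb hr)
  have hj : Function.Injective j := H24.Alt.embA_injective _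
  let c (a b c d : Fin 8) (h : a ≠ b ∧ c ≠ d := by decide) : alternatingGroup (Fin 8) :=
    ⟨Equiv.swap a b * Equiv.swap c d, by simp [Equiv.Perm.mem_alternatingGroup, h.1, h.2]⟩
  let w := ![c 0 1 2 3, c 0 2 1 3, c 4 5 6 7, c 4 6 5 7]
  let v := ![w 0 * w 2, w 1 * w 3, c 0 4 1 5 * c 2 6 3 7]
  let b := c 1 5 1 7 * c 1 6 1 3 * c 1 4 1 2
  have h1 {y : H} {n} := no_two_ker h2 hC hπ (s := Set.range (j ∘ v)) (by
      simp only [Set.forall_mem_range, Function.comp, ← map_mul, map_eq_one_iff _ hj, hj.eq_iff]; decide +kernel) (b := j b)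
    (by rw [← map_pow, show b ^ 7 = 1 by decide +kernel, map_one]) (by
      rintro _ ⟨i, rfl⟩
      have k (i) : j (v i) ∈ closure (Set.range (j ∘ v)) := subset_closure ⟨i, rfl⟩
      rw [Function.comp, ← map_inv, ← map_mul, ← map_mul]
      rcases (by decide +kernel : ∀ i, b * v i * b⁻¹ = v 1 ∨ b * v i * b⁻¹ = v 2 ∨ b * v i * b⁻¹ = v 0 * v 1) i with e | e | e <;> rw [e]
      exacts [k _, k _, map_mul j _ _ ▸ mul_mem (k _) (k _)])
    ⟨_, ⟨0, rfl⟩, by rw [Function.comp, ← map_inv, ← map_mul, ← map_mul, hj.ne_iff]; decide +kernel⟩ (y := y) (n := n)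
  have := Finite.of_surjective π hπ
  obtain ⟨a1, a2⟩ := closure_elem (s := Set.range (j ∘ w)) (by
      simp only [Set.forall_mem_range, Function.comp, ← map_mul, map_eq_one_iff _ hj, hj.eq_iff]; decide +kernel)
  obtain ⟨Q, b1, b2, -⟩ := sec_lift hπ (l := 2) (r := 2) (t := 0) Nat.prime_two (V := closure (Set.range (j ∘ w)))
    (fun u => ⟨1, Subtype.ext (by simpa [sq] using a2 u u.2)⟩) a1 (b := 1) (one_mem _) (by simp)
  have h3 {x y : H} (hx : x ∈ Q) (hy : y ∈ Q) (e : π x = π y) : x = y :=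
    let ⟨n, hn⟩ := b1 ⟨x * y⁻¹, mul_mem hx (inv_mem hy)⟩
    mul_inv_eq_one.1 (h1 (by simp [e]) (congrArg Subtype.val hn))
  choose y hy e using fun i => b2.ge (Subgroup.subset_closure (Set.mem_range_self i))
  replace e : ∀ i, π (y i) = j (w i) := e
  replace hy : ∀ i, y i ∈ Q := hy
  have h4 (i k) : (y i : G) * y k = y k * y i := congrArg Subtype.val (h3 (mul_mem (hy i) (hy k)) (mul_mem (hy k) (hy i)) (by
    simp only [map_mul, e]; exact a1 _ (subset_closure ⟨i, rfl⟩) _ (subset_closure ⟨k, rfl⟩)))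
  have h5 (i) : (y i : G) * y i = 1 := congrArg Subtype.val (h3 (mul_mem (hy i) (hy i)) (one_mem _) (by
    simp only [map_mul, e, map_one]; exact a2 _ (subset_closure ⟨i, rfl⟩)))
  have h6 {x : H} {a} (e1 : π x = j a) (h : a ≠ 1 ∧ a ≠ w 0) : (x : G) ≠ 1 ∧ (x : G) ≠ y 0 :=
    ⟨fun e2 => h.1 (hj (by rw [← e1, show x = 1 from Subtype.ext e2, map_one, map_one])), fun e2 => h.2 (hj (by rw [← e1, Subtype.ext e2, e]))⟩
  obtain ⟨t, ht, h7⟩ := (hC (y 0) (orderOf_eq_prime (by rw [sq, h5]) fun e2 => absurd (hj ((e 0).symm.trans (by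
    rw [show y 0 = 1 from Subtype.ext e2, map_one, map_one]))) (show w 0 ≠ 1 by decide +kernel))).mem8 h2 (h5 1) (h5 2) (h4 ..) (h4 ..) (h4 ..)
    (h6 (e 1) (by decide +kernel)) (h6 (e 2) (by decide +kernel)) (h6 (x := y 1 * y 2) (by rw [map_mul, e, e, ← map_mul]) (by decide +kernel))
    (h4 3 0) (h4 ..) (h4 ..)
  have h8 {x : H} {a} (e1 : π x = j a) (h : w 3 * a ≠ 1 ∧ w 3 * a ≠ w 0) : ¬ ((y 3 : G) * x = 1 ∨ (y 3 : G) * x = y 0) :=
    not_or.2 (h6 (x := y 3 * x) (by rw [map_mul, e, e1, ← map_mul]) h)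
  simp only [List.mem_cons, List.not_mem_nil, or_false] at ht
  rcases ht with rfl | rfl | rfl | rfl
  exacts [h8 (x := 1) ((map_one _).trans (map_one _).symm) (by decide +kernel) h7, h8 (e 1) (by decide +kernel) h7, h8 (e 2) (by decide +kernel) h7,
    h8 (x := y 1 * y 2) (by rw [map_mul, e, e, ← map_mul]) (by decide +kernel) h7]

theorem of_A7 [Finite G] {H : Subgroup G} {r : ℕ} (hr : 7 ≤ r) {π : H →* alternatingGroup (Fin r)} (hπ : Function.Surjective π) :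
    (∃ y : G, orderOf y = 5 ∧ IsConj y (y ^ 2)) ∧ ∃ y : G, orderOf y = 7 ∧ IsConj y (y ^ 2) := by
  let j := H24.Alt.embA (Fin.castLEEmb hr)
  have hj : Function.Injective j := H24.Alt.embA_injective _
  let c (a b c d : Fin 7) (h : a ≠ b ∧ c ≠ d := by decide) : alternatingGroup (Fin 7) :=
    ⟨Equiv.swap a b * Equiv.swap c d, by simp [Equiv.Perm.mem_alternatingGroup, h.1, h.2]⟩
  have key {l s t : ℕ} [Fact l.Prime] (hs : s.Prime) (h : l ≠ s ∧ 2 ^ s ^ t ≡ 1 [MOD l]) (a b : alternatingGroup (Fin 7)) (h' : a ^ l = 1 ∧ a ≠ 1 ∧ b * a * b⁻¹ = a ^ 2) :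
      ∃ y : G, orderOf y = l ∧ IsConj y (y ^ 2) := by
    obtain ⟨y, h1, h3⟩ := exists_conj_pow hπ hs h.1 (a := j a) (b := j b) (by rw [orderOf_injective j hj, orderOf_eq_prime h'.1 h'.2.1])
      (by rw [← map_inv, ← map_mul, ← map_mul, h'.2.2, map_pow]) h.2
    exact ⟨y, by simpa using h1, H.subtype.map_isConj h3⟩
  have : Fact (Nat.Prime 5) := ⟨by norm_num⟩
  have : Fact (Nat.Prime 7) := ⟨by norm_num⟩
  exact ⟨key (t := 2) Nat.prime_two (by decide) (c 0 4 0 3 * c 0 2 0 1) (c 1 3 1 4 * c 1 2 5 6) (by decide +kernel),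
    key (t := 1) Nat.prime_three (by decide) (c 0 6 0 5 * c 0 4 0 3 * c 0 2 0 1) (c 1 4 1 2 * c 3 5 3 6) (by decide +kernel)⟩

end H11
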