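import Cfsg.Agent.H11.TwsEx
import Cfsg.Agent.H11.Sec
import Cfsg.Agent.H11.G2Sp
import Cfsg.Agent.H11.Cent

/-! Rational elements of prime order (`Tws.exists_vec`, `weyl_inv`) and involution centralizers of type A₁^l (`cov_of_frm`). -/

namespace H11
open Cfsg Cfsg.Lie StSys Set
open scoped MatrixGroups

variable {D : ChevalleyDatum} [Good D] [Cert D] {K G R : Type*} [Field K] [Group G] [Group R]

theorem StSys.Tws.exists_vec [IsAlgClosed K] [Finite R] {S : StSys D K G} {A : S.Gal} {σ B} (T : Tws A σ B) {j : R →* G}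
    (hj : Function.Injective j) (hr : j.range = fixS σ) (p : ℕ) [hp : Fact p.Prime] [CharP K p] {l : ℕ} [hl : Fact l.Prime] (h : p ≠ l) {y : R}
    (hy : orderOf y = l) {k : ℕ} (hk : IsConj y (y ^ k)) : ∃ v : Node D → ZMod l, v ≠ 0 ∧
      (∃ w : Weyl D, Matrix.vecMul (Matrix.vecMul v (B.map (↑))) ((corM w.1).map (↑)) = v) ∧
        ∃ w : Weyl D, Matrix.vecMul v ((corM w.1).map (↑)) = (k : ZMod l) • v := by
  obtain ⟨x, c, e, w, h1⟩ := T.semisimple hr p (g := y) (by rwa [hy, Nat.prime_dvd_prime_iff_eq hp.out hl.out])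
  obtain ⟨g, hg⟩ := isConj_iff.1 hk
  obtain ⟨-, -, m, -, -, -, -, h2, -⟩ := conj_bruhat A.gen (torS_mem A.hm c) (torS_mem A.hm (c ^ k)) (g := x⁻¹ * j g * x) (by
    rw [map_pow, ← e, show (x⁻¹ * j y * x) ^ k = x⁻¹ * j y ^ k * x by simpa using conj_pow (a := x⁻¹), ← map_pow, ← hg]; simp [mul_assoc])
  rw [conj_torS _ (Weyl.aut _) (acts_π m)] at h2
  have h3 : orderOf c = l := by
    rw [← orderOf_injective _ T.inj, ← e, ← hy, ← orderOf_injective j hj]; exact (MulAut.conj x).symm.orderOf_eq _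
  have : NeZero (l : K) := ⟨fun e => h ((Nat.prime_dvd_prime_iff_eq hp.out hl.out).1 ((CharP.cast_eq_zero_iff _ p _).1 e))⟩
  obtain ⟨ζ, hζ⟩ := HasEnoughRootsOfUnity.exists_primitiveRoot K l
  obtain ⟨ζ, rfl⟩ := hζ.isUnit hl.out.ne_zero
  choose n hn e using fun i => hζ.eq_pow_of_pow_eq_one (ξ := (c i : K)) (congrArg Units.val (congrFun (h3 ▸ pow_orderOf_eq_one c) i))
  obtain rfl : c = fun i => ζ ^ (n i : ℤ) := funext fun i => Units.ext (by simp [e])
  rw [IsPrimitiveRoot.coe_units_iff] at hζ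
  have h4 {X : Matrix (Node D) (Node D) ℤ} {a : ℕ} (e : mact X (fun i => ζ ^ (n i : ℤ)) = (fun i => ζ ^ (n i : ℤ)) ^ a) :
      Matrix.vecMul (fun i => (n i : ZMod l)) (X.map (↑)) = (a : ZMod l) • fun i => (n i : ZMod l) := funext fun i => by
    have := congrFun e i
    rw [mact_apply, Pi.pow_apply, ← zpow_natCast, ← mul_inv_eq_one] at this
    simp only [← zpow_mul, ← zpow_sum', ← zpow_sub, hζ.zpow_eq_one_iff_dvd, ← ZMod.intCast_zmod_eq_zero_iff_dvd] at this
    simpa [sub_eq_zero, Matrix.vecMul, dotProduct, mul_comm] using this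
  refine ⟨fun i => n i, fun e => hl.out.ne_one ?_, ⟨w, ?_⟩, S.π m, h4 (T.inj h2)⟩
  · rw [← h3, orderOf_eq_one_iff]; ext1 i
    exact (hζ.zpow_eq_one_iff_dvd _).2 (Int.natCast_dvd_natCast.2 ((ZMod.natCast_eq_zero_iff ..).1 (congrFun e i)))
  · simpa [Matrix.map_mul_intCast] using h4 (a := 1) (h1.trans (pow_one _).symm)

omit [Cert D] in
theorem weyl_inv {A α : Type*} [CommRing A] {I : (Node D → A) → α}
    (h : ∀ i v, I (fun k => v k - if i = k then ∑ j : Node D, v j * (D.cartan j (D.simple i) : A) else 0) = I v) (w : Weyl D) (v : Node D → A) :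
    I (Matrix.vecMul v ((corM w.1).map (↑))) = I v := by
  refine corM_cases (fun _ => rfl) (P := fun M => I (Matrix.vecMul v (M.map (↑))) = I v) (by simp) (fun M i e => ?_) w
  rw [← e, ← h i (Matrix.vecMul v (M.map _)), Matrix.map_mul_intCast, ← Matrix.vecMul_vecMul, corM_sref]
  generalize Matrix.vecMul v _ = u
  congr 1; ext k
  by_cases e : i = k <;> simp [Matrix.vecMul, dotProduct, mul_sub, e, wt]

/-- a frame of orthogonal roots describing the centralizer of the involution with exponent vector `ψ` -/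
def Frm (β s : Node D → Root D) (ψ : Node D → ℤ) : Prop := (∀ i, IsPos (β i) ∧ pair (β i) (s i) = 1) ∧
  (∀ i k, i ≠ k → ∀ r r' : Root D, r = β i ∨ r = (β i).rev → r' = β k ∨ r' = (β k).rev → r' ≠ r.rev ∧ Nc r r' = 0) ∧
  (∀ r, fv ψ r % 2 = 0 → ∃ i, r = β i ∨ r = (β i).rev) ∧ ∀ m < 2 ^ D.rank,
    ((∀ j, (∑ i, bits m i * cor (β i) j) % 2 = 0) → (∀ i : Node D, bits m i = 0) ∨ ∀ i : Node D, bits m i = 1) ∧
    ((∀ r, fv (fun j => ∑ i, bits m i * cor (β i) j) r % 2 = 0) ∨ ∀ r, fv (fun j => ∑ i, bits m i * cor (β i) j) r % 2 = fv ψ r % 2)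

instance instDecFrm (β s : Node D → Root D) (ψ : Node D → ℤ) : Decidable (Frm β s ψ) := by unfold Frm; infer_instance

theorem cov_of_frm [IsAlgClosed K] {S : StSys D K G} (hS : S.HMul) (hg : S.grp = ⊤) (hi : Function.Injective (torS hS)) (h2 : (2 : K) ≠ 0)
    {β s : Node D → Root D} {ψ : Node D → ℤ} (h : Frm β s ψ) (hd : (Matrix.of fun i j => cor (β i) j).det ≠ 0)
    (T : S.Sub {r | fv ψ r % 2 = 0} (Subgroup.centralizer {torS hS (sgn K ψ)})) {j : R →* G} (hj : Function.Injective j)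
    (hZ : ∀ g, j g ∈ Subgroup.center G → g = 1) {z : R} {x : G} (e : x⁻¹ * j z * x = torS hS (sgn K ψ)) : Cov K (Node D) z := by
  classical
  obtain ⟨a1, a2, a3, a4⟩ := h
  choose φ b1 b2 b3 b4 b5 using fun i => root_sl2 hS (a1 i).1 (a1 i).2
  let Φ := MonoidHom.noncommPiCoprod φ fun i k h a b => S.commute_US' (fun r hr r' => a2 i k h r r' hr) ((b5 i).le ⟨a, rfl⟩) ((b5 k).le ⟨b, rfl⟩)
  have c1 (i y) : Φ (Pi.mulSingle i y) = φ i y := MonoidHom.noncommPiCoprod_mulSingle ..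
  let d : Kˣ →* SL(2, K) := .mk' (fun a => H12.hEl H12.upSL H12.loSL a.1) fun a b => Subtype.ext (by
    simp [H12.coe_hEl, mul_comm])
  have c2 (c) : Φ (d.compLeft _ c) = torS hS (mact (.of fun i j => cor (β i) j) c) :=
    DFunLike.congr_fun (tor_ext (f := Φ.comp (d.compLeft _)) (g := (torS hS).comp (mact _)) fun i t => by
      have e1 : d.compLeft _ (Pi.mulSingle i t) = Pi.mulSingle i (d t) := funext fun k => (Pi.apply_mulSingle (fun _ => d) (fun _ => map_one d) ..)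
      have e2 : mact (.of fun i j => cor (β i) j) (Pi.mulSingle i t) = fun j => t ^ cor (β i) j := funext fun j => by
        rw [mact_apply, Finset.prod_eq_single i (fun k _ e => by simp [e]) (by simp)]; simp
      rw [MonoidHom.comp_apply, MonoidHom.comp_apply, e1, e2, c1, ← h_eq_torS]
      simp [d, H12.hEl, H12.wEl, b2, b3, StSys.h, StSys.n]) c
  have c3 {a : Node D → SL(2, K)} (h : ∀ i, a i = 1 ∨ a i = -1) : ∃ m < 2 ^ D.rank, (∀ i, a i = if bits m i = 0 then 1 else -1) ∧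
      Φ a = torS hS (sgn K fun j => ∑ i, bits m i * cor (β i) j) := by
    have e1 (i : Node D) : a i = if bits (Nat.ofBits fun k => a k ≠ 1) i = 0 then 1 else -1 := by
      rw [bits, Nat.testBit_ofBits_lt _ _ i.2]; rcases h i with e | e <;> simp [e, sl2_neg_ne h2]
    refine ⟨_, Nat.ofBits_lt_two_pow _, e1, Eq.trans (congrArg Φ (funext fun i => (e1 i).trans ?_)) ((c2 _).trans (congrArg _ (mact_sgn ..)))⟩
    change _ = d ((-1) ^ bits _ i)
    rw [bits]; split_ifs with e e' e'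
    · simp at e'
    · exact Subtype.ext (by rw [zpow_one]; refine Eq.trans ?_ (H12.coe_hEl _ (by simp)).symm; ext i j; fin_cases i <;> fin_cases j <;> simp)
    · rw [zpow_zero, map_one]
    · simp at e'
  have c4 : S.H ≤ Φ.range := torS_range hS ▸ by
    rintro _ ⟨c, rfl⟩; obtain ⟨c, rfl⟩ := mact_surjective _ hd c; exact ⟨_, c2 c⟩
  have c5 {Ψ : Set (Root D)} (h : ∀ r ∈ Ψ, fv ψ r % 2 = 0) : S.US Ψ ≤ Φ.range := US_le.2 fun r hr t => by
    obtain ⟨i, rfl | rfl⟩ := a3 r (h r hr)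
    exacts [⟨_, (c1 ..).trans (b2 i t)⟩, ⟨_, (c1 ..).trans (b3 i t)⟩]
  have c6 : Subgroup.centralizer {torS hS (sgn K ψ)} ≤ Φ.range := fun g hg => by
    obtain ⟨u, hu, m, hm, v, hv, rfl⟩ := T.bru g hg
    refine mul_mem (mul_mem (c5 (fun _ h => h.2) hu) ?_) (c5 (fun _ h => h.2) hv)
    refine T.induction (C := fun w => ∀ m : S.N, S.π m = w → m.1 ∈ Φ.range) (fun m e => c4 (π_eq_one_iff.1 e)) (fun r hr w ih m e => ?_)
      ⟨m, hm, rfl⟩ m rfl
    have : S.n r 1 ∈ Φ.range := c5 (Ψ := {r, r.rev}) (by rintro _ (rfl | rfl); exacts [hr, T.rev _ hr])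
      (mul_mem (mul_mem (x_mem_US (by simp) _) (x_mem_US (by simp) _)) (x_mem_US (by simp) _))
    simpa using mul_mem this (ih ((⟨S.n r 1, n_one_mem_N r⟩ : S.N)⁻¹ * m) (by
      rw [map_mul, map_inv, e, show S.π ⟨_, n_one_mem_N r⟩ = ⟨sref r, sref_mem_Weyl r⟩ from Subtype.ext (π_n r one_ne_zero), inv_mul_cancel_left]))
  let Φ' := (MulAut.conj x).toMonoidHom.comp Φ
  let e' := MonoidHom.ofInjective hj
  have c7 (a : j.range.comap Φ') : j ((e'.symm.toMonoidHom.comp (Φ'.subgroupComap _)) a) = x * Φ a * x⁻¹ :=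
    congrArg Subtype.val (e'.apply_symm_apply _)
  refine ⟨j.range.comap Φ', e'.symm.toMonoidHom.comp (Φ'.subgroupComap _), fun g hg => ?_, fun a ha => ?_, fun a ha => ?_⟩
  · obtain ⟨a, ha⟩ := c6 (show x⁻¹ * j g * x ∈ _ from Subgroup.mem_centralizer_singleton_iff.2 (by
      rw [← e]; simpa [mul_assoc] using congrArg (j · * x) hg))
    have : x * Φ a * x⁻¹ = j g := by rw [ha]; group
    exact ⟨⟨a, g, this.symm⟩, hj ((c7 _).trans this)⟩
  · have h3 : Φ a = 1 := conj_eq_one_iff.1 ((c7 a).symm.trans (ha ▸ map_one j))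
    obtain ⟨m, hm, e1, e2⟩ := c3 (a := a) fun i => sl2_cen.1 (Subgroup.mem_center_iff.2 fun y => b1 i (by
      have := congrArg Φ (show a.1 * Pi.mulSingle i y * a.1⁻¹ = Pi.mulSingle i (a.1 i * y * (a.1 i)⁻¹) from
        funext fun k => by by_cases e : k = i <;> simp [e])
      rw [map_mul, map_mul, map_inv, h3, c1, c1, one_mul, inv_one, mul_one] at this
      rw [map_mul, this]; simp))
    exact ((a4 m hm).1 fun j => (neg_one_zpow_eq h2 (b := 0)).1 ((congrFun (hi (e2.symm.trans (h3.trans (map_one _).symm))) j).trans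
      (zpow_zero _).symm)).imp
      (fun h => funext fun i => by simp [e1, h]) fun h => funext fun i => by simp [e1, h]
  · obtain ⟨m, hm, -, e2⟩ := c3 ha
    have h4 {g : R} {c} (e : j g = x * torS hS c * x⁻¹) (h : ∀ r, chiOf c r = 1) : g = 1 := hZ g (by
      rw [e, (Subgroup.mem_center_iff.1 ((center_eq_map hS hg).ge ⟨c, mem_ker_cartan.2 h, rfl⟩) x), mul_inv_cancel_right]
      exact (center_eq_map hS hg).ge ⟨c, mem_ker_cartan.2 h, rfl⟩)
    refine (a4 m hm).2.imp (fun h => h4 ((c7 a).trans (by rw [e2])) fun r => ?_) fun h => mul_inv_eq_one.1 (h4 (c := (sgn K fun j => ∑ i, bits m i * cor (β i) j) * (sgn K ψ)⁻¹) (by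
      rw [map_mul, c7, e2, map_mul, map_inv, map_inv, ← e]; group) fun r => ?_)
    · rw [chiOf_sgn, (neg_one_zpow_eq h2 (b := 0)).2 (h r), zpow_zero]
    · rw [← mul_left_inj (chiOf (sgn K ψ) r), ← chiOf_mul, inv_mul_cancel_right, chiOf_sgn, chiOf_sgn, (neg_one_zpow_eq h2).2 (h r), one_mul]

theorem sub_of_frm {S : StSys D K G} (hS : S.HMul) (hg : S.grp = ⊤) (hi : Function.Injective (torS hS)) (h2 : (2 : K) ≠ 0)
    {β : Node D → Root D} {ψ : Node D → ℤ} (hd : (Matrix.of fun i j => cor (β i) j).det ≠ 0)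
    (h : ∀ i, IsPos (β i) ∧ fv ψ (β i) % 2 = 0 ∧ ∀ r, fv (cor (β i)) r % 2 = fv ψ r % 2 ∧
      (IsPos r → (∀ j, cor r j % 2 = cor (β i) j % 2) → r = β i)) :
    S.Sub {r | fv ψ r % 2 = 0} (Subgroup.centralizer {torS hS (sgn K ψ)}) := by
  have e (r) : (∀ c ∈ ({sgn K ψ} : Set _), chiOf c r = 1) ↔ fv ψ r % 2 = 0 := by
    simpa [chiOf_sgn] using neg_one_zpow_eq h2 (a := fv ψ r) (b := 0)
  have := sub_cent hS hg (C := {sgn K ψ}) fun m hm hp => corM_inj (by
    have h3 := hi ((conj_torS hS (Weyl.aut _) (acts_π m) _).symm.trans (mul_inv_eq_of_eq_mul (hm _ ⟨_, rfl, rfl⟩).symm))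
    have h4 (i) : (S.π m).1 (β i) = β i := ((h i).2.2 _).2 (hp _ ((e _).2 (h i).2.1) (h i).1) fun j => (neg_one_zpow_eq h2).1 (by
      have := mact_corM_of_ker (S.π m) (c := sgn K (cor (β i)) * (sgn K ψ)⁻¹) (mem_ker_cartan.2 fun r => by
        rw [← mul_left_inj (chiOf (sgn K ψ) r), ← chiOf_mul, inv_mul_cancel_right, chiOf_sgn, chiOf_sgn,
          (neg_one_zpow_eq h2).2 ((h i).2.2 r).1, one_mul])
      rw [map_mul, map_inv, h3, mul_left_inj, mact_sgn, ← cor_aut (Weyl.aut _)] at this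
      exact congrFun this j)
    refine (Matrix.isRegular_of_isLeftRegular_det (IsRegular.of_ne_zero hd).1).1 (show _ * _ = _ * _ from ?_)
    rw [show corM (1 : Weyl D).1 = 1 from corM_one, mul_one]
    exact Matrix.ext fun i j => congrFun ((cor_aut (Weyl.aut _) _).symm.trans (congrArg cor (h4 i))) j)
  simpa only [e, image_singleton] using this

theorem StSys.Tws.exists_inv [IsAlgClosed K] [Finite R] {S : StSys D K G} {A : S.Gal} {σ B} (T : Tws A σ B) {j : R →* G}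
    (hj : Function.Injective j) (hr : j.range = fixS σ) (p : ℕ) [hp : Fact p.Prime] [CharP K p] (h2 : (2 : K) ≠ 0)
    (L : List (Node D → ℤ)) (rk : ℕ → ℕ) (h : ∀ m < 2 ^ D.rank, m = 0 ∨ (∃ ψ ∈ L, ∀ i, bits m i = ψ i % 2) ∨
      ∃ i : Node D, fv (bits m) (sroot i) % 2 = 1 ∧ rk (m ^^^ 2 ^ i.1) < rk m) {g : R} (hg : orderOf g = 2) :
    ∃ ψ ∈ L, ∃ x, x⁻¹ * j g * x = torS A.hm (sgn K ψ) := by
  obtain ⟨x, c, e, -⟩ := T.semisimple hr p (g := g) (by
    rw [hg, Nat.prime_dvd_prime_iff_eq hp.out Nat.prime_two]; rintro rfl; exact h2 (CharP.cast_eq_zero K 2))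
  have h4 := congrArg orderOf e
  rw [orderOf_injective _ T.inj, ← MulAut.conj_symm_apply, MulEquiv.orderOf_eq, orderOf_injective _ hj, hg] at h4
  obtain ⟨w, ψ, h5, h6⟩ := exists_sgn L rk h h2 (c := c) (by rintro rfl; simp at h4) (h4 ▸ pow_orderOf_eq_one c)
  exact ⟨ψ, h5, h6 ▸ conj_mact _ w e⟩

end H11
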