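import Cfsg.Agent.H11.CentExt

/-! Lifting the Steinberg relations through central extensions, type by type: `lift_big` (more than four elements),
`lift_E` (types `E`, any field), `lift_D4`, `lift_F4`, `lift_B2` (more than two elements). -/

namespace H11
open Cfsg Cfsg.Lie Equiv StSys
open scoped commutatorElement

variable {E G : Type*} [Group E] [Group G] {D : ChevalleyDatum} [Good D] {K : Type*} [Field K]

/-- a root orthogonal to `k` with small positive pairing with `m` -/
def TorN (n : ℤ) (m k : Root D) : Prop := ∃ γ : Root D, pair γ k = 0 ∧ 1 ≤ pair γ m ∧ pair γ m ≤ n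

variable (D) in
/-- all pairs of independent roots are separated -/
def AllTor (n : ℤ) : Prop := ∀ m k : Root D, m ≠ k → m ≠ k.rev → TorN n m k

theorem weyl_induction₂ {P : Root D → Root D → Prop} (hP : ∀ (w : Weyl D) m k, P m k → P (w.1 m) (w.1 k))
    (h : ∀ i m, P m (sroot i)) (m k : Root D) : P m k := by
  obtain ⟨w, i, rfl⟩ := exists_weyl_sroot k
  obtain ⟨m, rfl⟩ := w.1.surjective m
  exact hP w _ _ (h i m)

theorem TorN.weyl {n : ℤ} {m k : Root D} (w : Weyl D) (h : TorN n m k) : TorN n (w.1 m) (w.1 k) :=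
  let ⟨γ, h⟩ := h; ⟨w.1 γ, by simpa only [RootAut.pair_eq (Weyl.aut w)] using h⟩

theorem TorC.weyl {m k : Root D} (w : Weyl D) (h : TorC K m k) : TorC K (w.1 m) (w.1 k) :=
  let ⟨γ, c, h⟩ := h; ⟨w.1 γ, c, by simpa only [RootAut.pair_eq (Weyl.aut w)] using h⟩

theorem Nc_weyl (w : Weyl D) {m k : Root D} (h : Nc m k = 0) : Nc (w.1 m) (w.1 k) = 0 := by
  by_contra e
  exact absurd h (by simpa using RootAut.Nc_ne (Weyl.aut w⁻¹) e)

/-- checker for `AllTor` -/
noncomputable def Fast.chkTor (F : Fast) (n : ℤ) (W : ℕ) : Bool := allLt F.l fun i => allLt F.n fun m =>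
  Nat.beq m (F.sim i) || Nat.beq m (F.ng (F.sim i)) || (fun γ => Nat.blt γ F.n && decide (F.pr γ (F.sim i) = 0) &&
    decide (1 ≤ F.pr γ m) && decide (F.pr γ m ≤ n)) (lk W 8 255 (Nat.add (Nat.mul i F.n) m))

theorem allTor_of_chk {F : Fast} (A : Agree D F) {n : ℤ} {W : ℕ} (h : F.chkTor n W = true) : AllTor D n := by
  refine weyl_induction₂ (P := fun m k => m ≠ k → m ≠ k.rev → TorN n m k) (fun w m k h a b => (h (fun e => a (e ▸ rfl))
    fun e => b (by rw [e, RootAut.rev (Weyl.aut w)])).weyl w) fun i m a b => ?_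
  have := allLt_spec (allLt_spec h (A.lt_l i)) (A.lt_n m)
  simp only [Bool.or_eq_true, Nat.beq_eq, Bool.and_eq_true, Nat.blt_eq, decide_eq_true_eq, ← A.simple_eq (A.lt_l i)] at this
  rcases this with (e | e) | ⟨⟨⟨h1, h2⟩, h3⟩, h4⟩
  · exact absurd (Fin.ext e) a
  · exact absurd (Fin.ext (e.trans (A.rev_val (sroot i)).symm)) b
  · exact ⟨⟨_, A.n_eq ▸ h1⟩, (A.pair_eq _ _).trans h2, (A.pair_eq _ _).symm ▸ h3, (A.pair_eq _ _).symm ▸ h4⟩

theorem allTorG2 : AllTor chevG2 3 := allTor_of_chk agreeG2 (W := 0x909090909000002020202020b0b0b0b000b000000000000) (by decide +kernel)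

theorem allTorB2 : AllTor chevB2 2 := allTor_of_chk agreeB2 (W := 0x7070700000000000606000601000101) (by decide +kernel)

theorem allTorD4 : AllTor chevD4 2 := allTor_of_chk agreeD4 (W := 0x170d0d0a0a12050505050d00000a00000000050000000000170c0b0c0b1205050505000c0b0000000000050000000000111115140606110302000302030200030206020203020202170c0b0a0a000c0b0a0a0d0c0b0a00000000000000000000) (by decide +kernel)

theorem allTorF4 : AllTor chevF4 2 := allTor_of_chk agreeF4 (W := 0x20201b21140f0f0e0d1b1b141408070d04040d0d040202000004040207070202070302030302020302020203020202021d1e1e211111120e1d1d0b0a12120706060b060b0b06000600000007070007000003030300030000000300000000000018172929290f0f1c1c131213120f0f05060506050006050100010000010001000003030100010000000100000000000018171525191615251916150a0908001916150a0908020201000100020100010000000201000100000001000000000000) (by decide +kernel)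

theorem allTorE6 : AllTor chevE6 1 := allTor_of_chk agreeE6 (W := 0x2e19182a2a151d1d1c1c1015151010100a0e0e0d0d050d0d02010a0a05050a0a020a0a000002020101010201010100000000000000000000050201010100000000000000000000012e192a2a161d1d13121a1a12131312120e0e08070b0b040b0b0107080807040808040004080008010101040101010000000000000000000007040101010000000000000000000001302c2c1716151b1a1b1a1015151010100a0c0b0c0b0504030b0b0a0a05050403000403040305050005050303040300000000000000000000050303040300000000000000000000032e1925222125222112111012111010100a09080c0b0b0c0b0b01090808000908080a0a0908090801010100010101000000000000000000000808010101000000000000000000000135352522211d1d1d12111012111010100e0e0e07060504030200070605050403020403040302020605050203020200060505030202040302050203020203020204030202020302022e191817162522211f1e1e17161616002522211f1e1e0403020117161616040302040304030202010101020101010000000000000000000000020101010000000000000000000001) (by decide +kernel)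

theorem allTorE7 : AllTor chevE7 1 := allTor_of_chk agreeE7 (W := 0x5d201f1e1d4e4e1a192f2f162e2e2d2d11102a2a29290b26260807262604030201101a1a19190b1616080710100807071616040302101004031010041010000004040303030202020201010101010302020202010101010101010101010000000000000000000000000000000000000000000000000000000000000000015d201f1e4e4e1b1a2f2f172e2e14132b2b2a2a0e0d27270a2424070624240302011a1a0e0d17170a1414070a0e0e07070614140302060e0e03060e0e0600060e000e0303030202020201010101010302020202010101010101010101010000000000000000000000000000000000000000000000000000000000000000015d201f4e4e1c1b2f2f1817162c2b2c2b1110282728270b0a09212106052121020110181718170b0a0911110a090b0b09060511110206050b0b060500060506050b0b000b0b0202020201010101010502020202010101010101010101010000000000000000000000000000000000000000000000000000000000000000015d2050501d1c1b1a2d2c2b2d2c2b131211100f0e23222123222107060504212101100f0e131211131211070f0e0e0707060504111106050400060504060506050404070707000707070101010101040405040401010101010101010101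0000000000000000000000000000000000000000000000000000000000000000015f57571e1d1c1b1a1918172625242322212625242322210a0908070605040321211918171817170a0908070a090807070605040300060504030605040605060504040303030807070700080707070304030303040303030504040303030000000000000000000000000000000000000000000000000000000000000000035d201f423b3a39423b3a39161514131211100f0e0d0c0b23222121232221210201100f0e0d0c0b131211110d0c0b0b0013121111020d0c0b0b0f0e0e0d0c0d0c0b0b0c0b0b0202020201010101010002020202010101010101010101010000000000000000000000000000000000000000000000000000000000000000016d6d45383736352e2d2c2b2d2c2b2c2b2b100f0e0d0c0b0a090807060504030200100f0e0d0c0b0a0908070a09080707060504030206050403060504060506050404030303020202020b08070707030202020204030303020202020202000b08070707040303030202020202020504040303030202020202020202030202) (by decide +kernel)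

theorem allTorE8 : AllTor chevE8 1 := allTor_of_chk agreeE8 (W := 0xa1a17b74706b655f5a5653534e4e4944403d3d38383633332e2e2d2d28282d252524242423231e1e231b1b1a1a1a23171716161615151515231212111111101010100f0f0f0f0f0e0e0e0e0e0e0e230b0b0a0a0a090909090808080808070707070707060606060606050505050504040404030303020200000b0b020a0a03020909040302080805040302070705040302060604030205050302040402030302020e0605040302070704030205050302040402030302020603020404020303020205020303020204020203020203030202040202030202020302020202030202020202020302020202020202020302027d9f9f726e69635d58545150505147423e3b3a3a3b34313030312b2a2a2b27272b242424212020211d1d211a1a1a19192116161615151515141421111111101010100f0f0f0f0f0e0e0e0e0e0e0e0d0d210a0a0a0909090908080808080707070707070606060606060505050505040404040303030d000d0000000a0a000309090004030808000504030707000504030606000403050500030404000303000e0000060504030707000403050500030404000303000600000304040003030005000003030004000003000000030300040000030000000300000000030000000000000300000000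00000000000000000378779c9c6e69635d585453534e4e47423e3d3d38383433332e2e2d2d282826272627262823231e1e1c1d1c1d1c1e18191819181e1515151513141314131e101010100f0f0f0f0f0e0e0e0e0e0e0e0c0d0c0d0c1e0909090908080808080707070707070606060606060505050505040404040d0c000d0c010001000001000909010004080801000504070701000504060601000405050100040401000e0100010000060504070701000405050100040401000601000100000404010005010001000004010001000001000000040100010000010000000100000000010000000000000100000000000000000000000001787775989869635d5857574f4e4e4742414139383837372f2e2e2b2d2c2b2d2c2b242424212322212322211a1a1a1817171918171918171a1312121413121413121a0f0f0f0f0f0e0e0e0e0e0e0e0c0b0b0d0c0b0d0c0b1a080808080807070707070706060606060605050505050d0c0b000d0c0b02020100010002010000020100080802010005070702010005060602010005050201000e020100020100010000060507070201000505020100060201000201000100000502010002010001000002010001000001000000020100010000010000000100000000010000000000000100000000000000000000000001787775729393635d5c5c514f4e4e474646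3b393838343736353437363534262525242424211f1e1e232221201f1e232221201f1e151515151312121111111413121114131211150e0e0e0e0e0e0e0c0b0b0a0a0a0d0c0b0a0d0c0b0a150707070707070606060606060d0c0b0a000d0c0b0a0303030202010001000201000302010000030201000707030201000606030201000e0302010003020100020100010000060707030201000603020100030201000201000100000302010002010001000002010001000001000000020100010000010000000100000000010000000000000100000000000000000000000001787775726e8d8d626254514f4e4e4742464544434246454443422b292828262525242424211f1e1e1c1b1b1a1a1a232221201f1e1d1c1b1a232221201f1e1d1c1b1a0f0f0f0f0f0e0e0e0e0e0e0e0c0b0b0a0a0a090909090d0c0b0a090d0c0b0a090f0d0c0b0a09000d0c0b0a09040404040303030202010001000201000302010004030201000004030201000e0403020100040302010003020100020100010000090904030201000403020100030201000201000100000302010002010001000002010001000001000000020100010000010000000100000000010000000000000100000000000000000000000001787775726e8768876854514f4e4e4c4c3e3b39383834312f2e2e37363534333231302f2e37363534333231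302f2e18171716161615151515131212111111101010101413121110141312111015100c0b0b0a0a0a090909090d0c0b0a090d0c0b0a09000d0c0b0a09150d0c0b0a0904040404030303020201000100020100030201000403020100100403020100000403020100040302010003020100020100010000090904030201000403020100030201000201000100000302010002010001000002010001000001000000020100010000010000000100000000010000000000000100000000000000000000000001787775726e698d5d6261605f5e5d8d6261605f5e5d34312f2e2e2b292828262525242424211f1e1e1c1b1b1a1a1a18171716161615151515232221201f1e1d1c1b1a191817161519181716151500232221201f1e1d1c1b1a1918171615070707070707191817161515050505050504040404030303020201000100020100030201000403020100050403020100050403020100040302010003020100020100010000000504030201000403020100030201000201000100000302010002010001000002010001000001000000020100010000010000000100000000010000000000000100000000000000000000000001) (by decide +kernel)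

omit [Good D] in
theorem exists_zpow_ne {n : ℕ} (h : ∃ s : Finset K, n + 1 < s.card) {j : ℤ} (h1 : 1 ≤ j) (h2 : j ≤ n) :
    ∃ c : K, c ≠ 0 ∧ c ^ j ≠ 1 := by
  classical
  obtain ⟨s, hs⟩ := h
  lift j to ℕ using by omega
  by_contra! e
  have : s.erase 0 ⊆ (Polynomial.nthRoots j (1 : K)).toFinset := fun c hc => by
    simpa [Polynomial.mem_nthRoots (show 0 < j by omega)] using e c (Finset.ne_of_mem_erase hc)
  have := (Finset.card_le_card this).trans ((Multiset.toFinset_card_le _).trans (Polynomial.card_nthRoots _ _))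
  have := Finset.pred_card_le_card_erase (s := s) (a := 0)
  omega

omit [Good D] in
open Polynomial in
theorem exists_trick (h : ∃ s : Finset K, 4 < s.card) : ∃ v : K, v ≠ 0 ∧ v ≠ 1 ∧ v - v ^ 2 ≠ 1 := by
  obtain ⟨s, hs⟩ := h
  by_contra! e
  have := eq_zero_of_natDegree_lt_card_of_eval_eq_zero' (X * (X - 1) * (X - X ^ 2 - 1) : K[X]) s (fun v _ => by
    by_cases h0 : v = 0; · simp [h0]
    by_cases h1 : v = 1 <;> simp [h1, e v h0]) (lt_of_le_of_lt (by compute_degree) hs)
  have := congrArg (coeff · 1) this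
  simp [mul_sub, sub_mul, coeff_X, sq, mul_assoc, coeff_X_mul] at this

omit [Good D] in
theorem three_or (h : ∃ a : K, a ≠ 0 ∧ a ≠ 1) :
    (∃ s : Finset K, 3 < s.card) ∨ (∀ t : K, t = 0 ∨ t = 1 ∨ t = -1) ∧ (1 : K) + 1 = -1 := by
  classical
  obtain ⟨a, h0, h1⟩ := h
  refine or_iff_not_imp_left.2 fun e => ?_
  have key : ∀ t : K, t = 0 ∨ t = 1 ∨ t = a := fun t => by
    by_contra! h
    exact e ⟨{t, 0, 1, a}, by rw [Finset.card_insert_of_notMem (by simp [h]), Finset.card_insert_of_notMem (by simp [h0.symm]),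
      Finset.card_pair h1.symm]; decide⟩
  have h2 : a = -1 := by
    rcases key (a + 1) with e | e | e
    exacts [eq_neg_of_add_eq_zero_left e, absurd (by simpa using e) h0, by simp at e]
  subst h2
  refine ⟨key, ?_⟩
  rcases key (1 + 1) with e | e | e
  exacts [absurd (by linear_combination -e) h1, by simp at e, e]

theorem torC_of_odd (h3 : (1 : K) + 1 = -1) {γ m k : Root D} (h1 : Even (pair γ k)) (h2 : Odd (pair γ m)) : TorC K m k :=
  ⟨γ, -1, by simp, h1.neg_one_zpow, by
    rw [h2.neg_one_zpow]; intro e; exact one_ne_zero (α := K) (by linear_combination h3 + e)⟩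

theorem torC_or (h3 : (1 : K) + 1 = -1) {m k : Root D} (h1 : k ≠ m) (h2 : k ≠ m.rev) : TorC K m k ∨ TorC K k m ∨ pair m k = 0 := by
  rcases Int.even_or_odd (pair k m) with ⟨a, e⟩ | e
  · rcases Int.even_or_odd (pair m k) with ⟨b, e'⟩ | e'
    · have := pair_mul_pair_le h1 h2
      rcases lt_trichotomy (pair m k) 0 with h | h | h
      · have := pair_neg_comm.1 h
        nlinarith [show pair m k ≤ -2 by omega, show pair k m ≤ -2 by omega]
      · exact .inr (.inr h)
      · have := pair_pos_comm.1 h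
        nlinarith [show 2 ≤ pair m k by omega, show 2 ≤ pair k m by omega]
    · exact .inr (.inl (torC_of_odd h3 (by simp) e'))
  · exact .inl (torC_of_odd h3 (by simp) e)

theorem TorN.torC {n : ℕ} {m k : Root D} (h : TorN (n : ℤ) m k) (hK : ∃ s : Finset K, n + 1 < s.card) : TorC K m k :=
  let ⟨γ, h1, h2, h3⟩ := h; let ⟨c, a, b⟩ := exists_zpow_ne hK h2 h3; ⟨γ, c, a, by simp [h1], b⟩

/-- `k = b + c` with `b, c` commuting with `m` -/
def DecP (ε : ℤ) (m k b c : Root D) : Prop := c ≠ b ∧ c ≠ b.rev ∧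
  (D.commTerms b c = [(k.1, ε, 1, 1)] ∨ D.commTerms b c = [(k.1, -ε, 1, 1)]) ∧
  b ≠ m.rev ∧ c ≠ m.rev ∧ k ≠ m.rev ∧ Nc m b = 0 ∧ Nc m c = 0 ∧ Nc m k = 0

instance instDecDecP (ε : ℤ) (m k b c : Root D) : Decidable (DecP ε m k b c) := by unfold DecP; infer_instance

variable (D) in
/-- simply laced -/
def SL : Prop := ∀ r s : Root D, pair r s = pair s r

theorem sl_of_symm [Cert D] (h : ∀ i j : Node D, D.cartan i (D.simple j) = D.cartan j (D.simple i)) : SL D := by
  have h1 : ∀ i j : Node D, ip (sroot i) (sroot i) = ip (sroot j) (sroot j) := fun i j => by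
    by_contra e
    obtain ⟨a, ha, b, hb, h2⟩ := Cert.conn {k | ip (sroot k) (sroot k) = ip (sroot i) (sroot i)} ⟨i, rfl⟩ ⟨j, Ne.symm e⟩
    have := pair_mul_ip (sroot b) (sroot a)
    rw [pair_sroot, pair_sroot, show wt (sroot b) a = wt (sroot a) b from h a b] at this
    exact hb ((mul_left_cancel₀ h2 this).trans ha)
  have h2 : ∀ r : Root D, ∃ i, ip r r = ip (sroot i) (sroot i) :=
    root_induction (fun i => ⟨i, rfl⟩) fun _ _ ⟨i, h⟩ => ⟨i, (ip_refl _ _ _).trans h⟩
  intro r s
  obtain ⟨i, hi⟩ := h2 r; obtain ⟨j, hj⟩ := h2 s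
  exact mul_right_cancel₀ (ip_self_pos r).ne' (by rw [pair_mul_ip, hi, hj, h1 i j])

omit [Good D] in
theorem pair_lin {u r s : Root D} {a b : ℤ} (e : wt u = a • wt r + b • wt s) (γ : Root D) :
    pair γ u = a * pair γ r + b * pair γ s := fv_lin (cor γ) e

namespace SL
variable (h : SL D)
include h

theorem pair_of_Nc {r s : Root D} (e : Nc r s ≠ 0) : pair r s = -1 := by
  have h1 := pair_lin (a := 1) (b := 1) (by simpa using wt_radd e)
  have := h1 (radd r s)
  rw [pair_self, h _ r, h _ s, h1, h1, h s r] at this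
  simp only [pair_self] at this
  omega

theorem Nc_eq_zero {r s : Root D} (e : 0 ≤ pair r s) : Nc r s = 0 := by
  by_contra e'; rw [h.pair_of_Nc e'] at e; omega

theorem clen_le (r s : Root D) : clen r s ≤ 1 := by
  by_contra! e
  have h1 := h.pair_of_Nc (chain_step le_rfl e).1
  have h2 : Nc r s ≠ 0 := Nc_ne_iff.2 e.le
  rw [show chainR r s 1 = radd r s from rfl, pair_lin (a := 1) (b := 1) (by simpa using wt_radd h2), h.pair_of_Nc h2] at h1
  simp at h1

theorem commTerms {r s : Root D} (e : pair r s = -1) :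
    ∃ ε : ℤ, (ε = 1 ∨ ε = -1) ∧ D.commTerms r s = [((refl r s).1, ε, 1, 1)] := by
  have h1 : s ≠ r := by rintro rfl; simp at e
  have h2 : s ≠ r.rev := by rintro rfl; simp at e
  have h3 := Nc_ne_of_pair_neg h2 (by omega)
  have h4 := jac_a h1 h2
  rw [h.Nc_eq_zero (r := r.rev) (by simp [e]), e] at h4
  exact ⟨Nc r s, Int.eq_one_or_neg_one_of_mul_eq_one (v := Nc r.rev (radd r s)) (by linarith), by
    rw [commTerms_one (le_antisymm (h.clen_le _ _) (Nc_ne_iff.1 h3)) (h.clen_le _ _), radd_eq h3 (u := refl r s) (by simp [wt_refl, e, add_comm])]⟩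

theorem pair_cases {r s : Root D} (h1 : s ≠ r) (h2 : s ≠ r.rev) : pair r s = -1 ∨ pair r s = 0 ∨ pair r s = 1 := by
  have := pair_mul_pair_le h1 h2
  rw [h s r] at this
  have : pair r s ≤ 1 := by nlinarith
  have : -1 ≤ pair r s := by nlinarith
  omega

theorem decP {m k b : Root D} (h1 : pair b k = 1) (h2 : 0 ≤ pair m b) (h3 : pair m b ≤ pair m k) : DecP 1 m k b (refl b k) := by
  have h4 : pair b (refl b k) = -1 := by simp [h1]
  have h5 : 0 ≤ pair m (refl b k) := by rw [pair_refl_right, h1]; omega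
  have h6 : ∀ {x}, 0 ≤ pair m x → x ≠ m.rev := fun e e' => by simp [e'] at e
  obtain ⟨ε, a, e⟩ := h.commTerms h4
  rw [refl_refl] at e
  exact ⟨fun e => by simp [e] at h4, fun e => by simp [e] at h4, by rcases a with rfl | rfl <;> simp [e], h6 h2, h6 h5,
    h6 (h2.trans h3), h.Nc_eq_zero h2, h.Nc_eq_zero h5, h.Nc_eq_zero (h2.trans h3)⟩

end SL

theorem exists_indep [Cert D] (r : Root D) : ∃ k, r ≠ k ∧ r ≠ k.rev := by
  obtain ⟨w, i, -⟩ := exists_weyl_sroot r
  obtain ⟨b, c, -, -, -, -, h1, h2, -⟩ := Cert.ex i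
  by_contra! e
  rcases eq_or_ne r b with rfl | h
  · exact h2 (by simp [e c h1.symm])
  · obtain rfl := e b h
    exact h1 (Fin.rev_injective (e c h2.symm)).symm

namespace CE
variable {π : E →* G} {C : CE π} {S : StSys D K G}

theorem CL_of_decP {ε : ℤ} (hε : (ε : K) ≠ 0) {m k b c : Root D} (h : DecP ε m k b c) : C.CL S m k := by
  obtain ⟨h1, h2, h3, h4, h5, h6, h7, h8, h9⟩ := h
  rcases h3 with h3 | h3
  · exact CL_dec (l1 := []) h1 h2 h3 hε (S.commute_of_Nc h4 h7) (S.commute_of_Nc h5 h8) (S.commute_of_Nc h6 h9) (by simp)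
  · exact CL_dec (l1 := []) h1 h2 h3 (by simpa using hε) (S.commute_of_Nc h4 h7) (S.commute_of_Nc h5 h8) (S.commute_of_Nc h6 h9) (by simp)

variable (π S) in
/-- the root elements have lifts satisfying the Steinberg relations -/
def _root_.H11.Lifts : Prop := ∃ ψ : Root D → K → E, (∀ r t, π (ψ r t) = S.x r t) ∧ StRel ψ

variable [Cert D]

theorem CL_self (h : ∀ i, C.CL S (sroot i) (sroot i)) (r : Root D) : C.CL S r r :=
  CL_weyl (P := Eq) (fun _ _ _ e => e ▸ rfl) (fun i _ e => e ▸ h i) rfl

theorem CL_SL (h : SL D) (hT : AllTor D 1) {m k : Root D} (e : 0 ≤ pair m k) : C.CL S m k := by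
  rcases eq_or_ne k m with rfl | h1
  · obtain ⟨a, h1, h2⟩ := exists_indep k
    obtain ⟨γ, -, h3, h4⟩ := hT _ _ h1 h2
    exact CL_of_decP (ε := 1) (by simp) (h.decP (le_antisymm h4 h3) (by rw [h]; omega) (by rw [h, pair_self]; omega))
  · obtain ⟨γ, h2, h3, h4⟩ := hT _ _ h1 fun e' => by simp [e'] at e
    exact CL_of_decP (ε := 1) (by simp) (h.decP (le_antisymm h4 h3) (by rw [h, h2]) (by rw [h, h2]; exact e))

variable (C) (hg : S.grp = ⊤) (hp : commutator G = ⊤)
include C hg hp

theorem lift_tor {n : ℕ} (hT : AllTor D n) (hK : ∃ s : Finset K, n + 1 < s.card) (h : ∀ r, C.CL S r r) : Lifts π S := by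
  have : ∀ r, ∃ f, C.Loc S r f := fun r => by
    obtain ⟨k, h1, h2⟩ := exists_indep r
    obtain ⟨γ, c, a, -, b⟩ := (hT _ _ h1 h2).torC hK
    exact exists_loc hg hp a b (h r)
  choose ψ hψ using this
  exact ⟨ψ, fun r => (hψ r).π_eq, exists_rel ψ hψ fun m k a b =>
    .inl ((hT _ _ a.symm fun e => b (by simp [e])).torC hK)⟩

omit C hg hp in
theorem exists_pair_one (h : ∀ i : Node D, ∃ j : Node D, D.cartan j (D.simple i) = -1) (r : Root D) : ∃ γ, pair γ r = 1 := by
  obtain ⟨w, i, rfl⟩ := exists_weyl_sroot r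
  obtain ⟨j, h⟩ := h i
  exact ⟨w.1 (sroot j).rev, by rw [RootAut.pair_eq (Weyl.aut w), pair_rev_left, pair_sroot, neg_eq_iff_eq_neg]; exact h⟩

theorem lift_three (hK : ∀ t : K, t = 0 ∨ t = 1 ∨ t = -1) (h3 : (1 : K) + 1 = -1)
    (h1 : ∀ i : Node D, ∃ j : Node D, D.cartan j (D.simple i) = -1)
    (h2 : ∀ i m, pair m (sroot i) = 0 → TorC K m (sroot i) ∨ TorC K (sroot i) m ∨ Nc m (sroot i) = 0 ∧ C.CL S m (sroot i)) :
    Lifts π S := by
  have : ∀ r, ∃ f, C.Loc S r f := fun r => by
    obtain ⟨γ, h⟩ := exists_pair_one h1 r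
    exact exists_loc hg hp (γ := γ) (c := -1) (by simp) (by
      rw [h, zpow_one]; intro e; exact one_ne_zero (α := K) (by linear_combination h3 + e))
      (CL_of_one (S.commute_of_Nc (ne_rev r) (Nc_self r)) hK (C.cm_self _))
  choose ψ hψ using this
  refine ⟨ψ, fun r => (hψ r).π_eq, exists_rel ψ hψ fun m k a b => ?_⟩
  rcases torC_or h3 a b with h | h | h
  · exact .inl h
  · exact .inr (.inl h)
  have := weyl_induction₂ (P := fun m k => pair m k = 0 → TorC K m k ∨ TorC K k m ∨ Nc m k = 0 ∧ C.CL S m k)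
    (fun w m k h e => by
      obtain ⟨g, -, hg⟩ := exists_acts_weyl (S := S) w
      exact (h (RootAut.pair_eq (Weyl.aut w) _ _ ▸ e)).imp (·.weyl w) (·.imp (·.weyl w) fun h => ⟨Nc_weyl w h.1, h.2.acts hg⟩))
    h2 m k h
  exact this.imp_right (·.imp_right fun h => h.2.relP h.1 fun r => (hψ r).π_eq)

omit hg hp in
theorem cm_move (h : SL D) (hT : AllTor D 1) {a c d : Root D} (h1 : pair a c = -1) (h2 : pair c d = -1) (h3 : pair a d = 0)
    {t u v p q : K} (hp : ⁅S.x c u, S.x d v⁆ = S.x (refl c d) p) (hq : ⁅S.x a t, S.x c u⁆ = S.x (refl a c) q) :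
    C.cm (S.x a t) (S.x (refl c d) p) = C.cm (S.x (refl a c) q) (S.x d v) := by
  have e1 : pair (refl a c) d = -1 := by rw [pair_refl_left, h c a, h1, h2, h3]; rfl
  obtain ⟨ε, -, e2⟩ := h.commTerms ((h _ _).trans e1)
  have e3 := π_cm_x (C := C) (S := S) (fun e => by simp [e] at e1) (fun e => by simp [e] at e1) e2 v q
  have e4 := CL_SL (C := C) (S := S) h hT (m := refl c d) (k := refl a c) (by
    simp [pair_refl_left, pair_refl_right, h d c, h c a, h d a, h1, h2, h3])
  have e5 := CL_SL (C := C) (S := S) h hT (m := refl c d) (k := refl d (refl a c)) (by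
    simp [pair_refl_left, pair_refl_right, h d c, h c a, h d a, h1, h2, h3])
  have e6 := C.ρ_cm (S.x a t) (S.x c u) (S.x d v)
  rw [(CL_SL (C := C) h hT h3.ge).commute t v, mul_inv_cancel_right, show S.x a t * S.x c u * _ = ⁅S.x a t, S.x c u⁆ * S.x c u by
    simp [commutatorElement_def], hq, cm_mul_left, e4.symm.ρ q (by rw [π_cm, hp])] at e6
  have e7 := (C.π_cm _ _).trans hp
  have e8 := C.ρ_π (C.cm (S.x c u) (S.x d v)) (C.cm (S.x (refl a c) q) (S.x d v))
  rw [e7, e5.ρ p e3] at e8
  rw [← e7, cm_π, e6, ← e8]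

omit hg hp in
theorem lift_two (h : SL D) (hT : AllTor D 1) (hK : ∀ t : K, t = 0 ∨ t = 1) : Lifts π S := by
  have hK' : ∀ t : K, t = 0 ∨ t = 1 ∨ t = -1 := fun t => (hK t).imp_right .inl
  have h2 : (-1 : K) = 1 := (hK _).resolve_left (by simp)
  have hx : ∀ {a b : Root D}, pair a b = -1 → π (C.cm (S.x b 1) (S.x a 1)) = S.x (refl a b) 1 := fun e => by
    obtain ⟨ε, hε, e2⟩ := h.commTerms e
    rw [π_cm_x (fun e' => by simp [e'] at e) (fun e' => by simp [e'] at e) e2]
    rcases hε with rfl | rfl <;> simp [h2]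
  have hr : ∀ {a b : Root D}, pair a b = -1 → refl b a = refl a b := fun {a b} e =>
    refl_eq (by rw [wt_refl, h b a, e]; simp [add_comm])
  have hs : ∀ {a b : Root D}, pair a b = -1 → C.cm (S.x a 1) (S.x b 1) = C.cm (S.x b 1) (S.x a 1) := fun {a b} e => by
    have := C.cm_mul_left (S.x b 1) (S.x b 1) (S.x a 1)
    rw [(CL_SL h hT (by simp [pair_refl_right, e, h b a])).ρ 1 (hx e), S.add, show (1 : K) + 1 = 0 by linear_combination -h2] at this
    rw [← cm_inv, inv_eq_iff_mul_eq_one, ← this]; simp
  have hm : ∀ {a b a' b' : Root D}, pair a b = -1 → pair a' b' = -1 → refl a b = refl a' b' → pair a b' = 0 →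
      C.cm (S.x a 1) (S.x b 1) = C.cm (S.x a' 1) (S.x b' 1) := fun {a b a' b'} e e' e1 e2 => by
    have e3 : pair a a' = 1 := by simpa [pair_refl_right, e, e', e2] using (congrArg (pair a) e1).symm
    have e4 : pair a (refl a a') = -1 := by simp [e3]
    have e5 : pair (refl a a') b' = -1 := by simp [pair_refl_left, e', e2]
    have e6 : refl (refl a a') b' = b := refl_eq (by
      have := congrArg wt e1
      rw [wt_refl, wt_refl, e, e'] at this
      rw [e5, wt_refl, e3]; linear_combination this)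
    simpa [e6] using C.cm_move h hT e4 e5 e2 (t := 1) (u := 1) (v := 1) (p := 1) (q := 1)
      (by rw [← C.π_cm, hs e5, hx e5]) (by rw [← C.π_cm, hs e4, hx e4])
  have hu : ∀ {a b a' b' : Root D}, pair a b = -1 → pair a' b' = -1 → refl a b = refl a' b' →
      C.cm (S.x a 1) (S.x b 1) = C.cm (S.x a' 1) (S.x b' 1) := fun {a b a' b'} e e' e1 => by
    have e2 : pair a b' + pair a a' = 1 := by simpa [pair_refl_right, e, e'] using (congrArg (pair a) e1).symm
    have e3 := congrArg wt e1
    rw [wt_refl, wt_refl, e, e'] at e3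
    rcases eq_or_ne a' a with rfl | n1
    · rw [wt_injective (sub_left_injective e3)]
    rcases eq_or_ne b' a with rfl | n2
    · rw [wt_injective (show wt b = wt a' by linear_combination e3), hs e']
    have n3 : a' ≠ a.rev := by
      rintro rfl; have := h.pair_cases n2 (by rintro rfl; simp at e'); simp at e2; omega
    have n4 : b' ≠ a.rev := by
      rintro rfl; have := h.pair_cases n1 n3; simp at e2; omega
    have := h.pair_cases n1 n3
    have := h.pair_cases n2 n4
    by_cases e4 : pair a b' = 0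
    · exact hm e e' e1 e4
    · rw [hs e']; exact hm e (h a' b' ▸ e') (e1.trans (hr e').symm) (by omega)
  have : ∀ r : Root D, ∃ a b, pair a b = -1 ∧ refl a b = r := fun r => by
    obtain ⟨k, h1, h2⟩ := exists_indep r
    obtain ⟨γ, -, h3, h4⟩ := hT _ _ h1 h2
    exact ⟨γ, refl γ r, by simp; omega, refl_refl _ _⟩
  choose a b h3 h4 using this
  have h5 : ∀ r t, π (C.cm (S.x (b r) 1) (S.x (a r) t)) = S.x r t := fun r t => by
    rcases hK t with rfl | rfl
    exacts [by simp, by rw [hx (h3 r), h4]]
  have h6 : ∀ r t u, C.cm (S.x (b r) 1) (S.x (a r) t) * C.cm (S.x (b r) 1) (S.x (a r) u) = C.cm (S.x (b r) 1) (S.x (a r) (t + u)) :=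
    fun r t u => by
      rw [← S.add, cm_mul_right, (CL_SL h hT (by have := pair_refl_self (a r) (b r); rw [h4, h3] at this; omega)).ρ t (h5 r u)]
  refine ⟨_, h5, C.rel_of_kill h5 h6 fun m k n1 n2 => .inr ?_⟩
  by_cases e : pair m k = -1
  · obtain ⟨ε, hε, e2⟩ := h.commTerms e
    refine relP_of_cm (C := C) h5 h6 e2 fun t u => ?_
    have : (ε : K) = 1 := by rcases hε with rfl | rfl <;> simp [h2]
    rcases hK t with rfl | rfl
    · simp
    rcases hK u with rfl | rfl
    · simp
    simpa [this, h2] using hu (h m k ▸ e) (h _ _ ▸ h3 _) (by rw [hr e, hr (h3 _), h4])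
  · have := h.pair_cases n1 n2
    exact (CL_SL (C := C) h hT (by omega)).relP (h.Nc_eq_zero (by omega)) h5

omit C hg hp in
theorem n_sq_conj (r s : Root D) (u : K) :
    S.n r 1 * S.n r 1 * S.x s u * (S.n r 1 * S.n r 1)⁻¹ = S.x s ((-1) ^ (pair r s).natAbs * u) := by
  have := congrArg (Int.cast : ℤ → K) (eta_mul_refl r s)
  push_cast at this
  rw [← this, show ∀ x y : G, x * x * y * (x * x)⁻¹ = x * (x * y * x⁻¹) * x⁻¹ by intros; group, n_conj _ _ one_ne_zero,
    n_conj _ _ one_ne_zero, refl_refl]
  congr 1; simp; ring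

omit hg hp in
theorem CL_swap1 (hK : ∀ t : K, t = 0 ∨ t = 1 ∨ t = -1) (h3 : (1 : K) + 1 = -1) {m k γ : Root D} (h0 : pair m k = 0)
    (h : Nc m k = 0 ∧ wt k = wt m - pair γ m • wt γ ∧ Even (pair γ m)) : C.CL S m k :=
  CL_swap hK h3 (S.commute_of_Nc (fun e => by simp [e] at h0) h.1) (acts_n γ one_ne_zero) (refl_eq h.2.1)
    (by rw [← refl_eq h.2.1]; exact refl_refl _ _) (by rw [n_sq_conj, (Int.natAbs_even.2 h.2.2).neg_one_pow, one_mul])

omit hg hp in
theorem CL_swap2 (hs : SL D) (hK : ∀ t : K, t = 0 ∨ t = 1 ∨ t = -1) (h3 : (1 : K) + 1 = -1) {m k a b : Root D} (h0 : pair m k = 0)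
    (h : pair a b = 0 ∧ pair a m = 1 ∧ pair b m = 1 ∧ wt k = wt m - wt b - wt a) : C.CL S m k := by
  obtain ⟨h1, h2, h4, h5⟩ := h
  have h6 : ∀ {x y : Root D}, pair x y = 0 → ∀ t u, Commute (S.x x t) (S.x y u) := fun e =>
    S.commute_of_Nc (fun e' => by simp [e'] at e) (hs.Nc_eq_zero e.ge)
  have h7 : ∀ {x : Root D}, pair x b = 0 → ∀ t, Commute (S.x x t) (S.n b 1) := fun e t =>
    ((h6 e _ _).mul_right (h6 (by simp [e]) _ _)).mul_right (h6 e _ _)
  have h8 : Commute (S.n a 1) (S.n b 1) := ((h7 h1 _).mul_left (h7 (by simp [h1]) _)).mul_left (h7 h1 _)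
  have h9 : refl a (refl b m) = k := refl_eq (by simp [wt_refl, pair_refl_right, h1, h2, h4, h5])
  refine CL_swap hK h3 (h6 h0) ((acts_n a one_ne_zero).mul (sref_mem_RootAut _) (acts_n b one_ne_zero)) h9 ?_ ?_
  · rw [← h9]; exact refl_eq (by simp [wt_refl, pair_refl_right, h1, h2, h4, hs b a]; abel)
  · rw [h8.symm.mul_mul_mul_comm, mul_inv_rev (S.n a 1 * _), show ∀ x y z : G, x * y * z * (y⁻¹ * x⁻¹) = x * (y * z * y⁻¹) * x⁻¹ by
      intros; group, n_sq_conj, n_sq_conj, h2, h4]
    simp

end CE

omit [Good D]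

theorem slD4 : SL chevD4 := sl_of_symm (by decide +kernel)
theorem slE6 : SL chevE6 := sl_of_symm (by decide +kernel)
theorem slE7 : SL chevE7 := sl_of_symm (by decide +kernel)
theorem slE8 : SL chevE8 := sl_of_symm (by decide +kernel)

namespace CE
variable {π : E →* G} (C : CE π)
include C

theorem lift_SL [Good D] [Cert D] {S : StSys D K G} (hg : S.grp = ⊤) (hp : commutator G = ⊤) (h : SL D) (hT : AllTor D 1) :
    Lifts π S := by
  classical
  by_cases hK : ∀ t : K, t = 0 ∨ t = 1
  · exact C.lift_two h hT hK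
  push Not at hK
  obtain ⟨t, h0, h1⟩ := hK
  exact C.lift_tor hg hp (n := 1) hT ⟨{t, 0, 1}, by rw [Finset.card_insert_of_notMem (by simp [h0, h1])]; simp⟩
    fun r => CL_SL h hT (by simp)

theorem lift_D4 {S : StSys chevD4 K G} (hg : S.grp = ⊤) (hp : commutator G = ⊤) (hK : ∃ a : K, a ≠ 0 ∧ a ≠ 1) : Lifts π S := by
  have h1 : ∀ i : Node chevD4, ∃ j : Node chevD4, chevD4.cartan j (chevD4.simple i) = -1 := by decide +kernel
  rcases three_or hK with h | ⟨h, h3⟩
  · refine C.lift_tor hg hp (n := 2) allTorD4 h fun r => ?_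
    obtain ⟨γ, e⟩ := exists_pair_one h1 r
    exact CL_of_decP (ε := 1) (by simp) (slD4.decP e (by rw [slD4, e]; simp) (by rw [slD4, e]; simp))
  · refine C.lift_three hg hp h h3 h1 fun i m e => .inr (.inr ⟨slD4.Nc_eq_zero e.ge, ?_⟩)
    obtain ⟨a, b, h4⟩ : ∃ a b, pair a b = 0 ∧ pair a m = 1 ∧ pair b m = 1 ∧ wt (sroot i) = wt m - wt b - wt a := by
      simp only [funext_iff, Pi.sub_apply, agreeD4.pair_eq, agreeD4.wt_eq, sroot_val] at e ⊢
      revert i m; decide +kernel
    exact C.CL_swap2 slD4 h h3 e h4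

theorem lift_F4 {S : StSys chevF4 K G} (hg : S.grp = ⊤) (hp : commutator G = ⊤) (hK : ∃ a : K, a ≠ 0 ∧ a ≠ 1) : Lifts π S := by
  rcases three_or hK with h | ⟨h, h3⟩
  · refine C.lift_tor hg hp (n := 2) allTorF4 h (CL_self fun i => ?_)
    obtain ⟨⟨b, c⟩, -, e⟩ : ∃ p ∈ [(rt chevF4 7, rt chevF4 44), (rt _ 8, rt _ 40), (rt _ 2, rt _ 46), (rt _ 1, rt _ 47)],
      DecP 1 (sroot i) (sroot i) p.1 p.2 := by revert i; decide +kernel
    exact CL_of_decP (ε := 1) (by simp) e
  · refine C.lift_three hg hp h h3 (by decide +kernel) fun i m e => ?_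
    obtain ⟨γ, h4⟩ : ∃ γ, pair γ m = 1 ∧ pair γ (sroot i) = 0 ∨ pair γ m = 0 ∧ pair γ (sroot i) = 1 ∨
        Nc m (sroot i) = 0 ∧ wt (sroot i) = wt m - pair γ m • wt γ ∧ pair γ m = 2 := by
      simp only [funext_iff, Pi.sub_apply, Pi.smul_apply, agreeF4.pair_eq, agreeF4.wt_eq, agreeF4.Nc_eq, sroot_val] at e ⊢
      revert i m; decide +kernel
    rcases h4 with h4 | h4 | h4
    exacts [.inl (torC_of_odd h3 (γ := γ) (by simp [h4]) (by simp [h4])), .inr (.inl (torC_of_odd h3 (γ := γ) (by simp [h4]) (by simp [h4]))),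
      .inr (.inr ⟨h4.1, C.CL_swap1 h h3 e ⟨h4.1, h4.2.1, by simp [h4.2.2]⟩⟩)]

theorem lift_G2 {S : StSys chevG2 K G} (hg : S.grp = ⊤) (hp : commutator G = ⊤) (hK : ∃ s : Finset K, 4 < s.card) : Lifts π S := by
  obtain ⟨v, h0, h1, h2⟩ := exists_trick hK
  refine C.lift_tor hg hp (n := 3) allTorG2 hK fun r => ?_
  obtain ⟨γ, e⟩ : ∃ γ, pair γ r = 1 := by revert r; decide +kernel
  exact CL_trick e h0 h1 h2

theorem lift_B2_big {S : StSys chevB2 K G} (hg : S.grp = ⊤) (hp : commutator G = ⊤) (hK : ∃ s : Finset K, 3 < s.card)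
    (h : (∃ s : Finset K, 4 < s.card) ∨ (2 : K) = 0) : Lifts π S := by
  have h1 : ∀ m k : Root chevB2, m ≠ k ∧ m ≠ k.rev ∧ Nc m k = 0 → C.CL S m k := fun m k h =>
    CL_tor (S.commute_of_Nc (fun e => h.2.1 (by simp [e])) h.2.2) ((allTorB2 _ _ h.1 h.2.1).torC (n := 2) hK)
  refine C.lift_tor hg hp (n := 2) allTorB2 hK (CL_self fun i => ?_)
  fin_cases i
  · rcases h with h | h
    · obtain ⟨v, h0, h1, h2⟩ := exists_trick h
      exact CL_trick (γ := rt _ 3) (by decide +kernel) h0 h1 h2
    · refine CL_dec (b := rt _ 6) (c := rt _ 3) (l1 := []) (l2 := [(7, 1, 2, 1)]) (ε := -1) (i := 1) (by decide) (by decide)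
        (by decide +kernel) (by simp) (fun t u => ?_) (S.commute_of_Nc (by decide) (by decide +kernel))
        (S.commute_of_Nc (by decide) (by decide +kernel)) fun e he r hr => h1 _ _ (by revert r e; decide +kernel)
      have := S.comm (rt _ 5) (rt _ 6) (by decide) (by decide) t u
      rw [ChevalleyDatum.commWord, show chevB2.commTerms 5 6 = [(7, 2, 1, 1)] by decide +kernel] at this
      exact show S.x (rt _ 5) t * _ = _ * S.x (rt _ 5) t by simpa [h, S.rel.xNat_zero] using this.symm
  · exact CL_dec (b := rt _ 2) (c := rt _ 7) (l1 := [(6, 1, 1, 1)]) (l2 := []) (ε := -1) (i := 2) (by decide) (by decide)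
      (by decide +kernel) (by simp) (S.commute_of_Nc (by decide) (by decide +kernel)) (S.commute_of_Nc (by decide) (by decide +kernel))
      (S.commute_of_Nc (by decide) (by decide +kernel)) fun e he r hr => h1 _ _ (by revert r e; decide +kernel)

set_option synthInstance.maxSize 2000 in
theorem lift_B2_three {S : StSys chevB2 K G} (hg : S.grp = ⊤) (hp : commutator G = ⊤) (hK : ∀ t : K, t = 0 ∨ t = 1 ∨ t = -1)
    (h3 : (1 : K) + 1 = -1) : Lifts π S := by
  have : ∀ r, ∃ f, C.Loc S r f ∧ ∀ (a b : Root chevB2) (ε : ℤ), pair a b = 0 → chevB2.commTerms a b = [(r.1, ε, 1, 1)] →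
      ∀ t u, C.cm (S.x b u) (S.x a t) = f (-(ε * t * u)) := fun r => by
    obtain ⟨⟨γ, h⟩, h'⟩ | ⟨a, b, ε, hε, h1, h2, h4, h5, h6, h7, h8⟩ : ((∃ γ, pair γ r = 1) ∧
        ∀ a b : Root chevB2, pair a b = 0 → (chevB2.commTerms a b).map Prod.fst ≠ [r.1]) ∨
        ∃ a b : Root chevB2, ∃ ε ∈ [2, -2], b ≠ a ∧ b ≠ a.rev ∧ chevB2.commTerms a b = [(r.1, ε, 1, 1)] ∧
          chevB2.commTerms b a = [(r.1, -ε, 1, 1)] ∧ (r ≠ a.rev ∧ Nc a r = 0 ∧ pair r a = 1) ∧ (r ≠ b.rev ∧ Nc b r = 0 ∧ pair r b = 1) ∧
          ∀ a' b' : Root chevB2, pair a' b' = 0 → (chevB2.commTerms a' b').map Prod.fst = [r.1] →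
            a' = a ∧ b' = b ∨ a' = b ∧ b' = a := by revert r; decide +kernel
    · obtain ⟨f, hf⟩ := exists_loc hg hp (γ := γ) (c := -1) (by simp) (by
        rw [h, zpow_one]; intro e; exact one_ne_zero (α := K) (by linear_combination h3 + e))
        (CL_of_one (C := C) (S.commute_of_Nc (ne_rev r) (Nc_self r)) hK (C.cm_self _))
      exact ⟨f, hf, fun a b ε e e' => absurd (by simp [e']) (h' a b e)⟩
    have h9 : (ε : K) ≠ 0 := by
      have : (2 : K) ≠ 0 := fun e => one_ne_zero (α := K) (by linear_combination h3 - e)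
      simp only [List.mem_cons, List.not_mem_nil, or_false] at hε
      rcases hε with rfl | rfl <;> simpa using this
    have ha : C.CL S a r := CL_tor (S.commute_of_Nc h6.1 h6.2.1) (torC_of_odd h3 (γ := r) (by simp) (by simp [h6]))
    have hb : C.CL S b r := CL_tor (S.commute_of_Nc h7.1 h7.2.1) (torC_of_odd h3 (γ := r) (by simp) (by simp [h7]))
    refine ⟨_, loc_small hK h1 h2 h4 ha hb h9, fun a' b' ε' e e' t u => ?_⟩
    rcases h8 a' b' e (by simp [e']) with ⟨rfl, rfl⟩ | ⟨rfl, rfl⟩
    · obtain rfl : ε' = ε := by simpa [h4] using e'.symm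
      rw [cm_eq_small hK h1 h2 h4 ha hb]; congr 2; field_simp
    · obtain rfl : ε' = -ε := by simpa [h5] using e'.symm
      have hf := loc_small hK h1 h2 h4 ha hb h9
      rw [← cm_inv, cm_eq_small hK h1 h2 h4 ha hb, inv_eq_iff_mul_eq_one, show u * t = -(-(ε * t * u) / ε) by field_simp, hf.add]
      simp
  choose ψ hψ h using this
  refine ⟨ψ, fun r => (hψ r).π_eq, exists_rel ψ hψ fun m k a b => ?_⟩
  rcases torC_or h3 a b with e | e | e
  · exact .inl e
  · exact .inr (.inl e)
  obtain ⟨r, ⟨ε, -, h4⟩ | h4⟩ : ∃ r : Root chevB2, (∃ ε ∈ [2, -2], chevB2.commTerms m k = [(r.1, ε, 1, 1)]) ∨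
      Nc m k = 0 ∧ wt k = wt m - pair r m • wt r ∧ pair r m = 2 := by
    simp only [funext_iff]; revert m k; decide +kernel
  · exact .inr (.inr (relP_of_cm (fun r => (hψ r).π_eq) (fun r => (hψ r).add) h4 (h r m k ε e h4)))
  · exact .inr (.inr ((C.CL_swap1 hK h3 e ⟨h4.1, h4.2.1, by simp [h4.2.2]⟩).relP h4.1 fun r => (hψ r).π_eq))

theorem lift_big (hD : D ∈ [chevG2, chevB2, chevD4, chevF4, chevE6, chevE7, chevE8]) {S : StSys D K G} (hg : S.grp = ⊤)
    (hp : commutator G = ⊤) (hK : ∃ s : Finset K, 4 < s.card) : Lifts π S := by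
  have h1 : ∃ a : K, a ≠ 0 ∧ a ≠ 1 := let ⟨v, a, b, _⟩ := exists_trick hK; ⟨v, a, b⟩
  simp only [List.mem_cons, List.not_mem_nil, or_false] at hD
  rcases hD with rfl | rfl | rfl | rfl | rfl | rfl | rfl
  exacts [C.lift_G2 hg hp hK, C.lift_B2_big hg hp (hK.imp fun _ h => by omega) (.inl hK), C.lift_D4 hg hp h1, C.lift_F4 hg hp h1,
    C.lift_SL hg hp slE6 allTorE6, C.lift_SL hg hp slE7 allTorE7, C.lift_SL hg hp slE8 allTorE8]

theorem lift_B2 [Fintype K] {S : StSys chevB2 K G} (hg : S.grp = ⊤) (hp : commutator G = ⊤) (hK : ∃ a : K, a ≠ 0 ∧ a ≠ 1) :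
    Lifts π S := by
  rcases three_or hK with h | ⟨h, h3⟩
  · refine C.lift_B2_big hg hp h (or_iff_not_imp_left.2 fun e => ?_)
    obtain ⟨s, hs⟩ := h
    have h4 : Fintype.card K = 4 := le_antisymm (not_lt.1 fun h => e ⟨Finset.univ, h⟩) (hs.trans_le s.card_le_univ)
    have := FiniteField.cast_card_eq_zero K
    rw [h4] at this
    exact pow_eq_zero_iff two_ne_zero |>.1 (by rw [← this]; norm_num)
  · exact C.lift_B2_three hg hp h h3

end CE
end H11
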