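import Cfsg.Agent.H11.PG
import Cfsg.Agent.H11.G2Sp
import Cfsg.Agent.H11.TwsEx
import Cfsg.Agent.H11.Cent
import Cfsg.Agent.H27.Spec

/-! The eight-dimensional representation of the universal group of type D₄ (`D4W.exists_rho`), vanishing geometric sums (`geo_zero`),
and groups with the same element orders as a given linear group (`spec_large`). -/

namespace H11
open Cfsg Cfsg.Lie StSys Set

variable {K G : Type*} [Field K] [Group G]

theorem spec_large {ι : Type*} [Fintype ι] [DecidableEq ι] [Inhabited ι] [Finite G] [CharP K 2] (ρ : G →* Matrix ι ι K)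
    (h : ∀ g : G, (∃ g' : G, orderOf g' = orderOf g * 2) ∨ ∑ i ∈ Finset.range (orderOf g), ρ g ^ i = 0) (N : ℕ) :
    ∃ (H : Type) (_ : Group H) (_ : Fintype H), N < Fintype.card H ∧ range (orderOf : H → ℕ) = range (orderOf : G → ℕ) := by
  let V := AddSubgroup.closure (range fun x : G × ι => (ρ x.1).mulVec (Pi.single x.2 1))
  have hV (g : G) : ∀ v ∈ V, (ρ g).mulVec v ∈ V := fun v hv =>
    (AddSubgroup.closure_le (V.comap (ρ g).mulVecLin.toAddMonoidHom)).2 (by
      rintro _ ⟨x, rfl⟩; exact AddSubgroup.subset_closure ⟨(g * x.1, x.2), by simp only [map_mul, ← Matrix.mulVec_mulVec]; rfl⟩) hv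
  have h2 (v : V) : 2 • v = 0 := Subtype.ext (funext fun i => by simp [two_smul, CharTwo.add_self_eq_zero])
  have : Finite V := AddCommGroup.finite_of_fg_isAddTorsion _ fun v => isOfFinAddOrder_iff_nsmul_eq_zero.2 ⟨2, two_pos, h2 v⟩
  have : Nontrivial V := ⟨⟨_, AddSubgroup.subset_closure ⟨(1, default), rfl⟩⟩, 0, fun e => by
    simpa using congrFun (congrArg Subtype.val e) default⟩
  let : DistribMulAction G V :=
    { smul g v := ⟨_, hV g v v.2⟩
      one_smul v := Subtype.ext (show (ρ 1).mulVec _ = _ by simp)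
      mul_smul a b v := Subtype.ext (show (ρ _).mulVec _ = (ρ a).mulVec ((ρ b).mulVec _) by simp)
      smul_zero a := Subtype.ext (Matrix.mulVec_zero _)
      smul_add a v w := Subtype.ext (Matrix.mulVec_add ..) }
  obtain ⟨H, _, _, h3, h4⟩ := H27.sd_exists_large (φ := H27.actHom G V) Nat.prime_two (fun a => h2 a.toAdd) N
  refine ⟨H, _, _, h3, h4.trans (subset_antisymm ?_ ?_)⟩
  · rintro _ ⟨x, rfl⟩
    have h5 : orderOf x.right ∣ orderOf x := orderOf_map_dvd SemidirectProduct.rightHom x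
    obtain ⟨g, e⟩ | e := h x.right
    · obtain ⟨k, hk⟩ := h5
      have h6 := orderOf_dvd_of_pow_eq_one (H27.sd_pow_mul_eq_one x _ 2 (pow_orderOf_eq_one _) fun a => h2 a.toAdd)
      rw [hk] at h6 ⊢
      obtain rfl | rfl := (Nat.dvd_prime Nat.prime_two).1 (Nat.dvd_of_mul_dvd_mul_left (orderOf_pos _) h6)
      exacts [⟨_, (mul_one _).symm⟩, ⟨g, e⟩]
    · refine ⟨x.right, Nat.dvd_antisymm h5 (orderOf_dvd_of_pow_eq_one ?_)⟩
      rw [H27.sd_pow_eq_inl x _ (pow_orderOf_eq_one _), H27.sd_pow_left, map_eq_one_iff _ SemidirectProduct.inl_injective]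
      refine Multiplicative.toAdd.injective (Subtype.ext ?_)
      rw [toAdd_prod, AddSubmonoidClass.coe_finsetSum]
      refine Eq.trans ?_ ((congrArg (Matrix.mulVec · (x.left.toAdd : ι → K)) e).trans (Matrix.zero_mulVec _))
      rw [Matrix.sum_mulVec]
      exact Finset.sum_congr rfl fun i _ => by rw [← map_pow]; rfl
  · rintro _ ⟨g, rfl⟩
    exact ⟨.inr g, orderOf_injective _ SemidirectProduct.inr_injective g⟩

theorem geo_two {R : Type*} [Ring R] (x : R) (n : ℕ) : ∑ i ∈ Finset.range (2 * n), x ^ i = (x + 1) * ∑ i ∈ Finset.range n, (x ^ 2) ^ i := by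
  induction n with
  | zero => simp
  | succ n ih =>
    rw [mul_add, mul_one, Finset.sum_range_succ, Finset.sum_range_succ, ih, Finset.sum_range_succ, mul_add, ← pow_mul, add_mul x 1 (x ^ _), pow_succ' x (2 * n), one_mul]
    abel

theorem geo_pow {R : Type*} [Ring R] (h2 : (2 : R) = 0) (k m : ℕ) (x : R) :
    ∃ y, ∑ i ∈ Finset.range (2 ^ k * m), x ^ i = (x - 1) ^ (2 ^ k - 1) * y := by
  have h (x : R) : x + 1 = x - 1 := by rw [eq_sub_iff_add_eq, add_assoc, one_add_one_eq_two, h2, add_zero]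
  induction k generalizing x with
  | zero => exact ⟨_, by rw [pow_zero, Nat.sub_self, pow_zero, one_mul (_ : R)]⟩
  | succ k ih =>
    obtain ⟨y, hy⟩ := ih (x ^ 2)
    refine ⟨y, ?_⟩
    rw [pow_succ', mul_assoc, geo_two, hy, show x ^ 2 - 1 = (x - 1) ^ 2 by
      rw [sq (x - 1)]; nth_rw 1 [← h x]; noncomm_ring, h, ← pow_mul, ← mul_assoc, ← pow_succ']
    congr 2
    have := Nat.two_pow_pos k
    omega

theorem geo_zero {ι : Type*} [Fintype ι] [DecidableEq ι] [CharP K 2] {U : Matrix ι ι K} {d : ι → K} {f : ι → ℕ} {k m : ℕ}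
    (h : ∀ a b, (U - 1) a b ≠ 0 → d a = d b ∧ (d a = 1 → f b < f a)) (hf : ∀ a, d a = 1 → f a < 2 ^ k - 1) (hU : U ^ 2 ^ k = 1)
    (hA : (U * .diagonal d) ^ (2 ^ k * m) = 1) : ∑ i ∈ Finset.range (2 ^ k * m), (U * .diagonal d) ^ i = 0 := by
  classical
  have hc (e : ι → K) (he : ∀ a b, d a = d b → e a = e b) : Commute U (.diagonal e) := by
    rw [← sub_add_cancel U 1]
    refine Commute.add_left (Matrix.ext fun a b => ?_) (Commute.one_left _)
    rw [Matrix.mul_diagonal, Matrix.diagonal_mul]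
    by_cases e : (U - 1) a b = 0
    · simp [e]
    · rw [he a b (h a b e).1, mul_comm]
  set E : Matrix ι ι K := .diagonal fun a => if d a = 1 then 1 else 0
  have hE := hc (fun a => if d a = 1 then 1 else 0) fun a b e => by rw [e]
  have h1 (i : ℕ) : E * (U * .diagonal d) ^ i = E * U ^ i := by
    rw [(hc d fun _ _ => id).mul_pow, ← mul_assoc, ← (hE.pow_left i).eq, mul_assoc, Matrix.diagonal_pow, Matrix.diagonal_mul_diagonal]
    congr 2; ext a; split_ifs with e <;> simp [e]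
  have key (n : ℕ) : ∀ a b, d a = 1 → ((U - 1) ^ n) a b ≠ 0 → d b = 1 ∧ f b + n ≤ f a := by
    induction n with
    | zero => intro a b e1 e; have : a = b := by by_contra h1; simp [h1] at e
              simp [← this, e1]
    | succ n ih =>
      intro a b e1 e
      rw [pow_succ, Matrix.mul_apply] at e
      obtain ⟨c, -, hc⟩ := Finset.exists_ne_zero_of_sum_ne_zero e
      have h1 := ih a c e1 (left_ne_zero_of_mul hc)
      have h2 := h c b (right_ne_zero_of_mul hc)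
      exact ⟨h2.1 ▸ h1.1, by have := h2.2 h1.1; omega⟩
  obtain ⟨y, hy⟩ := geo_pow (by ext a b; simp [Matrix.ofNat_apply, CharTwo.two_eq_zero]) k m U
  have h2 : E * ∑ i ∈ Finset.range (2 ^ k * m), (U * .diagonal d) ^ i = 0 := by
    rw [Finset.mul_sum, Finset.sum_congr rfl fun i _ => h1 i, ← Finset.mul_sum, hy, ← mul_assoc, show E * _ = 0 from ?_, zero_mul]
    ext a b
    rw [Matrix.diagonal_mul]
    split_ifs with e
    · by_contra e'; have := key _ a b e (by simpa using e'); have := hf a e; omega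
    · simp
  have h3 : ((U * .diagonal d) ^ 2 ^ k - 1) * ∑ i ∈ Finset.range (2 ^ k * m), (U * .diagonal d) ^ i = 0 := by
    rw [← geom_sum_mul, mul_assoc, mul_geom_sum, hA, sub_self, mul_zero]
  rw [(hc d fun _ _ => id).mul_pow, hU, one_mul, Matrix.diagonal_pow, ← Matrix.diagonal_one, Matrix.diagonal_sub] at h3
  ext a b
  replace h2 := congrFun (congrFun h2 a) b
  replace h3 := congrFun (congrFun h3 a) b
  rw [Matrix.diagonal_mul] at h2 h3
  by_cases e : d a = 1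
  · simpa [e] using h2
  · refine (mul_eq_zero.1 h3).resolve_left fun e' => e ?_
    have : (d a - 1) ^ 2 ^ k = 0 := by rw [sub_pow_char_pow, one_pow]; exact e'
    exact sub_eq_zero.1 (pow_eq_zero_iff (by positivity) |>.1 this)

theorem hh_mat {R : Type*} [Ring R] [Algebra K R] {X Y : R} (h1 : X * X = 0) (h2 : Y * Y = 0) (h3 : X * (Y * X) = X) (h4 : Y * (X * Y) = Y)
    {c : K} (hc : c ≠ 0) : (1 + c • X) * (1 + (-c⁻¹) • Y) * (1 + c • X) * ((1 + (-1 : K) • X) * (1 + (1 : K) • Y) * (1 + (-1 : K) • X)) =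
      1 + (c - 1) • (X * Y) + (c⁻¹ - 1) • (Y * X) := by
  have a1 (Z) : X * (X * Z) = 0 := by rw [← mul_assoc, h1, zero_mul]
  have a2 (Z) : Y * (Y * Z) = 0 := by rw [← mul_assoc, h2, zero_mul]
  simp only [mul_add, add_mul, mul_one, one_mul, smul_mul_assoc, mul_smul_comm, mul_assoc, h1, h2, h3, h4, a1, a2, smul_zero,
    mul_zero, zero_mul]
  match_scalars <;> field_simp <;> ring

namespace D4W
open G2 F4W

/-- weights of the eight-dimensional representation -/
def lam (a i : ℕ) : ℤ := g2 [[0, 0, -1, 1], [1, 0, 0, 0], [1, -1, 0, 0], [0, 1, -1, -1], [-1, 0, 0, 0], [-1, 1, 0, 0], [0, -1, 1, 1],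
  [0, 0, 1, -1]] a i

/-- pairing of a weight with a coroot -/
def lp (r : Root chevD4) (a : Fin 8) : ℤ := ∑ i : Fin 4, cor r i * lam a i

theorem oX_tr : ∀ r : Root chevD4, oL r (oL r.rev (oX r)) = oX r ∧ oL r (oX r.rev) = .diagonal (fun a => if lp r a = 1 then 1 else 0) ∧
    oL r.rev (oX r) = .diagonal (fun a => if lp r a = -1 then 1 else 0) ∧ ∀ a, lp r a ∈ [0, 1, -1] := by decide +kernel

theorem hh_o4 (r : Root chevD4) {c : K} (hc : c ≠ 0) : (hh (o4 r) (o4 r.rev) c).1 = .diagonal fun a => c ^ lp r a := by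
  obtain ⟨h1, h2, h3, h4⟩ := oX_tr r
  have h5 := (oX_tr r.rev).1
  simp only [oL_eq, Fin.rev_rev] at h1 h2 h3 h5
  refine (hh_mat (oX_sq r) (oX_sq r.rev) (by rw [← map_mul, ← map_mul, h1]) (by rw [← map_mul, ← map_mul, h5]) hc).trans ?_
  rw [← map_mul, ← map_mul, h2, h3]
  ext a b
  have := h4 a
  by_cases e : a = b
  · subst e; simp only [List.mem_cons, List.not_mem_nil, or_false] at this; obtain e | e | e := this <;> simp [e]
  · simp [e]

/-- diagonal entries of a torus element -/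
def dg (c : Node chevD4 → Kˣ) (a : ℕ) : Kˣ := ∏ i, c i ^ lam a i

variable (K) in
theorem exists_rho : ∃ ρ : chevD4.SteinbergGroup K →* GL (Fin 8) K, (∀ r t, ρ ((sgSys chevD4 K).x r t) = o4 r t) ∧
    ∀ c, (ρ (torS hMul_sg c)).1 = .diagonal fun a => (dg c a : K) := by
  let ρ : chevD4.SteinbergGroup K →* GL (Fin 8) K := PresentedGroup.toGroup (rel_o4.kills' fun r a b ha hb => Units.ext (by
    rw [Units.val_mul, hh_o4 r ha, hh_o4 r hb, hh_o4 r (mul_ne_zero ha hb), Matrix.diagonal_mul_diagonal]; simp [mul_zpow]))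
  have h (r t) : ρ ((sgSys chevD4 K).x r t) = o4 r t := PresentedGroup.toGroup.of _
  refine ⟨ρ, h, fun c => ?_⟩
  induction c using Pi.mulSingle_induction with
  | one => simp [dg]
  | mul a b h1 h2 => rw [map_mul, map_mul, Units.val_mul, h1, h2, Matrix.diagonal_mul_diagonal]; simp [dg, mul_zpow, Finset.prod_mul_distrib]
  | mulSingle i c =>
    rw [torS_single, show ρ _ = hh (o4 (sroot i)) (o4 (sroot i).rev) (c : K) by simp [StSys.h, StSys.n, hh, h], hh_o4 _ c.ne_zero]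
    congr 1; ext a
    rw [dg, Finset.prod_eq_single i (fun j _ e => by rw [Pi.mulSingle_eq_of_ne e, one_zpow]) (by simp), Pi.mulSingle_eq_same,
      Units.val_zpow_eq_zpow_val, (by decide +kernel : ∀ (i : Node chevD4) a, lp (sroot i) a = lam a i)]

/-- packed table of the pairings -/
def prT : ℕ := 0x8db69b6d248925124871b4da45b25a44a2416e26d32996532894096d46d168b2d168908969b8ca4c96ca4c82514db70925249b6c124a6d226369b25121b48969945c4d964a05a65168b45a8cb2c845a2d16526537096c12994994d929b26241b25364a4cb2996540996532ca45968b2d088b2d165a44b6896c25096d12da2d22d121b26368b48b2994ca05965c4ca65328b4c844b2da8ca2d32526c12896d370949b44921b6d24892636da28905a45b25a45c6d325025329965329b89b24225168b2d169b51b20944a4c96ca4da6e304928925249b6d36dc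
/-- pairing plus two -/
def pt (r s : ℕ) : ℕ := lk prT 3 7 (Nat.add (Nat.mul 24 r) s)

theorem pt_eq : allLt 24 (fun r => allLt 24 fun s => fastD4.pr r s + 2 == pt r s) = true := by decide +kernel

/-- relation vectors -/
def gen (P : ℕ → ℕ → ℤ) (a k : ℕ) : ℕ → ℤ := if k < 4 then kr P (lam a) k else fun i => P i (k - 4) + if i = k - 4 then -1 else 0

/-- test for one weight -/
noncomputable def chkA (P : ℕ → ℕ → ℤ) (a : ℕ) : Bool :=
  ([[0, 1, 2, 3], [0, 1, 4, 5], [0, 1, 2, 4], [0, 1, 2, 5], [0, 1, 2, 6], [0, 1, 2, 7], [0, 1, 4, 6], [0, 1, 4, 7], [0, 1, 5, 6], [0, 1, 5, 7],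
    [0, 1, 6, 7]].any fun l => 192 % d4 (fun k => gen P a (l.getD k 0)) == 0 || 448 % d4 (fun k => gen P a (l.getD k 0)) == 0) ||
  allLt 4 fun j => [-4, -3, -2, -1, 0, 1, 2, 3, 4].any fun x : ℤ => [-2, -1, 0, 1, 2].any fun y : ℤ =>
    allLt 4 fun i => P i j + (if i = j then 2 else 0) == x * lam a i + y * kr P (lam a) 1 i

/-- test at a leaf -/
noncomputable def leaf (P : ℕ → ℕ → ℤ) : Bool := allLt 4 (chkA P) && [(0, 1, 2), (0, 1, 3), (0, 2, 3), (1, 2, 3)].all fun t : ℕ × ℕ × ℕ =>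
  2 % d4 (fun k => [lam t.1, lam t.2.1, lam t.2.2, kr P (lam t.1) 1].getD k 0) == 0

/-- action on the centre -/
noncomputable def par (M : ℕ → ℕ → ℤ) : Bool :=
  allLt 4 fun j => (M 0 j + M 2 j) % 2 == [1, 0, 1, 0].getD j 0 && (M 0 j + M 3 j) % 2 == [1, 0, 0, 1].getD j 0

/-- the enumeration -/
noncomputable def chk (a : ℕ) : Bool := allLt 24 fun b => cond (Nat.beq (pt a b) 1)
  (allLt 24 fun c => cond (Nat.beq (pt b c) 1 && Nat.beq (pt a c) 2)
    (allLt 24 fun d => cond (Nat.beq (pt b d) 1 && Nat.beq (pt a d) 2 && Nat.beq (pt c d) 2)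
      (cond (par fun i => fastD4.cor ([a, b, c, d].getD i 0)) (leaf fun i j => 2 * fastD4.cor ([c, b, d, a].getD i 0) j) true) true) true) true

theorem chk_all : allLt 24 chk = true := by decide +kernel

theorem exists_leaf (w : Weyl chevD4) :
    ∃ P, (Matrix.of fun i j => if symD4a i = j then ((2 : ℕ) : ℤ) else 0) * corM w.1 = mat P ∧ leaf P = true := by
  have hp (r s : Root chevD4) : pt r s = (pair r s + 2).toNat := by
    have := beq_iff_eq.1 (allLt_spec (allLt_spec pt_eq r.2) s.2)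
    rw [agreeD4.pair_eq]; exact (congrArg Int.toNat this).symm
  have h (i k : Fin 4) : pt (w.1 (sroot i)) (w.1 (sroot k)) = ![![4, 1, 2, 2], ![1, 4, 1, 1], ![2, 1, 4, 2], ![2, 1, 2, 4]] i k := by
    rw [hp, (Weyl_le w.2 : w.1 ∈ RootAut _) _ _, ← hp]; revert i k; decide +kernel
  have hc (ψ : Node chevD4 → ℤ) (e : ∀ r, fv ψ r % 2 = 0 % 2) (j) : Matrix.vecMul ψ (corM w.1) j % 2 = ψ j % 2 := by
    have := mact_corM_of_ker w (c := sgn ℚ ψ) (mem_ker_cartan.2 fun r => by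
      rw [chiOf_sgn, (neg_one_zpow_eq two_ne_zero).2 (e r), zpow_zero])
    rw [mact_sgn] at this
    exact (neg_one_zpow_eq two_ne_zero).1 (congrFun this j)
  have k {b x : Bool} (h : (bif b then x else true) = true) (e : b = true) : x = true := by rwa [e] at h
  refine ⟨_, Matrix.ext fun (i j : Node chevD4) => ?_, k (k (allLt_spec (k (allLt_spec (k (allLt_spec (allLt_spec chk_all
    (w.1 (sroot (0 : Fin 4))).2) (w.1 (sroot (1 : Fin 4))).2) (by rw [h]; rfl)) (w.1 (sroot (2 : Fin 4))).2) (by rw [h, h]; rfl))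
    (w.1 (sroot (3 : Fin 4))).2) (by rw [h, h, h]; rfl)) (allLt_iff.2 fun j hj => ?_)⟩
  · rw [Matrix.mul_apply, Finset.sum_eq_single (symD4a i) (fun b _ e => by simp [e.symm]) (by simp), Matrix.of_apply, if_pos rfl]
    refine (congrArg (2 * ·) (agreeD4.cor_eq (w.1 (sroot (symD4a i))) j)).trans ?_
    fin_cases i <;> rfl
  · have h1 := hc ([1, 0, 1, 0].getD · 0) (by decide +kernel) ⟨j, hj⟩
    have h2 := hc ([1, 0, 0, 1].getD · 0) (by decide +kernel) ⟨j, hj⟩
    simp only [Matrix.vecMul, dotProduct, corM, Matrix.of_apply, agreeD4.cor_eq] at h1 h2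
    rw [show ∀ f : Node chevD4 → ℤ, ∑ i, f i = f (0 : Fin 4) + f (1 : Fin 4) + f (2 : Fin 4) + f (3 : Fin 4) from Fin.sum_univ_four] at h1 h2
    interval_cases j <;> simp at h1 h2 ⊢ <;> omega

section
variable {M : Type*} [CommGroup M] {P : ℕ → ℕ → ℤ} {c : Fin 4 → M}

theorem kd_det {Y : ℕ → ℕ → ℤ} (h : ∀ k < 4, ∏ j, c j ^ Y k j = 1) : (orderOf c : ℤ) ∣ d4 Y := by
  rw [← det_mat, ← Matrix.det_transpose, orderOf_dvd_iff_zpow_eq_one, ← mact_adj,
    show mact (mat Y).transpose c = 1 from funext fun k => h k k.2, map_one]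

variable (h : mact (mat P) c = c)
include h

theorem kd_kr {y : ℕ → ℤ} (h0 : ∏ j, c j ^ y j = 1) (k : ℕ) : ∏ j, c j ^ kr P y k j = 1 := by
  induction k with
  | zero => exact h0
  | succ k ih =>
    rw [← ih]
    conv_rhs => rw [← h]
    rw [chi_mact]
    simp [Matrix.mulVec, dotProduct, Fin.sum_univ_four, mat, kr, mv]

theorem of_chkA {a : ℕ} (h1 : chkA P a = true) (h0 : ∏ j, c j ^ lam a j = 1) : orderOf c ∣ 192 ∨ orderOf c ∣ 448 := by
  have h2 (j : Fin 4) (e : ℤ) : ∏ i : Fin 4, c i ^ (P i j + if (i : ℕ) = j then e else 0) = c j ^ (1 + e) := by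
    simp only [zpow_add, Finset.prod_mul_distrib, zpow_one, Fin.val_inj]
    rw [Finset.prod_eq_single j (f := fun x => c x ^ if x = j then e else 0) (fun b _ hb => by simp [hb]) (by simp), if_pos rfl]
    exact congrArg (· * c j ^ e) (congrFun h j)
  obtain h1 | h1 := Bool.or_eq_true_iff.1 h1
  · obtain ⟨l, hl, e⟩ := List.any_eq_true.1 h1
    have : (orderOf c : ℤ) ∣ d4 fun k => gen P a (l.getD k 0) := kd_det fun k hk => by
      unfold gen
      split_ifs
      · exact kd_kr h h0 _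
      · exact (h2 ⟨l.getD k 0 - 4, by clear e; revert k; revert l; decide⟩ (-1)).trans (by simp)
    exact (Bool.or_eq_true_iff.1 e).imp (fun e => Int.natCast_dvd_natCast.1 (this.trans (Int.dvd_of_emod_eq_zero (beq_iff_eq.1 e))))
      fun e => Int.natCast_dvd_natCast.1 (this.trans (Int.dvd_of_emod_eq_zero (beq_iff_eq.1 e)))
  · refine .inl ((orderOf_dvd_of_pow_eq_one (n := 3) (funext fun j => ?_)).trans (by decide))
    obtain ⟨x, -, e⟩ := List.any_eq_true.1 (allLt_spec h1 j.2)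
    obtain ⟨y, -, e⟩ := List.any_eq_true.1 e
    refine (zpow_natCast _ 3).symm.trans ((h2 j 2).symm.trans ?_)
    rw [Finset.prod_congr rfl fun i _ => congrArg _ (beq_iff_eq.1 (allLt_spec e i.2))]
    simp only [zpow_add, mul_comm x, mul_comm y, zpow_mul, Finset.prod_mul_distrib, Finset.prod_zpow, h0, kd_kr h h0 1, one_zpow, mul_one]
    rfl

end

theorem cases {w : Weyl chevD4} {c : Node chevD4 → Kˣ}
    (h : mact ((Matrix.of fun i j => if symD4a i = j then ((2 : ℕ) : ℤ) else 0) * corM w.1) c = c) :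
    (∀ a < 4, dg c a = 1 → orderOf c ∣ 192 ∨ orderOf c ∣ 448) ∧ ∀ t ∈ [(0, 1, 2), (0, 1, 3), (0, 2, 3), (1, 2, 3)],
      dg c t.1 = 1 → dg c t.2.1 = 1 → dg c t.2.2 = 1 → orderOf c ∣ 2 := by
  obtain ⟨P, h1, h2⟩ := exists_leaf w
  rw [h1] at h
  replace h2 := Bool.and_eq_true_iff.1 h2
  refine ⟨fun a ha => of_chkA h (allLt_spec h2.1 ha), fun t ht a1 a2 a3 => Int.natCast_dvd_natCast.1 (.trans (kd_det fun k hk => ?_)
    (Int.dvd_of_emod_eq_zero (beq_iff_eq.1 (List.all_eq_true.1 h2.2 t ht))))⟩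
  interval_cases k
  exacts [a1, a2, a3, kd_kr h a1 1]

/-- the pair `±λ` containing a weight -/
def pa (a : Fin 8) : Fin 4 := ![0, 1, 2, 3, 1, 2, 3, 0] a

theorem dg_pa (c : Node chevD4 → Kˣ) (a : Fin 8) : dg c (pa a) = 1 ↔ dg c a = 1 := by
  obtain e | e := (by decide +kernel : ∀ a : Fin 8, (pa a : ℕ) = a ∨ ∀ i : Node chevD4, lam (pa a) i = -lam a i) a
  · rw [e]
  · simp [dg, e]

/-- a grading of the weights in a subset -/
def gr (p : Fin 4 → Bool) (a : Fin 8) : ℕ :=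
  (if ∃ r : Root chevD4, 12 ≤ r.1 ∧ ∃ b, p (pa b) ∧ oX r a b ≠ 0 then 1 else 0) +
    if ∃ r : Root chevD4, 12 ≤ r.1 ∧ ∃ b, p (pa b) ∧ oX r b a ≠ 0 then 0 else 1

theorem gr_lt : ∀ x y z u : Bool, (x && y && z || x && y && u || x && z && u || y && z && u) = false → ∀ r : Root chevD4, 12 ≤ r.1 →
    ∀ e ∈ [(oT r).1, (oT r).2], ![x, y, z, u] (pa e.1) → ![x, y, z, u] (pa e.2.1) → gr ![x, y, z, u] e.2.1 < gr ![x, y, z, u] e.1 := by
  decide +kernel

theorem oX_wt : ∀ r : Root chevD4, (IsPos r → 12 ≤ r.1) ∧ ∀ e ∈ [(oT r).1, (oT r).2], (∀ i : Node chevD4, lam e.1 i = lam e.2.1 i + wt r i) ∧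
    (IsPos r → (![3, 6, 1, 2, 0, 5, 4, 3] : Fin 8 → ℕ) e.2.1 < (![3, 6, 1, 2, 0, 5, 4, 3] : Fin 8 → ℕ) e.1) := by decide +kernel

theorem tri_US {ρ : chevD4.SteinbergGroup K →* GL (Fin 8) K} (h : ∀ r t, ρ ((sgSys chevD4 K).x r t) = o4 r t) {c : Node chevD4 → Kˣ}
    {f : Fin 8 → ℕ} (hf : ∀ r : Root chevD4, IsPos r → ∀ e ∈ [(oT r).1, (oT r).2], dg c e.1 = 1 → dg c e.2.1 = 1 → f e.2.1 < f e.1)
    {u} (hu : u ∈ (sgSys chevD4 K).US {r | IsPos r ∧ chiOf c r = 1}) :
    ∀ a b, ((ρ u).1 - 1) a b ≠ 0 → (dg c a : K) = dg c b ∧ ((dg c a : K) = 1 → f b < f a) := by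
  refine US_induction (C := fun u => ∀ a b, ((ρ u).1 - 1) a b ≠ 0 → (dg c a : K) = dg c b ∧ ((dg c a : K) = 1 → f b < f a))
    (fun a b e => by simp at e) (fun r hr t a b e => ?_) (fun g _ g' _ h1 h2 a b e => ?_) hu
  · obtain ⟨x, hx, rfl, rfl⟩ : ∃ x ∈ [(oT r).1, (oT r).2], x.1 = a ∧ x.2.1 = b := by_contra fun h0 => e (by
      have : oX r a b = 0 := by
        rw [oX, Matrix.of_apply, if_neg, if_neg, add_zero] <;> rintro ⟨rfl, rfl⟩ <;> exact h0 ⟨_, by simp, rfl, rfl⟩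
      simp [h, o4, this])
    have h1 : dg c x.1 = dg c x.2.1 := by
      rw [← mul_one (dg c x.2.1), ← hr.2]; simp only [dg, chiOf, ((oX_wt r).2 x hx).1, zpow_add, Finset.prod_mul_distrib]
    exact ⟨by rw [h1], fun e => hf r hr.1 x hx (Units.ext e) (h1 ▸ Units.ext e)⟩
  · rw [map_mul, Units.val_mul, show ∀ M N : Matrix (Fin 8) (Fin 8) K, M * N - 1 = (M - 1) * (N - 1) + (M - 1) + (N - 1) from
      fun _ _ => by noncomm_ring] at e
    by_contra h0
    refine e ?_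
    rw [Matrix.add_apply, Matrix.add_apply, not_not.1 (mt (h1 a b) h0), not_not.1 (mt (h2 a b) h0), add_zero, add_zero, Matrix.mul_apply]
    exact Finset.sum_eq_zero fun k _ => by_contra fun e =>
      have a1 := h1 _ _ (left_ne_zero_of_mul e)
      have a2 := h2 _ _ (right_ne_zero_of_mul e)
      h0 ⟨a1.1.trans a2.1, fun e => (a2.2 (a1.1 ▸ e)).trans (a1.2 e)⟩

/-- orders in the triality group over the field with two elements -/
theorem ord_or [IsAlgClosed K] [Uncountable K] [CharP K 2] {σ} (T : Tws (galSg chevD4 K) σ (.of fun i j => if symD4a i = j then (2 : ℕ) else 0))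
    {ρ : chevD4.SteinbergGroup K →* GL (Fin 8) K} (h : ∀ r t, ρ ((sgSys chevD4 K).x r t) = o4 r t)
    (h' : ∀ c, (ρ (torS hMul_sg c)).1 = .diagonal fun a => (dg c a : K)) {g} (hg : g ∈ fixS σ) (hf : IsOfFinOrder g) :
    orderOf g ∈ [1, 2, 4, 3, 6, 7, 14] ∨ ∑ i ∈ Finset.range (orderOf g), (ρ g).1 ^ i = 0 := by
  classical
  obtain ⟨x, c, u, hu, e, -, h1, ⟨k, hk⟩, h2, w, hw⟩ := T.jordan 2 hg hf
  have hp (n : ℕ) : (x⁻¹ * g * x) ^ n = x⁻¹ * g ^ n * x := by simpa using conj_pow (i := n) (a := x⁻¹) (b := g)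
  have key (f : Fin 8 → ℕ) (h3 : ∀ r : Root chevD4, IsPos r → ∀ e ∈ [(oT r).1, (oT r).2], dg c e.1 = 1 → dg c e.2.1 = 1 → f e.2.1 < f e.1)
      (h4 : ∀ a : Fin 8, dg c a = 1 → f a < 2 ^ k - 1) : ∑ i ∈ Finset.range (orderOf g), (ρ g).1 ^ i = 0 := by
    have h5 : (ρ (x⁻¹ * g * x)).1 = (ρ u).1 * .diagonal fun a => (dg c a : K) := by rw [e, map_mul, Units.val_mul, ← h']
    have := geo_zero (m := orderOf c) (tri_US h h3 hu) (fun a e => h4 a (Units.ext e))
      (by rw [← Units.val_pow_eq_pow_val, ← map_pow, ← hk, pow_orderOf_eq_one, map_one, Units.val_one])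
      (by rw [← h5, ← hk, ← h1, ← Units.val_pow_eq_pow_val, ← map_pow, hp]; simp)
    rw [← h5, ← hk, ← h1] at this
    have h6 (i : ℕ) : (ρ g).1 ^ i = (ρ x).1 * (ρ (x⁻¹ * g * x)).1 ^ i * (ρ x⁻¹).1 := by
      simp only [← Units.val_pow_eq_pow_val, ← Units.val_mul, ← map_pow, ← map_mul, hp]; group
    rw [Finset.sum_congr rfl fun i _ => h6 i, ← Finset.sum_mul, ← Finset.mul_sum, this, mul_zero, zero_mul]
  obtain ⟨h3, h4⟩ := cases hw
  by_cases h5 : orderOf c = 1
  · obtain h6 | h6 := lt_or_ge k 3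
    · left; rw [h1, hk, h5]; interval_cases k <;> decide
    · refine .inr (key _ (fun r hr e he _ _ => ((oX_wt r).2 e he).2 hr) fun a _ => ?_)
      have := Nat.pow_le_pow_right two_pos h6
      have := (by decide : ∀ a, (![3, 6, 1, 2, 0, 5, 4, 3] : Fin 8 → ℕ) a < 7) a
      omega
  by_cases h6 : ∃ a : Fin 8, dg c a = 1
  swap
  · exact .inr (key 0 (fun _ _ _ _ e => (h6 ⟨_, e⟩).elim) fun _ e => (h6 ⟨_, e⟩).elim)
  obtain h7 | h7 := lt_or_ge k 2
  · obtain ⟨a, ha⟩ := h6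
    left; rw [h1, hk]
    obtain e | e := h3 _ (pa a).2 ((dg_pa c a).2 ha)
    · rw [((Nat.dvd_prime Nat.prime_three).1 ((h2.symm.pow_right 6).dvd_of_dvd_mul_left e)).resolve_left h5]
      interval_cases k <;> decide
    · rw [((Nat.dvd_prime (by norm_num : Nat.Prime 7)).1 ((h2.symm.pow_right 6).dvd_of_dvd_mul_left e)).resolve_left h5]
      interval_cases k <;> decide
  have h8 (a : Fin 4) : ![decide (dg c 0 = 1), decide (dg c 1 = 1), decide (dg c 2 = 1), decide (dg c 3 = 1)] a = true ↔ dg c a = 1 := by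
    fin_cases a <;> simp
  refine .inr (key _ (fun r hr e he a b => gr_lt _ _ _ _ ?_ r ((oX_wt r).1 hr) e he ((h8 _).2 ((dg_pa _ _).2 a))
    ((h8 _).2 ((dg_pa _ _).2 b))) fun a _ => ?_)
  · have h9 (t ht a b d) := h5 (h2.symm.eq_one_of_dvd (h4 t ht a b d))
    simp only [List.forall_mem_cons] at h9
    by_contra h0
    simp only [Bool.not_eq_false, Bool.or_eq_true, Bool.and_eq_true, decide_eq_true_eq] at h0
    tauto
  · have := Nat.pow_le_pow_right two_pos h7
    unfold gr; split_ifs <;> omega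

theorem exists_tw.{u} {K : Type u} [Field K] [Fintype K] {q : ℕ} (hq : IsPrimePow q) (hK : Fintype.card K = q ^ 3) (p : ℕ) [CharP K p] :
    ∃ (Ω : Type u) (_ : Field Ω) (_ : IsAlgClosed Ω) (_ : Uncountable Ω) (_ : CharP Ω p) (θ : Ω ≃+* Ω) (σ : _)
      (j : twistedD4 K q →* chevD4.SteinbergGroup Ω), Tws (galSg chevD4 Ω) σ (.of fun i j => if symD4a i = j then q else 0) ∧
        Function.Injective j ∧ j.range = fixS σ ∧ IsTw (sgSys chevD4 Ω) σ grD4a θ ∧ ∀ t, θ t = t ^ q := by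
  obtain ⟨Ω, _, _, _, ⟨φ⟩⟩ := exists_unc K
  obtain ⟨τ, h1, h2⟩ := exists_frobΩ φ
  have h0 : (q : Ω) = 0 := by
    rw [← pow_eq_zero_iff three_ne_zero, ← Nat.cast_pow, ← hK, ← map_natCast φ, FiniteField.cast_card_eq_zero, map_zero]
  obtain ⟨θ, hθ⟩ := exists_frobq hq h0
  obtain ⟨θ', F⟩ := exists_frF hq three_ne_zero hK
  obtain ⟨σ, hσ⟩ := exists_isTw_D4 θ
  obtain ⟨σ', hσ'⟩ := exists_isTw_D4 θ'
  obtain ⟨σ₀, hσ₀⟩ := exists_isTw_sg (rel_grD4a (sgSys _ Ω).rel) (by decide +kernel) (π := symD4a) (by decide +kernel) θ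
  have h3 := TD4.simpAct hσ
  have h3' := TD4.simpAct hσ₀
  have hm {G : Type u} [Group G] {S : StSys chevD4 Ω G} (A : S.Gal) {σ} (h3 : S.SimpAct σ symD4a 1 fun _ => θ) : σ ^ 3 = A.aut τ :=
    MulEquiv.toMonoidHom_injective (hom_ext_simple A.gen
    (fun i t => by simp [pow_succ, h3.pos, hθ, h1, hK, pow_mul, A.mor τ _, show symD4a (symD4a (symD4a i)) = i by revert i; decide])
    fun i t => by simp [pow_succ, h3.neg, hθ, h1, hK, pow_mul, A.mor τ _, show symD4a (symD4a (symD4a i)) = i by revert i; decide])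
  have h4 (c) (a : twc symD4a (fun _ => θ) c = c) (b : torS hMul_grp c = 1) : c = 1 :=
    (TD4.Z_eq (θ := θ)).le ⟨torS_ker_le _ b, mem_Tf.2 a⟩
  have h6 := (galGrp chevD4 Ω).map_fix hMul_grp (fieldHom_x φ) (fieldHom_injective _)
    (TD4.tw F hσ' (grpSys_grp _ _)) h3 (fun _ t => by rw [hθ, F.eq, map_pow]) h2 (fun _ t => by rw [hθ, hθ, map_pow]) (hm _ h3) h4
  obtain ⟨j, a1, a2, a3⟩ := lift_fix hMul_sg (sgSys_grp _ _) torS_sgD4 h3' h3 h4
    (j := (fieldHom chevD4 φ).comp (Subgroup.inclusion (genSubgroup_le (d4Words K q))))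
    ((fieldHom_injective _).comp (Subgroup.inclusion_injective _)) (by
      rw [MonoidHom.range_comp, inclusion_range_gen, TD4.eq_fix F hσ' (grpSys_θ_injective _ _) (grpSys_grp _ _), h6])
  exact ⟨Ω, _, inferInstance, inferInstance, (φ.charP_iff_charP p).1 inferInstance, θ, σ₀, j,
    h3'.tws (A := galSg chevD4 Ω) torS_sgD4 (fun _ => hθ) Fintype.one_lt_card h1 (hm _ h3'), a1, a2, hσ₀, hθ⟩

end D4W

theorem StSys.Tws.exists_ord_p' {D : ChevalleyDatum} [Good D] [Cert D] {R : Type*} [Group R] {S : StSys D K G} {A : S.Gal}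
    [IsAlgClosed K] [Uncountable K] {j : R →* G} (hj : Function.Injective j) {σ : MulAut G} {q : ℕ} (hq : 1 < q)
    {B : Matrix (Node D) (Node D) ℤ} (T : Tws A σ B) (hr : j.range = fixS σ) (p : ℕ) [Fact p.Prime] [CharP K p] {w : Weyl D} {α : Root D}
    (hσ : ∀ t, σ (S.x α t) = S.x α (t ^ q)) (hw : w.1 α = α) {c : Node D → Kˣ} (hc : mact (B * corM w.1) c = c) (h1 : chiOf c α = 1)
    (hp : p.Coprime (orderOf c)) : ∃ g : R, orderOf g = p * orderOf c := by
  obtain ⟨m, rfl⟩ := π_surjective (S := S) w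
  obtain ⟨z, h⟩ := T.fr.exists_conj m.1
  obtain ⟨χ, -, hχ⟩ := acts_π m
  obtain ⟨t, ht⟩ := IsAlgClosed.exists_pow_nat_eq ((χ α)⁻¹ : K) (n := q - 1) (by omega)
  have h0 : t ≠ 0 := fun e => by rw [e, zero_pow (by omega)] at ht; exact inv_ne_zero (χ α).ne_zero ht.symm
  have h2 : S.x α t ∈ fixS (MulAut.conj m.1 * σ) := by
    show m.1 * σ _ * m.1⁻¹ = _
    rw [hσ, hχ, hw, ← Nat.sub_add_cancel hq.le, pow_succ, ht, mul_inv_cancel_left₀ (χ α).ne_zero]; rfl
  obtain ⟨g, hg⟩ := hr.ge ((h _).1 (mul_mem h2 ((T.conj m).mem_fix.2 hc)))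
  have h3 : orderOf (S.x α t) = p := orderOf_eq_prime (by
    have (n : ℕ) : S.x α t ^ n = S.x α (n * t) := by
      induction n with
      | zero => simp
      | succ n ih => rw [pow_succ, ih, S.add]; congr 1; push_cast; ring
    simp [this]) fun e => h0 (x_eq_one (S := S) (r := α) (by rw [e, map_one]))
  refine ⟨g, ?_⟩
  rw [← orderOf_injective j hj, hg, ← MulAut.conj_apply, (MulAut.conj z).orderOf_eq, Commute.orderOf_mul_eq_mul_orderOf_of_coprime,
    h3, orderOf_injective _ T.inj]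
  · have := torS_conj A.hm c α t
    rw [h1, Units.val_one, one_mul, mul_inv_eq_iff_eq_mul] at this
    exact this.symm
  · rwa [h3, orderOf_injective _ T.inj]

theorem mact_zpow {M ι : Type*} [CommGroup M] [Fintype ι] (ζ : M) {A : Matrix ι ι ℤ} {e : ι → ℤ}
    (h : ∀ j, (orderOf ζ : ℤ) ∣ e j - ∑ i, e i * A i j) : mact A (fun i => ζ ^ e i) = fun i => ζ ^ e i := funext fun j => by
  simp only [mact_apply, ← zpow_mul, ← zpow_sum']
  exact zpow_eq_zpow_iff_modEq.2 (Int.modEq_iff_dvd.2 (h j))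

theorem orderOf_zpow_vec {M ι : Type*} [CommGroup M] (ζ : M) {e : ι → ℤ} {i : ι} (h : e i = 1) :
    orderOf (fun i => ζ ^ e i) = orderOf ζ :=
  Nat.dvd_antisymm (orderOf_dvd_of_pow_eq_one (funext fun j => by
    rw [Pi.pow_apply, ← zpow_natCast, ← zpow_mul, mul_comm, zpow_mul, zpow_natCast, pow_orderOf_eq_one, one_zpow]; rfl))
    (by simpa [h] using orderOf_map_dvd (Pi.evalMonoidHom (fun _ => M) i) fun i => ζ ^ e i)

theorem exists_unit_ord [IsAlgClosed K] (p : ℕ) [CharP K p] {n : ℕ} (h : ¬ p ∣ n) : ∃ ζ : Kˣ, orderOf ζ = n := by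
  have : NeZero (n : K) := ⟨fun e => h ((CharP.cast_eq_zero_iff K p n).1 e)⟩
  obtain ⟨ζ, hζ⟩ := HasEnoughRootsOfUnity.exists_primitiveRoot K n
  exact ⟨_, (hζ.isUnit_unit fun e => h (by simp [e])).eq_orderOf.symm⟩

end H11
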