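import Mathlib
import Cfsg.Agent.H11.Lang2
import Cfsg.Agent.H05.Lev3

/-! Gauss decomposition with prescribed torus part (Ellers–Gordeev) for Steinberg systems (namespace `H11.EG`):
`VJ`, `Big`, `Tk`, `eg`. -/

namespace H11.EG
open Cfsg Cfsg.Lie StSys Equiv Subgroup

variable {D : ChevalleyDatum} [Good D] {K G : Type*} [Field K] [Group G] {S : StSys D K G}

variable (S) in
/-- the opposite unipotent radical -/
def VJ (J : Set (Node D)) : Subgroup G := S.US {r | 0 < fv (-psiJ J) r}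

theorem fv_neg_psi {J : Set (Node D)} {r : Root D} : 0 < fv (-psiJ J) r ↔ ¬ IsPos r ∧ ¬ InJ J r := by
  rw [fv_neg, ← fv_rev, fv_psiJ_pos_iff, isPos_rev_iff, inJ_rev]

theorem VJ_le_V (J : Set (Node D)) : VJ S J ≤ S.V := US_mono fun _ h => (fv_neg_psi.1 h).1

theorem dec_U (J : Set (Node D)) {u : G} (hu : u ∈ S.U) : ∃ u' ∈ S.UJ J, ∃ a ∈ S.US {r | IsPos r ∧ InJ J r}, u = u' * a :=
  exists_mul_of_union closed_isPos pos_U (by ext r; simp only [Set.mem_ofPred_eq, Set.mem_union]; tauto) hu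

theorem dec_V (J : Set (Node D)) {v : G} (hv : v ∈ S.V) :
    ∃ a ∈ S.US {r | ¬ IsPos r ∧ InJ J r}, ∃ v' ∈ VJ S J, v = a * v' :=
  exists_mul_of_union closed_not_isPos pos_V
    (by ext r; simp only [Set.mem_ofPred_eq, Set.mem_union, fv_neg_psi]; tauto) hv

theorem dec_V1 (i : Node D) {v : G} (hv : v ∈ S.V) : ∃ t, ∃ v' ∈ VJ S {i}, v = S.x (sroot i).rev t * v' := by
  obtain ⟨a, ha, v', hv', rfl⟩ := dec_V {i} hv
  obtain ⟨t, rfl⟩ := mem_US_singleton.1 (US_mono (T' := {(sroot i).rev}) (fun r h =>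
    (inJ_singleton.1 h.2).resolve_left fun e => h.1 (e ▸ isPos_sroot i)) ha)
  exact ⟨t, v', hv', rfl⟩

theorem comm_xy {i j : Node D} (h : i ≠ j) (t u : K) : Commute (S.x (sroot i).rev t) (S.x (sroot j) u) := by
  have h0 := S.comm (sroot j) (sroot i).rev (fun e => not_isPos_rev (isPos_sroot i) (e ▸ isPos_sroot j))
    (fun e => h (sroot_injective (Fin.rev_injective e))) u t
  have h1 : wordG S.x (D.commWord K (sroot j) (sroot i).rev u t) ∈ S.US ∅ := commWord_mem (fun r a b ha hb e => by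
    have e1 := fv_lin (psiJ {i}) e
    have e2 := fv_lin (psiJ {j}) e
    rw [fv_rev, fv_psiJ_eq_zero_iff.2 (inJ_sroot.2 (Set.mem_singleton _))] at e1 e2
    have p1 := fv_psi_single.2 ⟨isPos_sroot j, fun e => h (sroot_injective e).symm⟩
    have p2 := fv_psi_single.2 ⟨isPos_sroot i, fun e => h (sroot_injective e)⟩
    have q1 : IsPos r := (fv_psi_single (i := i)).1 (by rw [e1]; nlinarith) |>.1
    have := fv_psiJ_nonneg {j} q1
    exact absurd this (by nlinarith)) u t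
  rw [US_empty, mem_bot] at h1
  rw [h1, mul_one] at h0
  exact h0

variable [Cert D]

theorem LJ_norm_V (J : Set (Node D)) : S.LJ J ≤ normalizer (VJ S J : Set G) :=
  sup_le (H_le_normalizer _) (US_le_normalizer fun r hr => by
    have := fv_psiJ_eq_zero_iff.2 hr
    exact ⟨by simp [fv_neg, this], cl_pos (by simp [fv_neg, this])⟩)

theorem cjU {J : Set (Node D)} {z u : G} (hz : z ∈ S.PJ J) (hu : u ∈ S.UJ J) : z * u * z⁻¹ ∈ S.UJ J :=
  (mem_normalizer_iff.1 (PJ_le_normalizer J hz) u).1 hu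

theorem cjV {J : Set (Node D)} {z v : G} (hz : z ∈ S.LJ J) (hv : v ∈ VJ S J) : z * v * z⁻¹ ∈ VJ S J :=
  (mem_normalizer_iff.1 (LJ_norm_V J hz) v).1 hv

omit [Good D] [Cert D] in
theorem x_mem_LJ {J : Set (Node D)} {r : Root D} (h : InJ J r) (t : K) : S.x r t ∈ S.LJ J := mem_sup_right (x_mem_US h t)

omit [Cert D] in
theorem xi_mem (i : Node D) (t : K) : S.x (sroot i) t ∈ S.LJ {i} := x_mem_LJ (inJ_sroot.2 (Set.mem_singleton i)) t
omit [Cert D] in
theorem yi_mem (i : Node D) (t : K) : S.x (sroot i).rev t ∈ S.LJ {i} := x_mem_LJ (inJ_rev.2 (inJ_sroot.2 (Set.mem_singleton i))) t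

variable (S) in
def Cj (g : G) (J : Set (Node D)) (l : G) : Prop := ∃ u ∈ S.UJ J, ∃ v ∈ VJ S J, IsConj g (u * l * v)

theorem Cj.conj {g l z : G} {J : Set (Node D)} (h : Cj S g J l) (hz : z ∈ S.LJ J) : Cj S g J (z * l * z⁻¹) := by
  obtain ⟨u, hu, v, hv, h⟩ := h
  exact ⟨_, cjU (LJ_le_PJ J hz) hu, _, cjV hz hv, h.trans (isConj_iff.2 ⟨z, by group⟩)⟩

variable (hS : S.HMul)
include hS

theorem yx_eq (r : Root D) (s a : K) (μ : Kˣ) (h : (μ : K) = 1 + s * a) :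
    S.x r.rev s * S.x r a = S.x r (a / μ) * S.h r (μ⁻¹ : Kˣ) * S.x r.rev (s / μ) := by
  obtain ⟨φ, h1, h2⟩ := (S.sl2Rel r).exists_hom fun t u ht hu => hS r t u ht hu
  have h3 : S.h r (μ⁻¹ : Kˣ) = φ (H12.hEl H12.upSL H12.loSL (μ⁻¹ : Kˣ)) := by
    simp only [H12.hEl, H12.wEl, map_mul, h1, h2]; rfl
  rw [h3, ← h1, ← h1, ← h2, ← h2, ← map_mul, ← map_mul, ← map_mul]
  congr 1
  refine Subtype.ext ?_
  simp only [Matrix.SpecialLinearGroup.coe_mul, H12.coe_upSL, H12.coe_loSL, H12.coe_hEl _ (μ⁻¹).ne_zero]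
  have := μ.ne_zero
  ext i j
  fin_cases i <;> fin_cases j <;> simp [Matrix.mul_apply, Fin.sum_univ_two] <;> field_simp <;> simp [h] <;> ring

theorem tx (c : Node D → Kˣ) (r : Root D) (t : K) : torS hS c * S.x r t = S.x r (chiOf c r * t) * torS hS c := by
  rw [← torS_conj hS]; group

theorem yt (c : Node D → Kˣ) (r : Root D) (t : K) : S.x r.rev t * torS hS c = torS hS c * S.x r.rev (chiOf c r * t) := by
  rw [tx, chiOf_rev]; simp

theorem th (c : Node D → Kˣ) (i : Node D) (μ : Kˣ) : torS hS c * S.h (sroot i) μ = torS hS (c * Pi.mulSingle i μ) := by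
  rw [map_mul, torS_single]

theorem ht (c : Node D → Kˣ) (i : Node D) (μ : Kˣ) : S.h (sroot i) μ * torS hS c = torS hS (c * Pi.mulSingle i μ) := by
  rw [mul_comm c, map_mul, torS_single]

theorem cj_y (c : Node D → Kˣ) (i : Node D) (a b s : K) (μ : Kˣ) (h : (μ : K) = 1 + s * a) :
    S.x (sroot i).rev s * (S.x (sroot i) a * torS hS c * S.x (sroot i).rev b) * (S.x (sroot i).rev s)⁻¹ =
      S.x (sroot i) (a / μ) * torS hS (c * Pi.mulSingle i μ⁻¹) * S.x (sroot i).rev (chiOf c (sroot i) * (s / μ) + (b + -s)) := by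
  rw [← ht, ← S.add, ← S.add, x_inv, ← mul_assoc, ← mul_assoc, yx_eq hS _ s a μ h, mul_assoc _ _ (torS hS c), yt]
  simp only [mul_assoc]

theorem cj_x (c : Node D → Kˣ) (i : Node D) (a b s : K) (μ : Kˣ) (h : (μ : K) = 1 + b * -s) :
    S.x (sroot i) s * (S.x (sroot i) a * torS hS c * S.x (sroot i).rev b) * (S.x (sroot i) s)⁻¹ =
      S.x (sroot i) (s + a + chiOf c (sroot i) * (-s / μ)) * torS hS (c * Pi.mulSingle i μ⁻¹) * S.x (sroot i).rev (b / μ) := by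
  rw [← th, ← S.add, ← S.add, x_inv, mul_assoc, mul_assoc, yx_eq hS _ b (-s) μ h, ← mul_assoc _ (torS hS c),
    mul_assoc _ (S.x _ (_ * _)), ← tx]
  simp only [mul_assoc]

theorem cj_n (c : Node D → Kˣ) (r : Root D) :
    S.n r 1 * torS hS c * (S.n r 1)⁻¹ = torS hS c * S.h r ((chiOf c r)⁻¹ : Kˣ) := by
  have : S.n r 1 * torS hS c = torS hS c * S.n r ((chiOf c r)⁻¹ : Kˣ) := by
    simp only [StSys.n]
    rw [← mul_assoc, ← mul_assoc, tx, mul_assoc _ (torS hS c), tx, ← mul_assoc, mul_assoc _ (torS hS c), tx, chiOf_rev]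
    simp [mul_assoc]
  rw [this, n_inv, StSys.h, mul_assoc]

def Big (g : G) (c : Node D → Kˣ) : Prop := ∃ u ∈ S.U, ∃ v ∈ S.V, IsConj g (u * torS hS c * v)

def Tk (g : G) (c : Node D → Kˣ) (i : Node D) : Prop :=
  ∃ a b, Cj S g {i} (S.x (sroot i) a * torS hS c * S.x (sroot i).rev b) ∧ ¬ (a = 0 ∧ b = 0 ∧ chiOf c (sroot i) = 1)

def Ta (g : G) (c : Node D → Kˣ) (i : Node D) : Prop :=
  ∃ a ≠ 0, ∃ b, Cj S g {i} (S.x (sroot i) a * torS hS c * S.x (sroot i).rev b)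

variable {hS} {g : G} {c : Node D → Kˣ} {i j : Node D}

theorem Ta.mul (h : Ta hS g c i) (μ : Kˣ) : Ta hS g (c * Pi.mulSingle i μ) i := by
  obtain ⟨a, ha, b, h⟩ := h
  have := h.conj (yi_mem i ((((μ⁻¹ : Kˣ) : K) - 1) / a))
  rw [cj_y hS c i a b _ μ⁻¹ (by field_simp; ring), inv_inv] at this
  exact ⟨_, div_ne_zero ha (Units.ne_zero _), _, this⟩

theorem Tk.ta (hK : H05.Lev.Four K) (h : Tk hS g c i) (μ : Kˣ) : Ta hS g (c * Pi.mulSingle i μ) i := by
  obtain ⟨a, b, h, h'⟩ := h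
  by_cases ha : a = 0
  · obtain ⟨s, h1, h2, h3⟩ := hK 0 b⁻¹ ((1 - chiOf c (sroot i)) / b)
    have h4 : 1 + b * -s ≠ 0 := fun e => h2 (eq_inv_of_mul_eq_one_right (by linear_combination -e))
    have := h.conj (xi_mem i s)
    rw [cj_x hS c i a b s (Units.mk0 _ h4) rfl] at this
    have h5 : Ta hS g (c * Pi.mulSingle i (Units.mk0 _ h4)⁻¹) i := by
      refine ⟨_, fun e => ?_, _, this⟩
      rw [ha, Units.val_mk0, add_zero, ← mul_div_assoc, add_eq_zero_iff_eq_neg, ← neg_div, eq_div_iff h4] at e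
      have e2 : (chiOf c (sroot i) : K) = 1 + b * -s := mul_left_cancel₀ h1 (by linear_combination -e)
      by_cases hb : b = 0
      · exact h' ⟨ha, hb, Units.ext (by simpa [hb] using e2)⟩
      · exact h3 (by rw [e2]; field_simp; ring)
    simpa [mul_assoc, ← Pi.mulSingle_mul] using h5.mul (Units.mk0 _ h4 * μ)
  · exact Ta.mul ⟨a, ha, b, h⟩ μ

theorem of_not_tk (h : ¬ Tk hS g c j) {u v : G} (hu : u ∈ S.U) (hv : v ∈ S.V) (e : IsConj g (u * torS hS c * v)) :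
    u ∈ S.UJ {j} ∧ v ∈ VJ S {j} ∧ chiOf c (sroot j) = 1 := by
  obtain ⟨u', hu', a, rfl⟩ := exists_mul_x_of_mem_U j hu
  obtain ⟨b, v', hv', rfl⟩ := dec_V1 j hv
  obtain ⟨rfl, rfl, h3⟩ : a = 0 ∧ b = 0 ∧ chiOf c (sroot j) = 1 := by
    by_contra h'
    exact h ⟨a, b, ⟨u', hu', v', hv', by simpa only [mul_assoc] using e⟩, h'⟩
  simpa using ⟨hu', hv', h3⟩

theorem Ta.move (h : Ta hS g c i) (hij : i ≠ j) (adj : wt (sroot j) i ≠ 0) : Tk hS g c j := by
  by_contra hn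
  obtain ⟨a, ha, b, u', hu', v', hv', h⟩ := h
  have xj : ∀ t, S.x (sroot j) t ∈ S.UJ {i} := fun t => by
    rw [UJ_single]; exact x_mem_US (by exact ⟨isPos_sroot j, fun e => hij (sroot_injective e).symm⟩) t
  have xi : ∀ t, S.x (sroot i) t ∈ S.UJ {j} := fun t => by
    rw [UJ_single]; exact x_mem_US (by exact ⟨isPos_sroot i, fun e => hij (sroot_injective e)⟩) t
  have xP : ∀ t, S.x (sroot i) t ∈ S.PJ {j} := fun t => B_le_PJ _ (U_le_B (x_mem_U (isPos_sroot i) t))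
  set n := S.n (sroot i) 1 with hn0
  have hnL : n ∈ S.LJ {i} := n_mem_of (xi_mem i) (yi_mem i) 1
  have nx : ∀ a, n * S.x (sroot i) a * n⁻¹ = S.x (sroot i).rev (-a) := fun a => by
    rw [hn0, n_conj _ _ one_ne_zero, refl_self, eta_self]; simp
  have ny : ∀ a, n * S.x (sroot i).rev a * n⁻¹ = S.x (sroot i) (-a) := fun a => by
    rw [hn0, n_conj _ _ one_ne_zero, refl_self_rev, eta_self_rev]; simp
  have key : ∀ u ∈ S.UJ {i}, ∀ v ∈ S.V, IsConj g (u * S.x (sroot i) a * torS hS c * v) → n * u * n⁻¹ ∈ S.UJ {j} := by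
    intro u hu v hv e
    obtain ⟨b, v', hv', rfl⟩ := dec_V1 i hv
    set χ := chiOf c (sroot i) with hχ
    have e1 := nx a
    have e2 := ny b
    have e3 := cj_n hS c (sroot i)
    rw [th, ← hχ] at e3
    set s := (1 - (χ : K)) / a - b with hs
    have e4 : chiOf (c * Pi.mulSingle i χ⁻¹) (sroot i) = χ⁻¹ := by
      rw [chiOf_mul, chiOf_single, ← pair_sroot, pair_self, ← hχ]; group
    have e5 := yx_eq hS (sroot i) (-a) ((χ⁻¹ : Kˣ) * (-b + -s)) χ⁻¹ (by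
      have := χ.ne_zero
      rw [hs, Units.val_inv_eq_inv_val]; field_simp; ring)
    rw [inv_inv] at e5
    have e6 : ∃ a' b', S.x (sroot i) s * n * (S.x (sroot i) a * torS hS c * S.x (sroot i).rev b) * (S.x (sroot i) s * n)⁻¹ =
        S.x (sroot i) a' * torS hS c * S.x (sroot i).rev b' := by
      refine ⟨?_, ?_, ?_⟩
      rotate_right
      calc _ = S.x (sroot i) s * (n * S.x (sroot i) a * n⁻¹) * ((n * torS hS c * n⁻¹) * ((n * S.x (sroot i).rev b * n⁻¹) *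
            (S.x (sroot i) s)⁻¹)) := by group
        _ = S.x (sroot i) s * (S.x (sroot i).rev (-a) * S.x (sroot i) ((χ⁻¹ : Kˣ) * (-b + -s))) *
            torS hS (c * Pi.mulSingle i χ⁻¹) := by rw [e1, e2, e3, x_inv, S.add, tx, e4]; simp only [mul_assoc]
        _ = _ := by
          rw [e5, ← mul_assoc, ← mul_assoc, S.add, mul_assoc _ _ (torS hS _), yt, ← mul_assoc, mul_assoc _ (S.h _ _), ht,
            mul_assoc c, ← Pi.mulSingle_mul, inv_mul_cancel, Pi.mulSingle_one, mul_one]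
    obtain ⟨a', b', e6⟩ := e6
    have hz : S.x (sroot i) s * n ∈ S.LJ {i} := mul_mem (xi_mem i s) hnL
    have := (of_not_tk hn (mul_mem (UJ_le_U _ (cjU (LJ_le_PJ _ hz) hu)) (x_mem_U (isPos_sroot i) a'))
      (mul_mem (x_mem_V (not_isPos_rev (isPos_sroot i)) b') (VJ_le_V _ (cjV hz hv')))
      (e.trans (isConj_iff.2 ⟨S.x (sroot i) s * n, by
        generalize S.x (sroot i) s * n = z at e6 ⊢
        calc _ = z * u * z⁻¹ * (z * (S.x (sroot i) a * torS hS c * S.x (sroot i).rev b) * z⁻¹) * (z * v' * z⁻¹) := by group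
          _ = _ := by rw [e6]; group⟩))).1
    have := cjU (inv_mem (xP s)) (mul_mem this (inv_mem (xi a')))
    simpa [mul_assoc] using this
  have hu0 : u' * S.x (sroot i) a ∈ S.U := mul_mem (UJ_le_U _ hu') (x_mem_U (isPos_sroot i) a)
  have hv0 : S.x (sroot i).rev b * v' ∈ S.V := mul_mem (x_mem_V (not_isPos_rev (isPos_sroot i)) b) (VJ_le_V _ hv')
  have h0 : IsConj g (u' * S.x (sroot i) a * torS hS c * (S.x (sroot i).rev b * v')) := by simpa only [mul_assoc] using h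
  obtain ⟨-, k2, k3⟩ := of_not_tk hn hu0 hv0 h0
  set z := S.x (sroot j) 1 with hz
  have k4 : torS hS c * z = z * torS hS c := by rw [hz, tx, k3]; simp
  have k5 : S.x (sroot i) a * z⁻¹ * (S.x (sroot i) a)⁻¹ ∈ S.UJ {i} := cjU (LJ_le_PJ _ (xi_mem i a)) (inv_mem (xj 1))
  have m0 := key u' hu' _ hv0 h0
  have m1 := key _ (mul_mem (mul_mem (xj 1) hu') k5) _ (VJ_le_V _ (cjV (xi_mem j 1) k2))
    (h0.trans (isConj_iff.2 ⟨z, by
      rw [← hz]
      calc _ = z * u' * S.x (sroot i) a * z⁻¹ * (z * torS hS c) * (S.x (sroot i).rev b * v') * z⁻¹ := by group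
        _ = _ := by rw [← k4]; group⟩))
  have m2 : n * z * n⁻¹ ∈ S.UJ {j} := by
    rw [hz, hn0, n_conj _ _ one_ne_zero, UJ_single]
    refine x_mem_US (And.intro (isPos_refl_sroot (isPos_sroot j) fun e => hij (sroot_injective e).symm) fun e => ?_) _
    have := wt_refl (sroot i) (sroot j)
    rw [e, pair_sroot, eq_comm, sub_eq_self, smul_eq_zero] at this
    exact this.elim adj (wt_ne_zero _)
  have m3 : n * (S.x (sroot i) a * z⁻¹ * (S.x (sroot i) a)⁻¹) * n⁻¹ ∈ S.UJ {j} := by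
    have := mul_mem (inv_mem (mul_mem m2 m0)) m1
    rw [← hz] at this
    simpa [mul_assoc] using this
  have m4 := x_rev_eq (S := S) (sroot i).rev (-a⁻¹)
  have m5 := n_rev (S := S) (sroot i) ha
  rw [Fin.rev_rev, m5] at m4
  simp only [inv_neg, inv_inv, neg_neg] at m4
  have m6 := ny a⁻¹
  obtain ⟨χ, -, -, m7⟩ := exists_char (n_mul_n_mem_H (S := S) (sroot i) one_ne_zero ha)
  have m8 := (comm_xy (S := S) hij a⁻¹ (-1)).eq
  have m9 : n * (S.x (sroot i) a * z⁻¹ * (S.x (sroot i) a)⁻¹) * n⁻¹ =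
      S.x (sroot i) (-a⁻¹) * S.x (sroot j) (χ (sroot j) * -1) * (S.x (sroot i) (-a⁻¹))⁻¹ := by
    rw [← m7, ← m6, m4, hz, x_inv, ← hn0]
    calc _ = n * S.x (sroot i).rev a⁻¹ * S.n (sroot i) a * (S.x (sroot i).rev a⁻¹ * S.x (sroot j) (-1)) *
          (S.x (sroot i).rev a⁻¹)⁻¹ * (S.n (sroot i) a)⁻¹ * (S.x (sroot i).rev a⁻¹)⁻¹ * n⁻¹ := by group
      _ = _ := by rw [m8]; group
  rw [m9] at m3
  have m10 := cjU (inv_mem (xP (-a⁻¹))) m3
  simp only [mul_assoc, inv_mul_cancel_left, inv_inv, inv_mul_cancel, mul_one] at m10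
  rw [UJ_eq] at m10
  exact (fv_psi_single.1 (mem_of_x_mem_US (closed_pos _) (fun _ h => h) (by simp) m10)).2 rfl

theorem exists_big (hg : S.grp = ⊤) (g : G) : ∃ c, Big hS g c := by
  have key : ∀ k, ∀ u ∈ S.U, ∀ m : S.N, ∀ v ∈ S.V, len sW (S.π m) = k → ∃ c, Big hS (u * m * v) c := by
    intro k
    induction k using Nat.strong_induction_on with
    | _ k ih =>
    intro u hu m v hv hk
    by_cases h1 : S.π m = 1
    · obtain ⟨c, hc⟩ : (m : G) ∈ (torS hS).range := by rw [torS_range]; exact π_eq_one_iff.1 h1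
      exact ⟨c, u, hu, v, hv, by rw [hc]⟩
    obtain ⟨i, hi⟩ := (weylPreCox D).exists_not (inv_ne_one.2 h1)
    have hl := (weylPreCox D).len_of_not hi
    rw [inv_inv] at hi
    obtain ⟨χ, -, hχ⟩ := acts_π m
    have hy : ∀ t, (m : G) * S.x (sroot i).rev t * (m : G)⁻¹ ∈ S.U := fun t => by
      rw [hχ, RootAut.rev (Weyl.aut _)]; exact x_mem_U (isPos_rev_iff.2 hi) _
    obtain ⟨b, v', hv', rfl⟩ := dec_V1 i hv
    have e1 := x_rev_eq (S := S) (sroot i).rev (1 : K)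
    rw [Fin.rev_rev, inv_one, ← x_inv] at e1
    have hn := n_one_mem_N (S := S) (sroot i).rev
    obtain ⟨c, u1, hu1, v1, hv1, h⟩ := ih _ (by
        have : S.π (m * ⟨_, hn⟩) = (sW i * (S.π m)⁻¹)⁻¹ := by
          rw [map_mul, mul_inv_rev, inv_inv, (weylPreCox D).inv_eq]
          congr 1
          exact Subtype.ext ((π_n _ one_ne_zero).trans (sref_rev _))
        rw [← hk, ← (weylPreCox D).len_inv (S.π m), ← hl, this, (weylPreCox D).len_inv]
        exact Nat.lt_succ_self _)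
      _ (mul_mem (mul_mem (mul_mem (x_mem_U (isPos_sroot i) 1) hu) (hy b)) (hy (-1))) (m * ⟨_, hn⟩)
      _ (mul_mem (x_mem_V (not_isPos_rev (isPos_sroot i)) (-1)) (VJ_le_V _ (cjV (xi_mem i 1) hv'))) rfl
    refine ⟨c, u1, hu1, v1, hv1, IsConj.trans (isConj_iff.2 ⟨S.x (sroot i) 1, ?_⟩) h⟩
    calc _ = S.x (sroot i) 1 * u * m * S.x (sroot i).rev b * (S.x (sroot i) 1)⁻¹ * (S.x (sroot i) 1 * v' * (S.x (sroot i) 1)⁻¹) := by
          group
      _ = _ := by
        conv_lhs => enter [1, 2]; rw [e1]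
        simp only [Subgroup.coe_mul]; group
  obtain ⟨n0, hn0, h0, -⟩ := exists_n0 S
  obtain ⟨b, hb, m, hm, b', hb', e⟩ := exists_bnb (S := S) (g := g * n0) (by rw [hg]; trivial)
  obtain ⟨u, hu, y, hy, rfl⟩ := exists_mul_of_mem_B hb
  obtain ⟨u', hu', y', hy', rfl⟩ := exists_mul_of_mem_B hb'
  have h1 : y'⁻¹ * u' * y' ∈ S.U := by
    simpa using (mem_normalizer_iff.1 (B_le_normalizer_U (inv_mem (H_le_B hy'))) u').1 hu'
  have h2 : n0 * (y'⁻¹ * u' * y') * n0⁻¹ ∈ S.V := h0 ▸ mem_map_of_mem _ h1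
  have := key _ u hu ⟨_, mul_mem (mul_mem (mul_mem (H_le_N hy) hm) (H_le_N hy')) (inv_mem hn0)⟩ _ h2 rfl
  rwa [show u * (y * m * y' * n0⁻¹) * (n0 * (y'⁻¹ * u' * y') * n0⁻¹) = g by
    rw [eq_mul_inv_of_mul_eq e]; group] at this

omit hS in
theorem top_of_simple (hg : S.grp = ⊤) {M : Subgroup G} (h : ∀ i t, S.x (sroot i) t ∈ M ∧ S.x (sroot i).rev t ∈ M) :
    M = ⊤ := by
  rw [eq_top_iff, ← hg]
  refine US_le.2 fun r _ => root_induction (C := fun r => ∀ t, S.x r t ∈ M) (fun i t => (h i t).1) (fun i s ih t => ?_) r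
  have h1 : S.n (sroot i) 1 ∈ M := n_mem_of (fun t => (h i t).1) (fun t => (h i t).2) 1
  have h2 := n_conj (S := S) (sroot i) s one_ne_zero (((eta (sroot i) s : K) * 1 ^ (-pair (sroot i) s))⁻¹ * t)
  rw [mul_inv_cancel_left₀ (coef_ne_zero _ _ one_ne_zero)] at h2
  exact h2 ▸ mul_mem (mul_mem h1 (ih _)) (inv_mem h1)

theorem exists_tk (hg : S.grp = ⊤) (hθ : Function.Injective S.θ) {g : G} (h1 : g ≠ 1) : ∃ c i, Tk hS g c i := by
  by_contra hn
  push Not at hn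
  obtain ⟨c, u, hu, v, hv, h⟩ := exists_big (hS := hS) hg g
  have hχ : ∀ i, chiOf c (sroot i) = 1 := fun i => (of_not_tk (hn c i) hu hv h).2.2
  have hc : ∀ z, torS hS c * z = z * torS hS c := fun z => by
    have : centralizer {torS hS c} = ⊤ := top_of_simple hg fun i t => by
      simp only [mem_centralizer_singleton_iff]
      rw [tx, yt, hχ]; simp
    exact (mem_centralizer_singleton_iff.1 (this ▸ mem_top z)).symm
  have hQ : ∀ z : G, z * u * z⁻¹ ∈ S.U ∧ z * v * z⁻¹ ∈ S.V := fun z => by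
    have h2 : closure {y | ∃ i, y ∈ S.LJ {i}} = ⊤ := top_of_simple hg fun i t =>
      ⟨subset_closure ⟨i, xi_mem i t⟩, subset_closure ⟨i, yi_mem i t⟩⟩
    have st : ∀ y z, (∃ i, y ∈ S.LJ {i}) → z * u * z⁻¹ ∈ S.U ∧ z * v * z⁻¹ ∈ S.V →
        y * z * u * (y * z)⁻¹ ∈ S.U ∧ y * z * v * (y * z)⁻¹ ∈ S.V := by
      rintro y z ⟨i, hy⟩ ⟨p1, p2⟩
      obtain ⟨q1, q2, -⟩ := of_not_tk (hn c i) p1 p2 (h.trans (isConj_iff.2 ⟨z, by
        calc _ = z * u * z⁻¹ * (z * torS hS c) * v * z⁻¹ := by group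
          _ = _ := by rw [← hc]; group⟩))
      exact ⟨by simpa [mul_assoc] using UJ_le_U _ (cjU (LJ_le_PJ _ hy) q1), by simpa [mul_assoc] using VJ_le_V _ (cjV hy q2)⟩
    refine closure_induction_left (p := fun z _ => z * u * z⁻¹ ∈ S.U ∧ z * v * z⁻¹ ∈ S.V) (by simpa using ⟨hu, hv⟩)
      (fun y hy z _ ih => st y z hy ih) (fun y ⟨i, hy⟩ z _ ih => st _ z ⟨i, inv_mem hy⟩ ih) (h2 ▸ mem_top z)
  obtain ⟨n0, -, -, h0⟩ := exists_n0 S
  have e1 : u = 1 := hθ ((θ_eq_one_of_forall_conj fun m _ => U_le_B (hQ m).1).trans (map_one _).symm)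
  have e2 : v = 1 := hθ ((θ_eq_one_of_forall_conj fun m _ => U_le_B (by
    have : n0 * ((n0⁻¹ * m) * v * (n0⁻¹ * m)⁻¹) * n0⁻¹ ∈ S.U := h0 ▸ mem_map_of_mem _ (hQ _).2
    simpa [mul_assoc] using this)).trans (map_one _).symm)
  have e3 : torS hS c = 1 := eq_one_of_commute hθ (by rw [hg]; trivial) fun r t => hc _
  rw [e1, e2, e3, mul_one, mul_one] at h
  exact h1 (isConj_one_left.1 h)

/-- Ellers–Gordeev: Gauss decomposition with prescribed torus part -/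
theorem eg (hK : H05.Lev.Four K) (hg : S.grp = ⊤) (hθ : Function.Injective S.θ) {g : G} (h1 : g ≠ 1) (c : Node D → Kˣ) :
    Big hS g c := by
  classical
  obtain ⟨c0, i0, h0⟩ := exists_tk (hS := hS) hg hθ h1
  have all : ∀ c, (∃ i, Tk hS g c i) → ∀ i, Tk hS g c i := fun c h => by
    by_contra hn
    push Not at hn
    obtain ⟨i, hi, j, hj, e⟩ := Cert.conn (D := D) {i | ¬ Tk hS g c i} hn (h.imp fun _ h => by simpa using h)
    have hj' : Tk hS g c j := by simpa using hj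
    have := hj'.ta hK 1
    rw [Pi.mulSingle_one, mul_one] at this
    exact hi (this.move (fun e' => hi (e' ▸ hj')) e)
  have key : ∀ s : Finset (Node D), ∃ i, Tk hS g (c0 * ∏ j ∈ s, Pi.mulSingle j ((c0⁻¹ * c) j)) i := fun s => by
    induction s using Finset.induction_on with
    | empty => exact ⟨i0, by simpa using h0⟩
    | insert j s hj ih =>
      obtain ⟨a, ha, b, h⟩ := (all _ ih j).ta hK ((c0⁻¹ * c) j)
      refine ⟨j, a, b, ?_, fun e => ha e.1⟩
      rwa [Finset.prod_insert hj, mul_comm (Pi.mulSingle j _), ← mul_assoc]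
  obtain ⟨i, a, b, ⟨u, hu, v, hv, h⟩, -⟩ := key Finset.univ
  rw [Finset.univ_prod_mulSingle, mul_inv_cancel_left] at h
  exact ⟨_, mul_mem (UJ_le_U _ hu) (x_mem_U (isPos_sroot i) a), _,
    mul_mem (x_mem_V (not_isPos_rev (isPos_sroot i)) b) (VJ_le_V _ hv), by simpa only [mul_assoc] using h⟩

end H11.EG
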