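import Mathlib
import Cfsg.Agent.H11.EG1
import Cfsg.Agent.H11.Poin

/-! Class squares from the Gauss decomposition (namespace `H11.EG`): the Levi property `LP`, `lp_empty`, `sq_of`. -/

namespace H11.EG
open Cfsg Cfsg.Lie StSys Equiv Subgroup

theorem fpf_conj {G : Type*} [Group G] {A : Subgroup G} [Finite A] {l : G} (hl : ∀ a ∈ A, l * a * l⁻¹ ∈ A)
    (h : ∀ a ∈ A, Commute a l → a = 1) {u : G} (hu : u ∈ A) : IsConj l (u * l) := by
  let f : A → A := fun a => ⟨a * (l * (a : G)⁻¹ * l⁻¹), mul_mem a.2 (hl _ (inv_mem a.2))⟩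
  have hf : Function.Injective f := fun a b e => by
    have e1 : (a : G) * (l * (a : G)⁻¹ * l⁻¹) = b * (l * (b : G)⁻¹ * l⁻¹) := congrArg Subtype.val e
    have := h _ (mul_mem (inv_mem b.2) a.2) (by
      rw [Commute, SemiconjBy]
      calc _ = (b : G)⁻¹ * (a * (l * (a : G)⁻¹ * l⁻¹)) * l * a := by group
        _ = _ := by rw [e1]; group)
    exact Subtype.ext (inv_mul_eq_one.1 this).symm
  obtain ⟨a, e⟩ := Finite.surjective_of_injective hf ⟨u, hu⟩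
  have e1 : (a : G) * (l * (a : G)⁻¹ * l⁻¹) = u := congrArg Subtype.val e
  exact isConj_iff.2 ⟨a, by rw [← e1]; group⟩

variable {D : ChevalleyDatum} [Good D] [Cert D] {K G : Type*} [Field K] [Group G] {S : StSys D K G}

theorem eq_one_of_comm (hS : S.HMul) {ψ : Node D → ℤ} (hψ : Reg ψ) {T : Set (Root D)} (hT : Closed T)
    (hp : ∀ r ∈ T, 0 < fv ψ r) {c : Node D → Kˣ} (hc : ∀ r ∈ T, chiOf c r ≠ 1) {u : G} (hu : u ∈ S.US T)
    (h : Commute u (torS hS c)) : u = 1 := by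
  obtain ⟨L, hL, hL', -⟩ := exists_list T
  obtain ⟨t, rfl⟩ := exists_prodL hT hp hψ hL hL' hu
  have e : ∀ L : List (Root D), torS hS c * S.prodL L t * (torS hS c)⁻¹ = S.prodL L fun r => chiOf c r * t r := fun L => by
    induction L with
    | nil => simp
    | cons a L ih => rw [prodL_cons, ← conj_mul, ih, torS_conj, prodL_cons]
  have h1 := prodL_inj' hT hp hψ (fun r => (hL r).1) hL' ((e L).symm.trans (by rw [← h.eq, mul_inv_cancel_right]))
  rw [prodL_congr (t' := 0) fun r hr => ?_, prodL_zero]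
  by_contra h0
  exact hc r ((hL r).1 hr) (Units.ext (mul_right_cancel₀ h0 (by simpa using h1 r hr)))

variable (S) in
/-- the Levi property -/
def LP (J : Set (Node D)) (w : Perm (Root D)) : Prop :=
  ∃ u0, (∃ k : ℕ, u0 ^ Nat.card K ^ k = 1) ∧ u0 ∈ S.US {r | InJ J r} ∧
    (∀ a ∈ S.US {r | IsPos r ∧ InJ J r}, ∀ b ∈ S.US {r | ¬ IsPos r ∧ InJ J r}, ∃ l ∈ S.LJ J, ∃ l' ∈ S.LJ J,
      a * b = (l * u0 * l⁻¹) * (l' * u0 * l'⁻¹)) ∧
    ∀ m, S.Acts m w → ∃ l ∈ S.LJ J, m * u0 * m⁻¹ = l * u0 * l⁻¹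

omit [Cert D] in
theorem lp_empty (w : Perm (Root D)) : LP S ∅ w := by
  have h : ∀ r : Root D, ¬ InJ ∅ r := fun r h => cor_ne_zero r (funext fun i => h i (Set.notMem_empty i))
  refine ⟨1, ⟨0, one_pow _⟩, one_mem _, fun a ha b hb => ⟨1, one_mem _, 1, one_mem _, ?_⟩, fun m _ => ⟨1, one_mem _, by simp⟩⟩
  simp only [h, and_false, Set.ofPred_false, US_empty, mem_bot] at ha hb
  simp [ha, hb]

theorem sq_of [Finite K] (hK : H05.Lev.Four K) (hg : S.grp = ⊤) (hθ : Function.Injective S.θ) {J : Set (Node D)}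
    {c : Node D → Kˣ} (hc : ∀ r, chiOf c r = 1 ↔ InJ J r) {w : Weyl D} (hw : ∀ r, chiOf c (w.1 r) = (chiOf c r)⁻¹)
    (hL : LP S J w.1) : ∃ x : G, ∀ g : G, ∃ a b : G, g = (a * x * a⁻¹) * (b * x * b⁻¹) := by
  have hS := S.hMul_of_finite
  have := finite_of_gen hg
  have := Fintype.ofFinite K
  obtain ⟨u0, ⟨k0, hu0⟩, hu1, h1, h2⟩ := hL
  set h := torS hS c with hh
  have hc1 : ∀ l ∈ S.LJ J, Commute l h := fun l hl => by
    refine mem_centralizer_singleton_iff.1 ((sup_le ?_ (US_le.2 fun r hr t => ?_) : S.LJ J ≤ centralizer {h}) hl)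
    · rw [← torS_range hS]
      rintro _ ⟨d, rfl⟩
      rw [mem_centralizer_singleton_iff, hh, ← map_mul, ← map_mul, mul_comm]
    · rw [mem_centralizer_singleton_iff, hh, tx, (hc r).2 hr]; simp
  have hu2 : u0 ∈ S.LJ J := mem_sup_right hu1
  have hhL : h ∈ S.LJ J := mem_sup_left (by rw [← torS_range hS]; exact ⟨c, rfl⟩)
  obtain ⟨m, -, hm⟩ := exists_acts_weyl (S := S) w
  have hm1 : m * h * m⁻¹ = h⁻¹ := by
    rw [hh, conj_torS hS (Weyl.aut w) hm, eq_inv_iff_mul_eq_one, ← map_mul]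
    refine eq_one_of_commute hθ (by rw [hg]; trivial) fun r t => ?_
    obtain ⟨r, rfl⟩ := w.1.surjective r
    rw [tx, chiOf_mul, chiOf_mact (Weyl.aut w), hw]; simp
  have hN : ∀ l ∈ S.LJ J, ∀ d : Node D → Kˣ, Commute (torS hS d) (l * u0 * l⁻¹) →
      (torS hS d * (l * u0 * l⁻¹)) ^ Nat.card K ^ k0 = torS hS d := fun l hl d hd => by
    rw [hd.mul_pow, conj_pow, hu0, mul_one, mul_inv_cancel, mul_one, ← map_pow, Nat.card_eq_fintype_card]
    congr 1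
    ext i
    simp [FiniteField.pow_card_pow]
  have hcj : ∀ l ∈ S.LJ J, IsConj (h * u0) (h * (l * u0 * l⁻¹)) := fun l hl =>
    isConj_iff.2 ⟨l, by rw [← mul_assoc, (hc1 l hl).eq]; group⟩
  have hA : ∀ l ∈ S.LJ J, ∀ u ∈ S.UJ J, IsConj (h * u0) (u * (h * (l * u0 * l⁻¹))) := fun l hl u hu => by
    have hl' : l * u0 * l⁻¹ ∈ S.LJ J := mul_mem (mul_mem hl hu2) (inv_mem hl)
    refine (hcj l hl).trans (fpf_conj (fun a ha => cjU (LJ_le_PJ J (mul_mem hhL hl')) ha) (fun a ha e => ?_) hu)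
    have := e.pow_right (Nat.card K ^ k0)
    rw [hN l hl c (hc1 _ hl').symm] at this
    rw [UJ_eq] at ha
    exact eq_one_of_comm hS reg_phiV (closed_pos _) (fun r hr => pos_U r (fv_psiJ_pos_iff.1 hr).1)
      (fun r hr e => (fv_psiJ_pos_iff.1 hr).2 ((hc r).1 e)) ha this
  have hB : ∀ l ∈ S.LJ J, ∀ v ∈ VJ S J, IsConj (h * u0) (h⁻¹ * (l * u0 * l⁻¹) * v) := fun l hl v hv => by
    have hl' : l * u0 * l⁻¹ ∈ S.LJ J := mul_mem (mul_mem hl hu2) (inv_mem hl)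
    obtain ⟨k, hk, e⟩ := h2 m hm
    have e1 : IsConj (h * u0) (h⁻¹ * (l * u0 * l⁻¹)) := isConj_iff.2 ⟨l * k⁻¹ * m, by
      calc _ = l * k⁻¹ * (m * h * m⁻¹) * (m * u0 * m⁻¹) * k * l⁻¹ := by group
        _ = _ := by
          rw [hm1, e, (hc1 _ (mul_mem hl (inv_mem hk))).inv_right.eq]; group⟩
    refine e1.trans ((fpf_conj (fun a ha => cjV (mul_mem (inv_mem hhL) hl') ha) (fun a ha e => ?_) hv).trans
      (isConj_iff.2 ⟨v⁻¹, by group⟩))
    have := e.pow_right (Nat.card K ^ k0)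
    rw [hh, ← map_inv, hN l hl c⁻¹ (by rw [map_inv]; exact (hc1 _ hl').symm.inv_left), map_inv] at this
    exact eq_one_of_comm hS reg_phiV.neg (closed_pos _) (fun r hr => pos_V r (fv_neg_psi.1 hr).1)
      (fun r hr e => (fv_neg_psi.1 hr).2 ((hc r).1 e)) ha (by simpa using this.inv_right)
  refine ⟨h * u0, fun g => ?_⟩
  obtain ⟨u, hu, v, hv, e⟩ : ∃ u ∈ S.U, ∃ v ∈ S.V, IsConj g (u * v) := by
    by_cases h1 : g = 1
    · exact ⟨1, one_mem _, 1, one_mem _, by simp [h1]⟩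
    · simpa [Big] using eg (hS := hS) hK hg hθ h1 1
  obtain ⟨u', hu', a, ha, rfl⟩ := dec_U J hu
  obtain ⟨b, hb, v', hv', rfl⟩ := dec_V J hv
  obtain ⟨l, hl, l', hl', e1⟩ := h1 a ha b hb
  obtain ⟨p, hp⟩ := isConj_iff.1 (hA l hl u' hu')
  obtain ⟨q, hq⟩ := isConj_iff.1 (hB l' hl' v' hv')
  obtain ⟨z, hz⟩ := isConj_iff.1 e.symm
  refine ⟨z * p, z * q, ?_⟩
  have e2 := (hc1 _ (mul_mem (mul_mem hl hu2) (inv_mem hl))).eq
  calc g = z * (u' * (a * b) * v') * z⁻¹ := by rw [← hz]; group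
    _ = z * ((u' * (l * u0 * l⁻¹ * h)) * (h⁻¹ * (l' * u0 * l'⁻¹) * v')) * z⁻¹ := by rw [e1]; group
    _ = _ := by rw [e2, ← hp, ← hq]; group

end H11.EG
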