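import Mathlib
import Cfsg.Agent.H05.Lev3
import Cfsg.Agent.H09.SLBasic

/-! Regular unipotent elements of `SL_n` (namespace `H11.EG`): `Rg`, `lev`, `cj`, `tau`, `dg`, `hom_diag`. -/

namespace H11.EG
open Matrix Matrix.SpecialLinearGroup
open scoped commutatorElement

variable {K : Type*} [Field K] {m : ℕ}

/-- regular unipotent matrices -/
def Rg (M : Matrix (Fin (m + 1)) (Fin (m + 1)) K) : Prop := (M - 1) ^ (m + 1) = 0 ∧ (M - 1) ^ m ≠ 0

section
variable {M M' : Matrix (Fin (m + 1)) (Fin (m + 1)) K}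

theorem Rg.conj (h : Rg M) (x : GL (Fin (m + 1)) K) : Rg (x.val * M * (x⁻¹).val) := by
  have e : x.val * M * (x⁻¹).val - 1 = x.val * (M - 1) * (x⁻¹).val := by
    rw [mul_sub, sub_mul, mul_one, Units.mul_inv]
  refine ⟨by rw [e, Units.conj_pow, h.1, mul_zero, zero_mul], fun h0 => h.2 ?_⟩
  rwa [e, Units.conj_pow, Units.mul_left_eq_zero, Units.mul_right_eq_zero] at h0

theorem Rg.inv (h : Rg M) (e : M' * M = 1) : Rg M' := by
  have e' := mul_eq_one_comm.1 e
  have e1 : M' - 1 = -M' * (M - 1) := by rw [mul_sub, neg_mul, e, mul_one]; abel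
  have c : Commute (-M') (M - 1) := by
    rw [Commute, SemiconjBy, ← e1, sub_mul, mul_neg, e', one_mul]; abel
  refine ⟨by rw [e1, c.mul_pow, h.1, mul_zero], fun h0 => h.2 ?_⟩
  rwa [e1, c.mul_pow, ((IsUnit.of_mul_eq_one _ e).neg.pow m).mul_right_eq_zero] at h0

theorem Rg.transpose (h : Rg M) : Rg Mᵀ := by
  have e : ∀ k, (Mᵀ - 1) ^ k = ((M - 1) ^ k)ᵀ := fun k => by rw [transpose_pow, transpose_sub, transpose_one]
  exact ⟨by rw [e, h.1, transpose_zero], fun h0 => h.2 (by rwa [e, transpose_eq_zero] at h0)⟩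

theorem rg_toMatrix {L : Module.End K (Fin (m + 1) → K)} :
    Rg (LinearMap.toMatrix' L) ↔ (L - 1) ^ (m + 1) = 0 ∧ ∃ v, ((L - 1) ^ m) v ≠ 0 := by
  have e : ∀ k, (LinearMap.toMatrix' L - 1) ^ k = LinearMap.toMatrixAlgEquiv' ((L - 1) ^ k) := fun k => by
    rw [map_pow, map_sub, map_one]; rfl
  rw [Rg, e, e, map_eq_zero_iff _ (AlgEquiv.injective _), map_ne_zero_iff _ (AlgEquiv.injective _), Ne, LinearMap.ext_iff (g := 0) (f := _ ^ m)]
  simp

theorem Rg.cjJ (h : Rg M) : ∃ x : GL (Fin (m + 1)) K, M = x.val *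
    (of fun i j : Fin (m + 1) => if i = j then (1 : K) else if j.val = i.val + 1 then 1 else 0) * (x⁻¹).val := by
  obtain ⟨L, rfl⟩ := LinearMap.toMatrix'.surjective M
  exact H05.Lev.conjJ _ (fun _ _ => rfl) L (rg_toMatrix.1 h).1 (rg_toMatrix.1 h).2

theorem Rg.isConj (h : Rg M) (h' : Rg M') : ∃ x : GL (Fin (m + 1)) K, M' = x.val * M * (x⁻¹).val := by
  obtain ⟨x, rfl⟩ := h.cjJ
  obtain ⟨y, rfl⟩ := h'.cjJ
  exact ⟨y * x⁻¹, by simp only [_root_.mul_inv_rev, inv_inv, Units.val_mul, mul_assoc, Units.inv_mul_cancel_left]⟩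

theorem Rg.det (h : Rg M) : M.det = 1 := by
  obtain ⟨x, rfl⟩ := h.cjJ
  rw [det_units_conj, det_of_isUpperTriangular fun i j hij => ?_]
  · simp
  · have : j.val < i.val := hij
    rw [of_apply, if_neg (by rintro rfl; omega), if_neg (by omega)]

theorem Rg.pow [Finite K] (h : Rg M) : ∃ k, M ^ Nat.card K ^ k = 1 := by
  have := Fintype.ofFinite K
  obtain ⟨p, hp, n, hp', e⟩ := FiniteField.card' K
  have := Fact.mk hp'
  refine ⟨m + 1, ?_⟩
  have h1 := h.1
  have h2 : m + 1 ≤ p ^ (n * (m + 1) : ℕ) :=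
    (Nat.le_mul_of_pos_left _ n.2).trans (Nat.lt_pow_self hp'.one_lt).le
  rw [Nat.card_eq_fintype_card, e, ← pow_mul, ← sub_eq_zero, ← one_pow (p ^ (n * (m + 1) : ℕ)) (M := Matrix _ _ K),
    ← sub_pow_char_pow_of_commute _ _ (Commute.one_right M), pow_eq_zero_of_le h2 h1]
end

theorem lev (hK : H05.Lev.Four K) (g : SpecialLinearGroup (Fin (m + 3)) K) (hg : ∀ a : K, g.1 ≠ a • 1) :
    ∃ L U : SpecialLinearGroup (Fin (m + 3)) K, Rg L.1 ∧ Rg U.1 ∧ g = L * U := by
  obtain ⟨L, U, e, h1, h2, h3, h4⟩ := H05.Lev.main hK (m := m) (by simp) (toLin' g.1) (by simp) fun a e =>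
    hg a (by simpa using congrArg LinearMap.toMatrix' e)
  have a := rg_toMatrix.2 ⟨h1, h2⟩
  have b := rg_toMatrix.2 ⟨h3, h4⟩
  exact ⟨⟨_, a.det⟩, ⟨_, b.det⟩, a, b, Subtype.ext (by
    change g.1 = LinearMap.toMatrix' L * LinearMap.toMatrix' U
    simpa [Module.End.mul_eq_comp, LinearMap.toMatrix'_comp] using congrArg LinearMap.toMatrix' e)⟩

variable {n : Type*} [Fintype n] [DecidableEq n] {G : Type*} [Group G]

/-- conjugation by an element of `GL` -/
def cj (x : GL n K) : SpecialLinearGroup n K →* SpecialLinearGroup n K :=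
  MonoidHom.mk' (fun g => ⟨x.val * g.1 * (x⁻¹).val, by rw [det_units_conj, g.2]⟩) fun a b => Subtype.ext (by
    change x.val * (a.1 * b.1) * _ = (x.val * a.1 * _) * (x.val * b.1 * _)
    simp only [mul_assoc, Units.inv_mul_cancel_left])

/-- the transpose-inverse automorphism -/
def tau : SpecialLinearGroup n K →* SpecialLinearGroup n K :=
  MonoidHom.mk' (fun g => ⟨(g⁻¹).1ᵀ, by rw [det_transpose, (g⁻¹).2]⟩) fun a b => Subtype.ext (by
    change ((a * b)⁻¹).1ᵀ = (a⁻¹).1ᵀ * (b⁻¹).1ᵀ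
    rw [_root_.mul_inv_rev, Matrix.SpecialLinearGroup.coe_mul, transpose_mul])

/-- diagonal elements of `GL` -/
def dg (d : n → Kˣ) : GL n K :=
  ⟨diagonal fun i => d i, diagonal fun i => (d i)⁻¹, by simp [diagonal_mul_diagonal], by simp [diagonal_mul_diagonal]⟩

theorem tau_tv {i j : n} (h : i ≠ j) (t : K) : tau (transvection h t) = transvection h.symm (-t) :=
  Subtype.ext (by
    change ((transvection h t)⁻¹).1ᵀ = _
    rw [transvection_inv, transvection_coe, transvection_coe, transpose_add, transpose_one, transpose_single])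

theorem cj_tv (d : n → Kˣ) {i j : n} (h : i ≠ j) (t : K) :
    cj (dg d) (transvection h t) = transvection h (d i * (d j : K)⁻¹ * t) := by
  ext a b
  change ((diagonal (fun i => (d i : K)) * (transvection h t).1 * diagonal fun i => ((d i)⁻¹ : K)) a b) = _
  simp only [mul_diagonal, diagonal_mul, transvection_coe, Matrix.add_apply, Matrix.one_apply, Matrix.single_apply]
  split_ifs with h1 h2 h2
  · exact absurd (h2.1.trans (h1.trans h2.2.symm)) h
  · simp [h1]
  · obtain ⟨rfl, rfl⟩ := h2; ring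
  · simp

theorem SL_ext {f f' : SpecialLinearGroup n K →* G} (h : ∀ i j (h : i ≠ j) t, f (transvection h t) = f' (transvection h t)) :
    f = f' := MonoidHom.ext (H09.SL_transvection_induction (fun g => f g = f' g) (by simp) h fun a b ha hb => by
      rw [map_mul, map_mul, ha, hb])

theorem GL_dec (o : n) (x : GL n K) : ∃ (s : SpecialLinearGroup n K) (c : Kˣ), ∀ g,
    cj x g = s * cj (dg (Pi.mulSingle o c)) g * s⁻¹ := by
  let y := dg (Pi.mulSingle o (GeneralLinearGroup.det x))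
  have hy : y.val.det = x.val.det := by
    simp only [y, dg, det_diagonal]
    rw [Finset.prod_eq_single o (fun b _ h => by simp [h]) (by simp)]; simp
  refine ⟨⟨(x * y⁻¹).val, ?_⟩, GeneralLinearGroup.det x, fun g => ?_⟩
  · rw [Units.val_mul, det_mul, ← hy, ← det_mul, Units.mul_inv, det_one]
  · refine eq_mul_inv_iff_mul_eq.2 (Subtype.ext ?_)
    change x.val * g.1 * (x⁻¹).val * (x * y⁻¹).val = (x * y⁻¹).val * (y.val * g.1 * (y⁻¹).val)
    simp only [Units.val_mul, mul_assoc, Units.inv_mul_cancel_left]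

theorem hom_diag {φ f : SpecialLinearGroup (Fin (m + 3)) K →* G}
    (hφ : ∀ i j (h : i ≠ j) t u, φ (transvection h t) = φ (transvection h u) → t = u)
    (hf : ∀ i j (h : i ≠ j), ∃ κ : Kˣ, ∀ t, f (transvection h t) = φ (transvection h (κ * t))) :
    ∃ d, f = φ.comp (cj (dg d)) := by
  choose κ hκ using hf
  have h1 : ∀ {a b c} (h : a ≠ b) (h' : b ≠ c) (h'' : a ≠ c), κ a b h * κ b c h' = κ a c h'' := fun h h' h'' => by
    have := congrArg f (H09.transvection_commutator h'' h h' (1 : K) 1)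
    rw [map_commutatorElement, hκ, hκ, hκ, ← map_commutatorElement, H09.transvection_commutator h''] at this
    exact Units.ext (by simpa using hφ _ _ _ _ _ this)
  refine ⟨fun a => if h : a = 0 then 1 else κ a 0 h, SL_ext fun a b h t => ?_⟩
  rw [hκ, MonoidHom.comp_apply, cj_tv, ← Units.val_inv_eq_inv_val, ← Units.val_mul]
  congr 4
  split_ifs with ha hb hb
  · exact absurd (ha.trans hb.symm) h
  · subst ha
    obtain ⟨c, h2, h3⟩ : ∃ c : Fin (m + 3), c ≠ 0 ∧ b ≠ c := by
      by_cases e : b = 1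
      · exact ⟨⟨2, by omega⟩, Fin.ne_of_val_ne (by simp), Fin.ne_of_val_ne (by simp [e])⟩
      · exact ⟨1, Fin.ne_of_val_ne (by simp), e⟩
    rw [one_mul, eq_inv_iff_mul_eq_one, ← mul_left_inj (κ 0 c h2.symm), mul_assoc, h1 hb h2.symm h3, h1 h h3 h2.symm, one_mul]
  · subst hb; simp
  · rw [eq_mul_inv_iff_mul_eq, h1]

/-- the stabiliser of a basis vector -/
def St (o : n) : Subgroup (SpecialLinearGroup n K) := MulAction.stabilizer _ (Pi.single o 1 : n → K)

theorem tv_mem_St {o i j : n} (h : i ≠ j) (hj : j ≠ o) (t : K) : transvection h t ∈ St (K := K) o := by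
  simp [St, Matrix.SpecialLinearGroup.smul_def, -mulVec_single, transvection_coe, add_mulVec, single_mulVec_eq, hj]

theorem eq_one_of_St {o : n} {A B : SpecialLinearGroup n K} (hA : A ∈ St o) (hB : tau B ∈ St o) {a : K}
    (e : (A * B).1 = a • 1) : A * B = 1 := by
  have h1 : A.1 *ᵥ Pi.single o 1 = Pi.single o 1 := hA
  have h2 : (B⁻¹)⁻¹.1ᵀ *ᵥ Pi.single o 1 = Pi.single o 1 := by
    have := inv_mem hB
    rwa [← map_inv] at this
  have e2 : (B * A).1 = a • 1 := by
    rw [show B * A = A⁻¹ * (A * B) * A by group, coe_mul, coe_mul, e, mul_smul_comm, smul_mul_assoc, mul_one, ← coe_mul,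
      inv_mul_cancel, coe_one]
  have h3 := congrArg (fun M : Matrix n n K => Pi.single o 1 ⬝ᵥ M *ᵥ Pi.single o 1) e2
  rw [inv_inv, mulVec_transpose] at h2
  simp only [coe_mul, ← mulVec_mulVec, h1, dotProduct_mulVec, h2] at h3
  obtain rfl : a = 1 := by simpa using h3.symm
  exact Subtype.ext (by rw [e, one_smul, coe_one])

end H11.EG
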