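import Mathlib
import Cfsg.Agent.H11.EG2
import Cfsg.Agent.H11.EG3
import Cfsg.Agent.H11.CentExt
import Cfsg.Agent.H09.StUniv

/-! Levi factors of type `A` (namespace `H11.EG`): `AC`, `exists_phi`, `lp_A`. -/

namespace H11.EG
open Cfsg Cfsg.Lie StSys Equiv Subgroup Matrix Matrix.SpecialLinearGroup
open scoped commutatorElement

/-- Kronecker delta -/
def dl {α : Type*} [DecidableEq α] (a b : α) : ℤ := if a = b then 1 else 0

variable {D : ChevalleyDatum} [Good D] {m : ℕ} {J : Set (Node D)} {j : Fin (m + 2) → Node D} {ε : Fin (m + 3) → Node D → ℤ}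

/-- a chain of type `A` in the Dynkin diagram -/
structure AC (J : Set (Node D)) (j : Fin (m + 2) → Node D) (ε : Fin (m + 3) → Node D → ℤ) : Prop where
  rng : ∀ i, i ∈ J ↔ ∃ a, j a = i
  wts : ∀ i, wt (sroot (j i)) = ε i.castSucc - ε i.succ
  crt : ∀ a b i, ε a (j i) - ε b (j i) = dl i.castSucc a - dl i.castSucc b - (dl i.succ a - dl i.succ b)

/-- `r` is the root `e_a - e_b` -/
def RA (J : Set (Node D)) (ε : Fin (m + 3) → Node D → ℤ) (a b : Fin (m + 3)) (r : Root D) : Prop :=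
  InJ J r ∧ wt r = ε a - ε b ∧ ∀ c d, cor r ⬝ᵥ (ε c - ε d) = dl a c - dl a d - (dl b c - dl b d)

theorem AC.base (h : AC J j ε) (i : Fin (m + 2)) : RA J ε i.castSucc i.succ (sroot (j i)) :=
  ⟨inJ_sroot.2 ((h.rng _).2 ⟨i, rfl⟩), h.wts i, fun c d => by rw [cor_sroot, single_dotProduct, one_mul, Pi.sub_apply, h.crt]⟩

theorem AC.step (h : AC J j ε) (i : Fin (m + 2)) {a b : Fin (m + 3)} {r : Root D} (hr : RA J ε a b r) :
    RA J ε (swap i.castSucc i.succ a) (swap i.castSucc i.succ b) (refl (sroot (j i)) r) := by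
  have hi := (Fin.castSucc_lt_succ (i := i)).ne
  have e : ∀ c, ε (swap i.castSucc i.succ c) = ε c - (dl i.castSucc c - dl i.succ c) • (ε i.castSucc - ε i.succ) := fun c => by
    by_cases h1 : i.castSucc = c
    · subst h1; simp [dl, hi.symm]
    by_cases h2 : i.succ = c
    · subst h2; simp [dl, hi]
    · simp [dl, h1, h2, swap_apply_of_ne_of_ne (Ne.symm h1) (Ne.symm h2)]
  have e2 : ∀ c d, ε (swap i.castSucc i.succ c) - ε (swap i.castSucc i.succ d) =
      ε c - ε d - (ε c - ε d) (j i) • wt (sroot (j i)) := fun c d => by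
    rw [e, e, Pi.sub_apply, h.crt, h.wts]; module
  have e3 : ∀ a c, dl a (swap i.castSucc i.succ c) = dl (swap i.castSucc i.succ a) c := fun a c => by
    simp only [dl, swap_apply_eq_iff]
  refine ⟨(h.base i).1.refl hr.1, by rw [wt_refl, pair_sroot, hr.2.1, e2], fun c d => ?_⟩
  rw [← e3, ← e3, ← e3, ← e3, ← hr.2.2, e2, cor_refl, cor_sroot, sub_dotProduct, dotProduct_sub _ (ε c - ε d), smul_dotProduct,
    single_dotProduct, dotProduct_smul, pair, one_mul, smul_eq_mul, smul_eq_mul, mul_comm]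

theorem AC.ex (h : AC J j ε) {a b : Fin (m + 3)} (hab : a ≠ b) : ∃ r, RA J ε a b r := by
  have key : ∀ σ : Perm (Fin (m + 3)), ∀ a b, (∃ r, RA J ε a b r) → ∃ r, RA J ε (σ a) (σ b) r := fun σ => by
    have hσ : σ ∈ Submonoid.closure (Set.range fun i : Fin (m + 2) => swap i.castSucc i.succ) := by
      rw [Perm.mclosure_swap_castSucc_succ]; trivial
    induction hσ using Submonoid.closure_induction with
    | mem x hx => obtain ⟨i, rfl⟩ := hx; exact fun a b ⟨r, hr⟩ => ⟨_, h.step i hr⟩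
    | one => exact fun a b h => h
    | mul x y _ _ hx hy => exact fun a b h => hx _ _ (hy _ _ h)
  have := key (swap (swap (Fin.castSucc 0) a (Fin.succ 0)) b * swap (Fin.castSucc 0) a) _ _ ⟨_, h.base 0⟩
  rwa [Perm.mul_apply, Perm.mul_apply, swap_apply_left, swap_apply_left, swap_apply_of_ne_of_ne ?_ hab] at this
  rw [Ne, eq_comm, swap_apply_eq_iff, swap_apply_right]
  exact Fin.succ_ne_zero _

theorem AC.surj (h : AC J j ε) {r : Root D} (hr : InJ J r) : ∃ a b, a ≠ b ∧ RA J ε a b r :=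
  rootJ_induction (C := fun r => ∃ a b, a ≠ b ∧ RA J ε a b r)
    (fun i hi => by obtain ⟨a, rfl⟩ := (h.rng i).1 hi; exact ⟨_, _, Fin.castSucc_lt_succ.ne, h.base a⟩)
    (fun i hi s _ ⟨a, b, e, hs⟩ => by
      obtain ⟨c, rfl⟩ := (h.rng i).1 hi; exact ⟨_, _, (Equiv.swap _ _).injective.ne e, h.step c hs⟩) hr

section
variable {a b c d : Fin (m + 3)} {r s u : Root D}

omit [Good D] in
theorem RA.pr (hr : RA J ε a b r) (hs : RA J ε c d s) : pair r s = dl a c - dl a d - (dl b c - dl b d) := by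
  rw [pair, hs.2.1, hr.2.2]

theorem RA.rev (hr : RA J ε a b r) (hs : RA J ε b a s) : r.rev = s := wt_injective (by rw [wt_rev, hr.2.1, hs.2.1, neg_sub])

theorem AC.sym (h : AC J j ε) (hr : InJ J r) (hs : InJ J s) : pair r s = pair s r := by
  obtain ⟨a, b, -, h1⟩ := h.surj hr
  obtain ⟨c, d, -, h2⟩ := h.surj hs
  simp only [h1.pr h2, h2.pr h1, dl, eq_comm (a := c), eq_comm (a := d)]; ring

theorem AC.lin (h : AC J j ε) (hr : InJ J r) (hs : InJ J s) {p q : ℤ} (e : wt u = p • wt r + q • wt s) :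
    2 = p * (p * 2 + q * pair r s) + q * (p * pair r s + q * 2) := by
  have hu : InJ J u := by
    rw [← fv_psiJ_eq_zero_iff] at *; rw [fv_lin _ e, hr, hs]; simp
  have e1 : ∀ a, pair a u = p * pair a r + q * pair a s := fun a => fv_lin (cor a) e
  have := e1 u
  rwa [pair_self, h.sym hu hr, h.sym hu hs, e1, e1, pair_self, pair_self, h.sym hs hr] at this

theorem AC.nc (h : AC J j ε) (hr : InJ J r) (hs : InJ J s) (e : 0 ≤ pair r s) : Nc r s = 0 := by
  by_contra h0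
  have := h.lin hr hs (p := 1) (q := 1) (by simpa using wt_radd h0)
  omega

theorem AC.clen (h : AC J j ε) (hr : InJ J r) (hs : InJ J s) : clen r s ≤ 1 := by
  by_contra h0
  have := h.lin hr hs (p := 1) (q := 1) (by simpa using Good.wt_chain r s 1 le_rfl (by omega))
  have := h.lin hr hs (p := 2) (q := 1) (by simpa using Good.wt_chain r s 2 one_le_two (by omega))
  omega

theorem RA.add (hr : RA J ε a b r) (hs : RA J ε b c s) (hu : RA J ε a c u) : Nc r s ≠ 0 ∧ radd r s = u := by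
  have e : wt u = wt r + wt s := by rw [hr.2.1, hs.2.1, hu.2.1, sub_add_sub_cancel]
  exact ⟨Nc_ne_of_wt e, radd_eq (Nc_ne_of_wt e) e⟩
end

variable [Cert D] {K G : Type*} [Field K] [Group G] {S : StSys D K G}

omit [Cert D] in
theorem exists_phi [Finite K] (h : AC J j ε) {ρ : Fin (m + 3) → Fin (m + 3) → Root D} (hρ : ∀ {a b}, a ≠ b → RA J ε a b (ρ a b)) :
    ∃ (φ : SpecialLinearGroup (Fin (m + 3)) K →* G) (s : Fin (m + 3) → Fin (m + 3) → Kˣ),
      ∀ a b (h : a ≠ b) t, φ (transvection h t) = S.x (ρ a b) (s a b * t) := by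
  have hr : ∀ {a b}, a ≠ b → (ρ a b).rev = ρ b a := fun e => (hρ e).rev (hρ e.symm)
  have hn : ∀ {a b c d}, a ≠ b → c ≠ d → a ≠ d → b ≠ c → Nc (ρ a b) (ρ c d) = 0 ∧ ρ c d ≠ (ρ a b).rev := fun {a b c d} p q e f => by
    have : 0 ≤ pair (ρ a b) (ρ c d) := by rw [(hρ p).pr (hρ q)]; simp only [dl, e, f, if_false]; split_ifs <;> simp
    exact ⟨h.nc (hρ p).1 (hρ q).1 this, fun e => by simp [e] at this⟩
  have ha := fun {a b c} (p : a ≠ b) (q : b ≠ c) (e : a ≠ c) => (hρ p).add (hρ q) (hρ e)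
  have n1 : ∀ {a b c}, a ≠ b → b ≠ c → a ≠ c → Nc (ρ a b) (ρ b c) * Nc (ρ b a) (ρ a c) = 1 := fun p q e => by
    have := jac_a (ne_of_Nc (ha p q e).1) (ne_rev_of_Nc (ha p q e).1)
    rw [(ha p q e).2, hr p, (hn p.symm q q p).1, (hρ p).pr (hρ q)] at this
    simp only [dl, p, q, e, if_true, if_false] at this; omega
  have n2 : ∀ {a b c}, a ≠ b → b ≠ c → a ≠ c → Nc (ρ a b) (ρ b c) * Nc (ρ a c) (ρ c b) = 1 := fun {a b c} p q e => by
    have h0 := (ha p q e).1
    have := jac_a (ne_of_Nc h0).symm fun e => ne_rev_of_Nc h0 (by rw [e, Fin.rev_rev])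
    rw [radd_comm h0, (ha p q e).2, hr q, (hn q.symm p q.symm p.symm).1, (hρ q).pr (hρ p), Nc_antisymm (ρ a b) (ρ b c),
      Nc_antisymm (ρ a c) (ρ c b)] at this
    simp only [dl, p.symm, q.symm, e.symm, if_true, if_false] at this; linarith
  have n3 : ∀ {a b c d}, a ≠ b → b ≠ c → a ≠ c → c ≠ d → b ≠ d → a ≠ d →
      Nc (ρ b c) (ρ c d) * Nc (ρ a b) (ρ b d) = Nc (ρ a b) (ρ b c) * Nc (ρ a c) (ρ c d) := fun {a b c d} p q e f g k => by
    have := jacobi (eV ℤ (ρ a b)) (eV ℤ (ρ b c)) (eV ℤ (ρ c d))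
    rw [Jac, br_e_e (ne_rev_of_Nc (ha q f g).1), br_e_e (ne_rev_of_Nc (ha p q e).1), br_e_e (hn p f k q).2, (hn p f k q).1,
      (ha q f g).2, (ha p q e).2, map_smul, map_smul, LinearMap.smul_apply, br_e_e (ne_rev_of_Nc (ha p g k).1),
      br_e_e (ne_rev_of_Nc (ha e f k).1), (ha p g k).2, (ha e f k).2] at this
    simpa [eV_inr, sub_eq_zero] using congrFun this (Sum.inr (ρ a d))
  let s : Fin (m + 3) → Fin (m + 3) → ℤ := fun a b => if a = 0 ∨ b = 0 ∨ a = b then 1 else Nc (ρ a 0) (ρ 0 b)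
  have s1 : ∀ a b, (s a b : K) ≠ 0 := fun a b => by
    simp only [s]; split_ifs with e
    · simp
    · push Not at e
      intro h0
      simpa [h0] using congrArg (Int.cast : ℤ → K) (n1 e.1 e.2.1.symm e.2.2)
  have s2 : ∀ {a b c}, a ≠ b → b ≠ c → a ≠ c → Nc (ρ a b) (ρ b c) * s a b * s b c = s a c := fun {a b c} p q e => by
    by_cases h1 : a = 0
    · subst h1; simpa [s, p.symm, q, e.symm] using n1 p q e
    by_cases h2 : b = 0
    · subst h2; simp [s, p, q.symm, e]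
    by_cases h3 : c = 0
    · subst h3; simpa [s, p, q, e] using n2 p q e
    · simp only [s, h1, h2, h3, p, q, e, or_self, if_false]
      linear_combination (Nc (ρ a 0) (ρ 0 c)) * n1 (Ne.symm h2) q (Ne.symm h3) -
        (Nc (ρ b 0) (ρ 0 c)) * n3 h1 (Ne.symm h2) p q (Ne.symm h3) e
  have s3 : ∀ {a b c}, a ≠ b → b ≠ c → a ≠ c → ∀ t u : K, ⁅S.x (ρ a b) (s a b * t), S.x (ρ b c) (s b c * u)⁆ =
      S.x (ρ a c) (s a c * (t * u)) := fun {a b c} p q e t u => by
    have h0 := (ha p q e).1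
    have h1 : Nc (ρ b c) (ρ a b) ≠ 0 := by rwa [Nc_antisymm, neg_ne_zero]
    rw [S.commutator_x (ne_of_Nc h1) (ne_rev_of_Nc h1), ChevalleyDatum.commWord, commTerms_one
      (le_antisymm (h.clen (hρ q).1 (hρ p).1) (clen_pos_iff.2 h1)) (h.clen (hρ p).1 (hρ q).1), radd_comm h0, (ha p q e).2,
      ← s2 p q e, Nc_antisymm]
    simp only [List.map_cons, List.map_nil, wordG_cons, wordG_nil, xNat_val, mul_one]
    congr 1; push_cast; ring
  have key := H09.SL_sec (J := G × SpecialLinearGroup (Fin (m + 3)) K) (by omega) (MonoidHom.snd _ _)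
    (fun {a b} h t => (S.x (ρ a b) (s a b * t), transvection h t)) (fun _ _ => rfl)
    (fun h t u => by simp [S.add, mul_add, transvection_add])
    (fun p q e f t u => Commute.prod (S.commute_of_Nc (hn p q e f).2 (hn p q e f).1 _ _) (Subtype.ext (by
      simp [transvection_coe, mul_add, add_mul, single_mul_single_of_ne _ _ _ _ f, single_mul_single_of_ne _ _ _ _ e.symm,
        add_right_comm])))
    (fun {a b c} p q e t u => ⟨t * u, Prod.ext (s3 p q e t u) (H09.transvection_commutator e p q t u)⟩)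
  obtain ⟨ψ, -, hψ⟩ := key
  exact ⟨(MonoidHom.fst _ _).comp ψ, fun a b => Units.mk0 _ (s1 a b), fun a b h t => congrArg Prod.fst (hψ h t)⟩

theorem lp_A [Finite K] (hK : H05.Lev.Four K) (h : AC J j ε) {p : Node D → ℤ} (hp : ∀ i, fv p (sroot (j i)) = dl i 0)
    {w : Perm (Root D)} (hw' : w ∈ RootAut D)
    (hw : (∀ i, w (sroot (j i)) = sroot (j i)) ∨ ∀ i, w (sroot (j i)) = (sroot (j i)).rev) : LP S J w := by
  have : Nonempty (Root D) := ⟨sroot (j 0)⟩
  choose! ρ hρ using fun a b (e : a ≠ b) => h.ex e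
  have hs : ∀ r, InJ J r → ∃ a b, a ≠ b ∧ ρ a b = r := fun r hr => by
    obtain ⟨a, b, e, h1⟩ := h.surj hr
    exact ⟨a, b, e, wt_injective ((hρ a b e).2.1.trans h1.2.1.symm)⟩
  obtain ⟨φ, s, hφ⟩ := exists_phi (S := S) h (hρ _ _)
  have hφ' : ∀ a b (h : a ≠ b) t, S.x (ρ a b) t = φ (transvection h ((s a b)⁻¹ * t)) := fun a b h t => by
    rw [hφ, Units.mul_inv_cancel_left]
  have hi : ∀ a b (h : a ≠ b) t u, φ (transvection h t) = φ (transvection h u) → t = u := fun a b h t u e => by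
    rw [hφ, hφ] at e; exact (s a b).mul_right_inj.1 (x_inj (congrArg S.θ e))
  have hU : ∀ g, φ g ∈ S.US {r | InJ J r} := H09.SL_transvection_induction _ (by rw [map_one]; exact one_mem _)
    (fun a b e t => by rw [hφ]; exact x_mem_US (hρ a b e).1 _) fun a b ha hb => by rw [map_mul]; exact mul_mem ha hb
  have hp1 : ∀ a, p ⬝ᵥ ε a - dl a 0 = p ⬝ᵥ ε 0 - 1 := fun a => by
    induction a using Fin.induction with
    | zero => simp [dl]
    | succ i ih =>
      have := hp i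
      rw [fv, h.wts, dotProduct_sub] at this
      simp only [dl, Fin.succ_ne_zero, if_false, Fin.castSucc_eq_zero_iff] at *; omega
  have hc : ∀ x, ∃ l ∈ S.LJ J, ∀ g, φ (cj x g) = l * φ g * l⁻¹ := fun x => by
    obtain ⟨z, c, e⟩ := GL_dec 0 x
    obtain ⟨y, h1, h2⟩ := exists_h' (S := S) p c.ne_zero
    have : φ.comp (cj (dg (Pi.mulSingle 0 c))) = (MulAut.conj y).toMonoidHom.comp φ := SL_ext fun a b e t => by
      have e1 := hp1 a
      have e2 := hp1 b
      simp only [MonoidHom.comp_apply, cj_tv, hφ, MulEquiv.coe_toMonoidHom, MulAut.conj_apply, h2]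
      rw [fv, (hρ a b e).2.1, dotProduct_sub, show p ⬝ᵥ ε a - p ⬝ᵥ ε b = dl a 0 - dl b 0 by omega, mul_left_comm, zpow_sub₀ c.ne_zero]
      congr 2
      simp only [dl, Pi.mulSingle_apply]; split_ifs <;> simp
    refine ⟨φ z * y, mul_mem (mem_sup_right (hU z)) (mem_sup_left h1), fun g => ?_⟩
    rw [e, map_mul, map_mul, map_inv, ← MonoidHom.comp_apply φ (cj _), this]
    simp [mul_assoc]
  have hr : ∀ g g' : SpecialLinearGroup (Fin (m + 3)) K, Rg g.1 → Rg g'.1 → ∃ l ∈ S.LJ J, φ g' = l * φ g * l⁻¹ := fun g g' a b => by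
    obtain ⟨x, e⟩ := a.isConj b
    obtain ⟨l, h1, h2⟩ := hc x
    exact ⟨l, h1, by rw [← h2]; exact congrArg φ (Subtype.ext e)⟩
  obtain ⟨g0, -, h0, -⟩ := lev hK (transvection (Fin.castSucc_lt_succ (i := 0)).ne (1 : K)) fun a e => by
    simpa [transvection_coe] using congrFun (congrFun e 0) 1
  have h0' : Rg (g0⁻¹).1 := h0.inv (congrArg Subtype.val (inv_mul_cancel g0))
  have hpos : ∀ b, b ≠ 0 → IsPos (ρ 0 b) := fun b hb => by
    have : StrictAnti fun a => phiV D ⬝ᵥ ε a := Fin.strictAnti_iff_succ_lt.2 fun i => by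
      have := isPos_iff_phi.1 (isPos_sroot (j i))
      rwa [phi, h.wts, dotProduct_sub, sub_pos] at this
    rw [isPos_iff_phi, phi, (hρ _ _ hb.symm).2.1, dotProduct_sub, sub_pos]
    exact this (Fin.pos_iff_ne_zero.2 hb)
  refine ⟨φ g0, h0.pow.imp fun k e => by rw [← map_pow, show g0 ^ _ = 1 from Subtype.ext e, map_one], hU _, fun a ha b hb => ?_,
    fun z ⟨χ, _, hz⟩ => ?_⟩
  · have k1 : S.US {r | IsPos r ∧ InJ J r} ≤ (St 0).map φ := US_le.2 fun r hr t => by
      obtain ⟨a, b, e, rfl⟩ := hs r hr.2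
      refine ⟨_, tv_mem_St e ?_ _, (hφ' a b e t).symm⟩
      rintro rfl
      exact not_isPos_rev hr.1 ((hρ _ _ e).rev (hρ _ _ e.symm) ▸ hpos _ e)
    have k2 : S.US {r | ¬ IsPos r ∧ InJ J r} ≤ ((St 0).comap tau).map φ := US_le.2 fun r hr t => by
      obtain ⟨a, b, e, rfl⟩ := hs r hr.2
      refine ⟨_, ?_, (hφ' a b e t).symm⟩
      rw [SetLike.mem_coe, mem_comap, tau_tv]
      exact tv_mem_St _ (by rintro rfl; exact hr.1 (hpos _ e.symm)) _
    obtain ⟨A, hA, rfl⟩ := k1 ha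
    obtain ⟨B, hB, rfl⟩ := k2 hb
    rw [← map_mul]
    by_cases e : ∀ a : K, (A * B).1 ≠ a • 1
    · obtain ⟨L, U, h1, h2, e⟩ := lev hK _ e
      obtain ⟨l, h3, h4⟩ := hr _ _ h0 h1
      obtain ⟨l', h5, h6⟩ := hr _ _ h0 h2
      exact ⟨l, h3, l', h5, by rw [e, map_mul, h4, h6]⟩
    · push Not at e
      obtain ⟨l, h3, h4⟩ := hr _ _ h0 h0'
      exact ⟨1, one_mem _, l, h3, by rw [eq_one_of_St hA hB e.choose_spec, ← h4]; simp⟩
  · rcases hw with hw | hw
    · have h1 : ∀ r, InJ J r → w r = r := fun r => rootJ_induction (C := fun r => w r = r)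
        (fun i hi => by obtain ⟨a, rfl⟩ := (h.rng i).1 hi; exact hw a) fun i hi s _ e => by
          obtain ⟨a, rfl⟩ := (h.rng i).1 hi; rw [RootAut.refl hw', hw, e]
      obtain ⟨d, e⟩ := hom_diag (f := (MulAut.conj z).toMonoidHom.comp φ) hi fun a b e => ⟨χ (ρ a b), fun t => by
        simp only [MonoidHom.comp_apply, hφ, MulEquiv.coe_toMonoidHom, MulAut.conj_apply, hz, h1 _ (hρ a b e).1, mul_left_comm]⟩
      exact (hc (dg d)).imp fun l hl => ⟨hl.1, (DFunLike.congr_fun e g0).trans (hl.2 g0)⟩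
    · have h1 : ∀ r, InJ J r → w r = r.rev := fun r => rootJ_induction (C := fun r => w r = r.rev)
        (fun i hi => by obtain ⟨a, rfl⟩ := (h.rng i).1 hi; exact hw a) fun i hi s _ e => by
          obtain ⟨a, rfl⟩ := (h.rng i).1 hi; rw [RootAut.refl hw', hw, e, refl_rev_left, refl_rev_right]
      obtain ⟨d, e⟩ := hom_diag (f := ((MulAut.conj z).toMonoidHom.comp φ).comp tau) hi fun a b e =>
        ⟨-((s a b)⁻¹ * χ (ρ b a) * s b a), fun t => by
          simp only [MonoidHom.comp_apply, tau_tv, hφ, MulEquiv.coe_toMonoidHom, MulAut.conj_apply, hz, h1 _ (hρ b a e.symm).1,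
            (hρ _ _ e.symm).rev (hρ _ _ e)]
          congr 1; simp [mul_assoc]⟩
      have e1 : tau (tau g0) = g0 := DFunLike.congr_fun (SL_ext (f := tau.comp tau) (f' := MonoidHom.id _) fun a b e t => by
        simp [tau_tv]) g0
      obtain ⟨l, h2, h3⟩ := hr g0 (cj (dg d) (tau g0)) h0 (h0'.transpose.conj _)
      exact ⟨l, h2, by simpa [e1, h3] using DFunLike.congr_fun e (tau g0)⟩

end H11.EG
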