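import Mathlib
import Cfsg.Agent.H11.EG4
import Cfsg.Agent.H11.TwBase
import Cfsg.Agent.H11.CertAll

/-! Class squares in Chevalley groups (namespace `H11.EG`): `Sq`, `sq_gen`, `sq_orth`, the exceptional types, `PSL₂`. -/

namespace H11.EG
open Cfsg Cfsg.Lie StSys Equiv Subgroup Matrix Matrix.SpecialLinearGroup

/-- `G` is the square of a conjugacy class -/
def Sq (G : Type*) [Group G] : Prop := ∃ c : G, ∀ g : G, ∃ x y : G, g = (x * c * x⁻¹) * (y * c * y⁻¹)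

theorem Sq.of_equiv {G H : Type*} [Group G] [Group H] (h : Sq G) (e : H ≃* G) : Sq H := by
  obtain ⟨c, h⟩ := h
  refine ⟨e.symm c, fun g => ?_⟩
  obtain ⟨x, y, h⟩ := h (e g)
  exact ⟨e.symm x, e.symm y, e.injective (by simpa using h)⟩

theorem exists_gen {K : Type*} [Field K] [Finite K] (hK : 9 ≤ Nat.card K) : ∃ g : Kˣ, ∀ n : ℤ, -8 < n → n < 8 → g ^ n = 1 → n = 0 := by
  obtain ⟨g, hg⟩ := IsCyclic.exists_generator (α := Kˣ)
  have h1 := orderOf_eq_card_of_forall_mem_zpowers hg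
  rw [Nat.card_units] at h1
  refine ⟨g, fun n a b e => Int.eq_zero_of_abs_lt_dvd (orderOf_dvd_iff_zpow_eq_one.2 e) ?_⟩
  rw [abs_lt]; omega

theorem four {K : Type*} [Field K] [Finite K] (hK : 9 ≤ Nat.card K) : H05.Lev.Four K :=
  H05.Lev.four_of_card (by rw [← Nat.cast_card]; exact_mod_cast (by omega : 4 ≤ Nat.card K))

variable {D : ChevalleyDatum} [Good D] {J : Set (Node D)} {γ : Node D → ℤ}

theorem dom_iff (h0 : ∀ i, 0 ≤ fv γ (sroot i)) (h1 : ∀ i, fv γ (sroot i) = 0 ↔ i ∈ J) (r : Root D) : fv γ r = 0 ↔ InJ J r := by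
  have key : ∀ r : Root D, IsPos r → 0 ≤ fv γ r ∧ (fv γ r = 0 → InJ J r) := fun r => by
    induction r using WellFoundedLT.induction with
    | ind r ih =>
      intro hr
      by_cases h : ∀ i, r ≠ sroot i
      · obtain ⟨i, s, a, b, c, rfl⟩ := exists_decomp hr h
        have e : ∀ ψ, fv ψ (radd (sroot i) s) = fv ψ (sroot i) + fv ψ s := fun ψ => by simp [fv, wt_radd c]
        have := h0 i
        obtain ⟨h2, h3⟩ := ih s b a
        refine ⟨by rw [e]; omega, fun h4 => ?_⟩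
        rw [e] at h4
        rw [← fv_psiJ_eq_zero_iff, e, fv_psiJ_eq_zero_iff.2 (h3 (by omega)), fv_psiJ_eq_zero_iff.2 (inJ_sroot.2 ((h1 i).1 (by omega))),
          add_zero]
      · push Not at h
        obtain ⟨i, rfl⟩ := h
        exact ⟨h0 i, fun e => inJ_sroot.2 ((h1 i).1 e)⟩
  refine ⟨fun e => ?_, rootJ_induction (C := fun r => fv γ r = 0) (fun i => (h1 i).2) fun i hi s _ e => ?_⟩
  · rcases isPos_or r with h | h
    · exact (key r h).2 e
    · exact inJ_rev.1 ((key _ h).2 (by simp [e]))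
  · have := (h1 i).2 hi
    rw [fv] at *
    rw [wt_refl, dotProduct_sub, dotProduct_smul, e, this]; simp

theorem exists_orth {ι : Type*} [Fintype ι] (β : ι → Root D) (h : ∀ a b, a ≠ b → pair (β a) (β b) = 0) :
    ∃ w : Weyl D, ∀ s, wt (w.1 s) = wt s - ∑ a, pair (β a) s • wt (β a) := by
  classical
  induction (Finset.univ : Finset ι) using Finset.induction_on with
  | empty => exact ⟨1, by simp⟩
  | insert a T ha ih =>
    obtain ⟨w, hw⟩ := ih
    refine ⟨⟨_, sref_mem_Weyl (β a)⟩ * w, fun s => ?_⟩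
    change wt (refl (β a) (w.1 s)) = _
    rw [wt_refl, pair, hw, Finset.sum_insert ha, dotProduct_sub, dotProduct_sum, Finset.sum_eq_zero (f := fun i => _ ⬝ᵥ _) fun b hb => by
      rw [dotProduct_smul, ← pair, h a b (by rintro rfl; exact ha hb), smul_zero], ← pair]
    module

variable [Cert D] {K : Type*} [Field K] [Finite K] (hK : 9 ≤ Nat.card K)
include hK

theorem sq_gen (h0 : ∀ i, 0 ≤ fv γ (sroot i)) (h1 : ∀ i, fv γ (sroot i) = 0 ↔ i ∈ J) (h2 : ∀ r, fv γ r < 8) {w : Weyl D}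
    (hw : ∀ r, fv γ (w.1 r) = - fv γ r) (hL : LP (grpSys D K) J w.1) : Sq (D.group K) := by
  obtain ⟨g, hg⟩ := exists_gen hK
  refine sq_of (c := fun i => g ^ γ i) (four hK) (grpSys_grp D K) (grpSys_θ_injective D K) (fun r => ?_)
    (fun r => by rw [chiOf_zpow, chiOf_zpow, hw, _root_.zpow_neg]) hL
  have := h2 r.rev
  rw [fv_rev] at this
  rw [chiOf_zpow, ← dom_iff h0 h1]
  exact ⟨hg _ (by omega) (h2 r), fun e => by rw [e, zpow_zero]⟩

theorem sq_orth (γ : Node D → ℤ) {ι : Type*} [Fintype ι] (β : ι → Root D) (h0 : ∀ i, 0 ≤ fv γ (sroot i))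
    (h1 : ∀ i, fv γ (sroot i) = 0 ↔ i ∈ J) (h2 : ∀ r, fv γ r < 8) (hβ : ∀ a b, a ≠ b → pair (β a) (β b) = 0)
    (hγ : ∑ a, fv γ (β a) • cor (β a) = γ + γ)
    (hL : ∀ w : Weyl D, (∀ s, wt (w.1 s) = wt s - ∑ a, pair (β a) s • wt (β a)) → LP (grpSys D K) J w.1) : Sq (D.group K) := by
  obtain ⟨w, hw⟩ := exists_orth β hβ
  refine sq_gen hK h0 h1 h2 (fun r => ?_) (hL w hw)
  have := congrArg (· ⬝ᵥ wt r) hγ
  simp only [sum_dotProduct, smul_dotProduct, add_dotProduct, smul_eq_mul] at this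
  simp only [fv, hw, dotProduct_sub, dotProduct_sum, dotProduct_smul, smul_eq_mul, pair, mul_comm (cor _ ⬝ᵥ _)] at this ⊢
  omega

theorem sq_chain (γ p : List ℤ) {k m : ℕ} (β : Fin k → Root D) (j : Fin (m + 2) → Node D) (ε : Fin (m + 3) → List ℤ)
    (h : (∀ i : Node D, 0 ≤ fv (γ.getD · 0) (sroot i)) ∧ (∀ i : Node D, fv (γ.getD · 0) (sroot i) = 0 ↔ ∃ a, j a = i) ∧
      (∀ r : Root D, fv (γ.getD · 0) r < 8) ∧ (∀ a b, a ≠ b → pair (β a) (β b) = 0) ∧
      ∑ a, fv (γ.getD · 0) (β a) • cor (β a) = (fun i : Node D => γ.getD i 0) + (fun i : Node D => γ.getD i 0) ∧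
      (∀ i, wt (sroot (j i)) = (fun k : Node D => (ε i.castSucc).getD k 0) - fun k : Node D => (ε i.succ).getD k 0) ∧
      (∀ a b i, (ε a).getD (j i) 0 - (ε b).getD (j i) 0 = dl i.castSucc a - dl i.castSucc b - (dl i.succ a - dl i.succ b)) ∧
      (∀ i, fv (p.getD · 0) (sroot (j i)) = dl i 0) ∧
      ((∀ i, ∑ a, pair (β a) (sroot (j i)) • wt (β a) = 0) ∨
        ∀ i, ∑ a, pair (β a) (sroot (j i)) • wt (β a) = wt (sroot (j i)) + wt (sroot (j i)))) : Sq (D.group K) := by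
  obtain ⟨h0, h1, h2, h3, h4, h5, h6, h7, h8⟩ := h
  exact sq_orth hK (J := Set.range j) _ β h0 h1 h2 h3 h4 fun w hw => lp_A (ε := fun a i => (ε a).getD i 0) (four hK)
    ⟨fun _ => Iff.rfl, h5, h6⟩ h7 (Weyl.aut w) (h8.imp (fun e i => wt_injective (by rw [hw, e, sub_zero]))
      fun e i => wt_injective (by rw [hw, e, wt_rev, sub_add_cancel_left]))

omit [Good D] [Cert D]

theorem sqG2 : Sq (chevG2.group K) :=
  sq_orth hK (J := ∅) ([3, 5].getD · 0) ![rt _ 11, rt _ 7] (by decide +kernel) (by simp only [Set.mem_empty_iff_false]; decide +kernel)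
    (by decide +kernel) (by decide +kernel) (by decide +kernel) fun _ _ => lp_empty _

theorem sqF4 : Sq (chevF4.group K) :=
  sq_chain hK [3, 6, 9, 5] [-7, -15, -23, -13] ![rt _ 47, rt _ 41, rt _ 30, rt _ 25] ![nd _ 0, nd _ 1]
    ![[], [-2, 1, 0, 0], [-1, -1, 1, 0]] (by decide +kernel)

theorem sqE6 : Sq (chevE6.group K) :=
  sq_chain hK [3, 4, 5, 7, 5, 3] [-6, -8, -9, -13, -9, -5] ![rt _ 71, rt _ 60] ![nd _ 2, nd _ 3, nd _ 4]
    ![[], [1, 0, -2, 1, 0, 0], [1, 1, -1, -1, 1, 0], [1, 1, -1, 0, -1, 1]] (by decide +kernel)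

theorem sqE7 : Sq (chevE7.group K) :=
  sq_chain hK [4, 7, 8, 12, 9, 6, 3] [-2, -5, -5, -8, -6, -4, -2] ![rt _ 125, rt _ 92, rt _ 87, rt _ 78, rt _ 73, rt _ 66, rt _ 63]
    ![nd _ 0, nd _ 2, nd _ 3, nd _ 4, nd _ 5, nd _ 6] ![[], [-2, 0, 1], [-1, 0, -1, 1], [-1, 1, 0, -1, 1], [-1, 1, 0, 0, -1, 1],
      [-1, 1, 0, 0, 0, -1, 1], [-1, 1, 0, 0, 0, 0, -1]] (by decide +kernel)

theorem sqE8 : Sq (chevE8.group K) :=
  sq_chain hK [5, 8, 10, 15, 12, 9, 6, 3] [-11, -19, -23, -35, -28, -21, -14, -7]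
    ![rt _ 239, rt _ 226, rt _ 159, rt _ 152, rt _ 141, rt _ 135, rt _ 126, rt _ 121]
    ![nd _ 0, nd _ 2, nd _ 3, nd _ 4, nd _ 5, nd _ 6, nd _ 7] ![[], [-2, 0, 1], [-1, 0, -1, 1], [-1, 1, 0, -1, 1], [-1, 1, 0, 0, -1, 1],
      [-1, 1, 0, 0, 0, -1, 1], [-1, 1, 0, 0, 0, 0, -1, 1], [-1, 1, 0, 0, 0, 0, 0, -1]] (by decide +kernel)

theorem sqL2 : Sq (ProjectiveSpecialLinearGroup (Fin 2) K) := by
  obtain ⟨g, hg⟩ := exists_gen hK
  have h0 : (g : K) ≠ 0 := g.ne_zero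
  have h2 : (g : K) ^ 2 - 1 ≠ 0 := fun e => by
    have := hg 2 (by omega) (by omega) (Units.ext (by simpa [sub_eq_zero, zpow_two, pow_two] using e))
    omega
  let L : K → SpecialLinearGroup (Fin 2) K := transvection one_ne_zero
  let U : K → SpecialLinearGroup (Fin 2) K := transvection zero_ne_one
  let h : SpecialLinearGroup (Fin 2) K := diag2 g h0
  let n : SpecialLinearGroup (Fin 2) K := U 1 * L (-1) * U 1
  let P : SpecialLinearGroup (Fin 2) K → Prop := fun z => ∃ x y, IsConj h x ∧ IsConj h y ∧ z = x * y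
  have hn : n * h = h⁻¹ * n := by
    rw [eq_inv_mul_iff_mul_eq]; ext i j
    fin_cases i <;> fin_cases j <;> simp [n, h, L, U, transvection_coe, diag2_coe', mul_apply, Fin.sum_univ_two, h0]
  have hn' : IsConj h h⁻¹ := isConj_iff.2 ⟨n, by rw [hn, mul_inv_cancel_right]⟩
  have hP : ∀ z x, P (z⁻¹ * x * z) → P x := fun z x ⟨a, b, ha, hb, e⟩ =>
    ⟨z * a * z⁻¹, z * b * z⁻¹, ha.trans (isConj_iff.2 ⟨z, rfl⟩), hb.trans (isConj_iff.2 ⟨z, rfl⟩), by
      rw [conj_mul, ← e]; group⟩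
  have h3 : ∀ c b, P (L c * U b) := fun c b => by
    refine ⟨L c * h, h⁻¹ * U b, isConj_iff.2 ⟨L (c * g ^ 2 / (g ^ 2 - 1)), ?_⟩,
      hn'.trans (isConj_iff.2 ⟨U (b / (g ^ 2 - 1)), ?_⟩), by group⟩
    · rw [mul_inv_eq_iff_eq_mul]; ext i j
      fin_cases i <;> fin_cases j <;> simp [h, L, transvection_coe, diag2_coe', mul_apply, Fin.sum_univ_two]
      field_simp; ring
    · rw [mul_inv_eq_iff_eq_mul, mul_inv_eq_iff_eq_mul, mul_assoc, mul_assoc, eq_inv_mul_iff_mul_eq]; ext i j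
      fin_cases i <;> fin_cases j <;> simp [h, U, transvection_coe, diag2_coe', mul_apply, Fin.sum_univ_two]
      field_simp; ring
  have h4 : ∀ z : SpecialLinearGroup (Fin 2) K, z 0 1 ≠ 0 → P z := fun z hz => by
    have hd := z.2
    rw [det_fin_two] at hd
    obtain ⟨a, b, c, this⟩ : ∃ a b c, z = L b * U c * L a := by
      refine ⟨(z 0 0 - 1) / z 0 1, (z 1 1 - 1) / z 0 1, z 0 1, ?_⟩
      ext i j
      fin_cases i <;> fin_cases j <;> simp [L, U, transvection_coe, mul_apply, Fin.sum_univ_two] <;> field_simp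
      · ring
      · linear_combination -hd
      · ring
    refine hP (L a)⁻¹ _ ?_
    rw [inv_inv, this, ← mul_assoc, ← mul_assoc, mul_inv_cancel_right, ← transvection_add]
    exact h3 _ _
  refine ⟨h, fun z => ?_⟩
  obtain ⟨z, rfl⟩ := QuotientGroup.mk_surjective z
  suffices ∃ y, P y ∧ (z : ProjectiveSpecialLinearGroup (Fin 2) K) = y by
    obtain ⟨_, ⟨a, b, ha, hb, rfl⟩, e⟩ := this
    obtain ⟨x, rfl⟩ := isConj_iff.1 ha
    obtain ⟨y, rfl⟩ := isConj_iff.1 hb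
    exact ⟨x, y, e⟩
  by_cases c1 : z 0 1 = 0
  by_cases c2 : z 1 0 = 0
  by_cases c3 : z 0 0 = z 1 1
  · refine ⟨1, ⟨_, _, IsConj.refl _, hn', by simp⟩, (QuotientGroup.eq_one_iff _).2 (mem_center_iff.2 ⟨z 0 0, ?_, ?_⟩)⟩
    · have hd := z.2
      rw [det_fin_two] at hd
      simpa [c1, c3, pow_two] using hd
    · ext i j; fin_cases i <;> fin_cases j <;> simp [c1, c2, c3]
  · refine ⟨z, hP (U 1) _ (h4 _ ?_), rfl⟩
    simpa [U, transvection_inv, transvection_coe, mul_apply, Fin.sum_univ_two, c1, c2, ← sub_eq_add_neg, sub_eq_zero] using c3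
  · refine ⟨z, hP n _ (h4 _ ?_), rfl⟩
    simpa [n, U, L, transvection_inv, transvection_coe, mul_apply, Fin.sum_univ_two] using c2
  · exact ⟨z, h4 z c1, rfl⟩

end H11.EG
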