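import Cfsg.Agent.H11.Mult

/-! Central extensions whose kernel has no elements of order `p`: canonical lifts `PF.hat` of `p`-subgroups, `PF.lifts`. -/

namespace H11
open Cfsg Cfsg.Lie StSys

variable {E G : Type*} [Group E] [Group G]

/-- `p`-elements -/
def PE (p : ℕ) (g : G) : Prop := ∃ k, g ^ p ^ k = 1

theorem PE.conj {p : ℕ} {g : G} (h : PE p g) (a : G) : PE p (a * g * a⁻¹) := h.imp fun k e => by rw [conj_pow, e]; simp

theorem PE.of_mem {p : ℕ} {P : Subgroup G} (hP : IsPGroup p P) {g : G} (h : g ∈ P) : PE p g :=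
  (hP ⟨g, h⟩).imp fun _ e => congrArg Subtype.val e

theorem exists_plift [Finite E] {p : ℕ} [Fact p.Prime] (κ : E →* G) {P : Subgroup G} (hP : IsPGroup p P) :
    ∃ Q : Subgroup E, IsPGroup p Q ∧ Q ≤ P.comap κ ∧ ∀ e, κ e ∈ P → ∃ a ∈ Q, κ a = κ e := by
  obtain ⟨Q⟩ : Nonempty (Sylow p (P.comap κ)) := inferInstance
  let f : P.comap κ →* ↥(P ⊓ κ.range) := (κ.comp (P.comap κ).subtype).codRestrict _ fun x => ⟨x.2, _, rfl⟩
  have hf : Function.Surjective f := fun ⟨_, h, e, he⟩ => ⟨⟨e, show κ e ∈ P from he ▸ h⟩, Subtype.ext he⟩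
  have h1 := (Q.mapSurjective hf).is_maximal' ((hP.to_inf_left (K := κ.range)).to_subgroup ⊤) le_top
  refine ⟨_, Q.isPGroup'.map (P.comap κ).subtype, Subgroup.map_subtype_le _, fun e he => ?_⟩
  obtain ⟨a, ha, e'⟩ := h1.le (Subgroup.mem_top (f ⟨e, he⟩))
  exact ⟨a, ⟨a, ha, rfl⟩, congrArg Subtype.val e'⟩

/-- central kernel without elements of order `p` -/
structure PF (p : ℕ) (κ : E →* G) : Prop where
  cent : κ.ker ≤ Subgroup.center E
  pf : ∀ z, κ z = 1 → z ^ p = 1 → z = 1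

namespace PF
variable {p : ℕ} {κ : E →* G} (C : PF p κ)
include C

theorem eq_one {z : E} (h : κ z = 1) (hz : PE p z) : z = 1 := by
  obtain ⟨k, e⟩ := hz
  induction k with
  | zero => simpa using e
  | succ k ih => exact ih (C.pf _ (by simp [h]) (by rw [← pow_mul, ← pow_succ, e]))

theorem uniq {a b : E} (e : κ a = κ b) (ha : PE p a) (hb : PE p b) : a = b := by
  obtain ⟨k, ha⟩ := ha
  obtain ⟨l, hb⟩ := hb
  have h : κ (a⁻¹ * b) = 1 := by simp [e]
  have := Commute.mul_pow (Subgroup.mem_center_iff.1 (C.cent h) a) (p ^ (k + l))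
  rw [mul_inv_cancel_left, pow_add, pow_mul a, ha, mul_comm, pow_mul b, hb, one_pow, one_pow, one_mul, ← pow_add] at this
  exact inv_mul_eq_one.1 (C.eq_one h ⟨_, this.symm⟩)

variable [Finite E] [Fact p.Prime]

/-- the canonical lift of a `p`-subgroup -/
def hat {P : Subgroup G} (hP : IsPGroup p P) : Subgroup E where
  carrier := {e | κ e ∈ P ∧ PE p e}
  one_mem' := ⟨by simp, 0, by simp⟩
  inv_mem' h := ⟨by simpa using h.1, h.2.imp fun k e => by simp [e]⟩
  mul_mem' {a b} ha hb := ⟨by simpa using mul_mem ha.1 hb.1, by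
    obtain ⟨Q, h1, -, h2⟩ := exists_plift κ hP
    obtain ⟨a', h3, e⟩ := h2 a ha.1
    obtain ⟨b', h4, e'⟩ := h2 b hb.1
    rw [← C.uniq e (.of_mem h1 h3) ha.2, ← C.uniq e' (.of_mem h1 h4) hb.2]
    exact .of_mem h1 (mul_mem h3 h4)⟩

omit C in
theorem exists_pe {P : Subgroup G} (hP : IsPGroup p P) {g : G} (h : g ∈ P) (h' : g ∈ κ.range) : ∃ a, κ a = g ∧ PE p a :=
  let ⟨_, h1, _, h2⟩ := exists_plift κ hP
  let ⟨e, he⟩ := h'
  let ⟨a, h3, e'⟩ := h2 e (he ▸ h)
  ⟨a, e'.trans he, .of_mem h1 h3⟩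

variable {D : ChevalleyDatum} [Good D] {K : Type*} [Field K] [Finite K] [CharP K p]

theorem lifts (hs : Function.Surjective κ) (S : StSys D K G) : Lifts κ S := by
  have h0 := fun φ => isPGroup_US (S := S) p (closed_pos φ) fun _ h => h
  have : ∀ r t, ∃ a, κ a = S.x r t ∧ PE p a := fun r t =>
    let ⟨φ, h, _⟩ := exists_fv_pos_pos (ne_rev r); exists_pe (h0 φ) (x_mem_US h t) (hs _)
  choose ψ h1 h2 using this
  have h3 : ∀ φ r t, 0 < fv φ r → ψ r t ∈ C.hat (h0 φ) := fun φ r t h => ⟨h1 r t ▸ x_mem_US h t, h2 r t⟩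
  refine ⟨ψ, h1, fun r t u => ?_, fun r s a b t u => ?_⟩
  · obtain ⟨φ, h, -⟩ := exists_fv_pos_pos (ne_rev r)
    exact C.uniq (by simp [h1, S.add]) (mul_mem (h3 φ r t h) (h3 φ r u h)).2 (h2 _ _)
  · obtain ⟨φ, c, d⟩ := exists_fv_pos_pos b
    refine C.uniq ?_ (mul_mem (h3 φ _ _ d) (h3 φ _ _ c)).2 (mul_mem (mul_mem (h3 φ _ _ c) (h3 φ _ _ d))
      (AS_le.2 (fun v hv => (h3 φ v · hv)) (commWord_mem_AS (T := {r | 0 < fv φ r}) (fun v i j hi hj e => ?_) t u))).2
    · simp only [map_mul, map_wordG, h1]; exact S.comm r s a b t u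
    · have := fv_lin φ e; show 0 < fv φ v; nlinarith

end PF

theorem PF.lifts' {p : ℕ} {κ : E →* G} (C : PF p κ) [Fact p.Prime] {D : ChevalleyDatum} [Good D] {K : Type*} [Field K] [Finite K]
    [CharP K p] [Finite G] (hs : Function.Surjective κ) (hp : commutator G = ⊤) (S : StSys D K G) : Lifts κ S := by
  have := H16.finite_commutator_of_central C.cent
  obtain ⟨ψ, h1, h2⟩ := PF.lifts (p := p) (κ := κ.comp (commutator E).subtype) ⟨fun z h => Subgroup.mem_center_iff.2 fun a =>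
    Subtype.ext (Subgroup.mem_center_iff.1 (C.cent h) a), fun z h e => Subtype.ext (C.pf _ h (congrArg Subtype.val e))⟩ (fun g => by
      obtain ⟨e, he, rfl⟩ := ((H16.map_commutator_eq (ξ := MonoidHom.id G) (η := κ) (by simp) hs).trans hp).ge (Subgroup.mem_top g)
      exact ⟨⟨e, he⟩, rfl⟩) S
  exact ⟨_, h1, h2.map (commutator E).subtype⟩

end H11
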