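import Cfsg.Agent.H28.Lp3
import Cfsg.Agent.H25.LpO
import Cfsg.Agent.H21.LpS

/-! Local subgroups of `²E₆(2)` for large primes, the assembly: `H11.LpM.m : H28.Lp.MStmt`. -/

set_option autoImplicit false

namespace H11.LpM
open H11 Cfsg Cfsg.Lie StSys H28.Tw H28.Lp Subgroup

theorem card1 {H : Type*} [Group H] {x : H} {p : ℕ} (hp : p.Prime) (h : x ^ p = 1) (h1 : x ≠ 1) :
    Nat.card (closure {x, x} : Subgroup H) = p := by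
  have := Fact.mk hp
  rw [Set.pair_eq_singleton, ← zpowers_eq_closure, Nat.card_zpowers, orderOf_eq_prime h h1]

theorem card2 {H : Type*} [Group H] {x y : H} (c : Commute x y) (hx : x ^ 7 = 1) (hy : y ^ 7 = 1) (x1 : x ≠ 1) (y1 : y ≠ 1)
    (h : ∀ i j : ℤ, x ^ i = y ^ j → x ^ i = 1) : Nat.card (closure {x, y} : Subgroup H) = 49 := by
  have : Fact (Nat.Prime 7) := ⟨by norm_num⟩
  have cm : ∀ (a : zpowers x) (b : zpowers y), Commute ((zpowers x).subtype a) ((zpowers y).subtype b) := by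
    rintro ⟨_, i, rfl⟩ ⟨_, j, rfl⟩; exact c.zpow_zpow i j
  have hi := (MonoidHom.noncommCoprod_injective _ _ cm).2 ⟨subtype_injective _, subtype_injective _, by
    rw [range_subtype, range_subtype, disjoint_def]
    rintro _ ⟨i, rfl⟩ ⟨j, e⟩
    exact h i j e.symm⟩
  have := Nat.card_congr (MonoidHom.ofInjective hi).toEquiv
  rw [MonoidHom.noncommCoprod_range, range_subtype, range_subtype, Nat.card_prod, Nat.card_zpowers, Nat.card_zpowers,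
    orderOf_eq_prime hx x1, orderOf_eq_prime hy y1, zpowers_eq_closure, zpowers_eq_closure, ← Subgroup.closure_union] at this
  exact this.symm

theorem Z_eq {M : Type*} [CommGroup M] {ζ : M} {p : ℕ} (h0 : IsPrimitiveRoot ζ p) {n m : Node chevE6 → ℤ} :
    Z ζ n = Z ζ m ↔ ∀ j, (p : ℤ) ∣ n j - m j :=
  funext_iff.trans (forall_congr' fun j => by rw [Z, Z, ← mul_inv_eq_one, ← zpow_sub, h0.zpow_eq_one_iff_dvd])

theorem m.{u} : MStmt.{u} := fun hG K _ _ hK => by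
  obtain ⟨Ω, _, _, _, _, σ, π, T, hσ, _, hπ, hk⟩ := twA K hK
  obtain ⟨hs, hc⟩ := H25.LpO.o K hK
  have hinj : Function.Injective (H28.Lp.tor Ω) := T.inj
  have inj : ∀ (g : fixS σ) (p : ℕ), p.Coprime 3 → g ^ p = 1 → π g = 1 → g = 1 := fun g p hp e q => by
    obtain ⟨c, h1, h2⟩ := (center_eq_map hMul_sg (sgSys_grp chevE6 Ω)).le ((hk g).1 q)
    have : g ^ 3 = 1 := Subtype.ext (by rw [coe_pow, ← h2, ← map_pow, cart3 h1, map_one]; rfl)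
    rw [← pow_one g, ← hp.gcd_eq_one]; exact pow_gcd_eq_one.2 ⟨e, this⟩
  have prim : ∀ p : ℕ, p.Prime → p ≠ 2 → ∃ ζ : Ωˣ, IsPrimitiveRoot ζ p := fun p hp h2 => by
    have : NeZero (p : Ω) := ⟨fun q => h2 ((Nat.prime_dvd_prime_iff_eq Nat.prime_two hp).1 ((CharP.cast_eq_zero_iff Ω 2 p).1 q)).symm⟩
    obtain ⟨z0, hz⟩ := HasEnoughRootsOfUnity.exists_primitiveRoot Ω p
    exact ⟨_, hz.isUnit_unit hp.ne_zero⟩
  have ex : ∀ D : Dat, D.Ok → ∀ z : GG Ω, (∀ y, y ∈ fixS (MulAut.conj (nl Ω D.lw).1 * σ) ↔ z * y * z⁻¹ ∈ fixS σ) → ∀ ζ : Ωˣ,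
      IsPrimitiveRoot ζ D.p → ∀ a ∈ [D.a1, D.a2], ∃ x : fixS σ, z⁻¹ * x.1 * z = H28.Lp.tor Ω (Z ζ (vec a)) := fun D h z hz ζ h0 a ha => by
    refine ⟨⟨_, (hz (H28.Lp.tor Ω (Z ζ (vec a)))).1 ((T.conj (nl Ω D.lw)).mem_fix.2 ?_)⟩, by simp [mul_assoc]⟩
    rw [mact_Z, eq_comm, Z_eq h0, show corM _ = .of fun i j : Node chevE6 => fastE6.cor (act D.lw (sm i)) j from
      Matrix.ext fun i j => by rw [corM, Matrix.of_apply, Matrix.of_apply, agreeE6.cor_eq, ← sm_eq, ← nl_act Ω]]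
    exact h.2.2.2.2.2.2.2.2.2 a ha
  have pw : ∀ {z : GG Ω} {ζ : Ωˣ} {x : fixS σ} {n}, z⁻¹ * x.1 * z = H28.Lp.tor Ω (Z ζ n) → ∀ i : ℤ,
      z⁻¹ * (x ^ i).1 * z = H28.Lp.tor Ω (Z ζ (i • n)) := fun {z ζ x n} h i => by
    rw [show Z ζ (i • n) = Z ζ n ^ i from funext fun j => by simp [Z, ← zpow_mul, mul_comm], map_zpow, ← h, coe_zpow,
      show z⁻¹ * x.1 * z = z⁻¹ * x.1 * z⁻¹⁻¹ by simp, conj_zpow, inv_inv]
  have eq : ∀ {z : GG Ω} {ζ : Ωˣ} {p} {x y : fixS σ} {n m}, IsPrimitiveRoot ζ p → z⁻¹ * x.1 * z = H28.Lp.tor Ω (Z ζ n) →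
      z⁻¹ * y.1 * z = H28.Lp.tor Ω (Z ζ m) → (x = y ↔ ∀ j, (p : ℤ) ∣ n j - m j) := fun h0 h h' => by
    rw [← Z_eq h0, ← hinj.eq_iff, ← h, ← h', mul_left_inj, mul_right_inj, Subtype.ext_iff]
  have o1 : ∀ (z : GG Ω) (ζ : Ωˣ), z⁻¹ * (1 : fixS σ).1 * z = H28.Lp.tor Ω (Z ζ 0) := fun z ζ => by
    rw [show Z ζ 0 = 1 from funext fun j => by simp [Z]]; simp
  have ord : ∀ {z : GG Ω} {ζ : Ωˣ} {p : ℕ} {x : fixS σ} {n}, IsPrimitiveRoot ζ p → z⁻¹ * x.1 * z = H28.Lp.tor Ω (Z ζ n) → p.Prime →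
      (∃ j, n j = 1) → x ^ p = 1 ∧ x ≠ 1 := fun {z ζ p x n} h0 h hp ⟨j, e⟩ =>
    ⟨by rw [← zpow_natCast]; exact (eq h0 (pw h p) (o1 z ζ)).2 fun j => by simp, fun q => hp.one_lt.ne' (by
      simpa [e, Int.natCast_dvd] using (eq h0 h (o1 z ζ)).1 q j)⟩
  have r1 : ∀ D : Dat, D.Ok → D.p.Prime → D.d = 1 ∧ D.a2 = D.a1 ∧ (∃ j, vec D.a1 j = 1) → ∀ z : GG Ω,
      (∀ y, y ∈ fixS (MulAut.conj (nl Ω D.lw).1 * σ) ↔ z * y * z⁻¹ ∈ fixS σ) → ∀ ζ : Ωˣ, IsPrimitiveRoot ζ D.p → ∀ x : fixS σ,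
        z⁻¹ * x.1 * z = H28.Lp.tor Ω (Z ζ (vec D.a1)) → Nat.card (closure {π x, π x} : Subgroup _) = D.p ∧
          ¬ IsCoatom (normalizer ((closure {π x, π x} : Subgroup (twistedE6 K 2)) : Set (twistedE6 K 2))) :=
    fun D h hp ⟨d1, a2, hj⟩ z hz ζ h0 x hx => by
      obtain ⟨o1, o2⟩ := ord h0 hx hp hj
      exact ⟨card1 hp (by rw [← map_pow, o1, map_one]) fun q => o2 (inj x _ h.2.2.2.2.2.2.2.2.1.2.2.2.2 o1 q),
        hG Ω σ _ π T hσ hπ hk D h hp z hz ζ h0 x x hx (a2 ▸ hx) (by rw [d1, pow_one, card1 hp o1 o2])⟩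
  refine H21.LpS.s _ hc (fun p hp => ?_) ?_
  · obtain ⟨D, h, rfl, h1, h2⟩ : ∃ D : Dat, D.Ok ∧ D.p = p ∧ D.p.Prime ∧ D.d = 1 ∧ D.a2 = D.a1 ∧ ∃ j, vec D.a1 j = 1 := by
      simp only [List.mem_cons, List.not_mem_nil, or_false] at hp
      rcases hp with rfl | rfl | rfl | rfl
      exacts [⟨D11, ok11, by decide +kernel⟩, ⟨D13, ok13, by decide +kernel⟩, ⟨D17, ok17, by decide +kernel⟩,
        ⟨D19, ok19, by decide +kernel⟩]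
    obtain ⟨z, hz⟩ := T.fr.exists_conj (nl Ω D.lw).1
    obtain ⟨ζ, h0⟩ := prim _ h1 h.2.2.2.2.2.2.2.2.1.2.2.2.1
    obtain ⟨x, hx⟩ := ex D h z hz ζ h0 D.a1 (by simp)
    exact ⟨_, r1 D h h1 h2 z hz ζ h0 x hx⟩
  have p7 : Nat.Prime 7 := by norm_num
  obtain ⟨z, hz⟩ := T.fr.exists_conj (nl Ω D7.lw).1
  obtain ⟨ζ, h0⟩ := prim 7 p7 (by decide)
  obtain ⟨x, hx⟩ := ex D7 ok7 z hz ζ h0 D7.a1 (by simp)
  obtain ⟨y, hy⟩ := ex D7 ok7 z hz ζ h0 D7.a2 (by simp)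
  obtain ⟨x7, x1⟩ := ord h0 hx p7 (by decide +kernel)
  obtain ⟨y7, y1⟩ := ord h0 hy p7 (by decide +kernel)
  have ml : ∀ {x y : fixS σ} {n m}, z⁻¹ * x.1 * z = H28.Lp.tor Ω (Z ζ n) → z⁻¹ * y.1 * z = H28.Lp.tor Ω (Z ζ m) →
      z⁻¹ * (x * y).1 * z = H28.Lp.tor Ω (Z ζ (n + m)) := fun {x y n m} h h' => by
    rw [show Z ζ (n + m) = Z ζ n * Z ζ m from funext fun j => by simp [Z, zpow_add], map_mul, ← h, ← h', coe_mul]; group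
  have c : Commute x y := (eq h0 (ml hx hy) (ml hy hx)).2 fun j => by simp [add_comm]
  have ind : ∀ i j : ℤ, x ^ i = y ^ j → x ^ i = 1 := fun i j e => by
    have := (eq h0 (pw hx i) (pw hy j)).1 e ⟨4, by decide⟩
    rw [Pi.smul_apply, Pi.smul_apply, show vec D7.a1 _ = 1 from rfl, show vec D7.a2 _ = 0 from rfl, smul_zero, sub_zero, smul_eq_mul,
      mul_one] at this
    obtain ⟨k, rfl⟩ := this
    rw [zpow_mul, zpow_natCast, x7, one_zpow]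
  have c3 : Nat.Coprime 7 3 := by decide
  refine ⟨π x, π y, c.map π, by rw [← map_pow, x7, map_one], by rw [← map_pow, y7, map_one], card2 (c.map π) (by rw [← map_pow, x7, map_one])
    (by rw [← map_pow, y7, map_one]) (fun q => x1 (inj x 7 c3 x7 q)) (fun q => y1 (inj y 7 c3 y7 q)) fun i j e => ?_,
    hG Ω σ _ π T hσ hπ hk D7 ok7 p7 z hz ζ h0 x y hx hy (card2 c x7 y7 x1 y1 ind),
    (r1 D7_7 ok7_7 p7 (by decide +kernel) z hz ζ h0 y hy).2, fun i hi => ?_⟩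
  · rw [← map_zpow, ind i j (mul_inv_eq_one.1 (inj _ 7 c3 ?_ (by rw [map_mul, map_inv, map_zpow, map_zpow, e, mul_inv_cancel]))), map_one]
    rw [(c.zpow_zpow i j).inv_right.mul_pow, inv_pow, ← zpow_natCast, ← zpow_natCast, zpow_comm, zpow_comm y, zpow_natCast, zpow_natCast,
      x7, y7]
    simp
  · obtain ⟨D, h, h1, h2, h3, h4⟩ : ∃ D : Dat, D.Ok ∧ D.p = 7 ∧ D.lw = D7.lw ∧ (D.d = 1 ∧ D.a2 = D.a1 ∧ ∃ j, vec D.a1 j = 1) ∧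
        ∀ j, ((7 : ℕ) : ℤ) ∣ (vec D7.a1 + (i : ℤ) • vec D7.a2) j - vec D.a1 j := by
      interval_cases i
      exacts [⟨D7_0, ok7_0, by decide +kernel⟩, ⟨D7_1, ok7_1, by decide +kernel⟩, ⟨D7_2, ok7_2, by decide +kernel⟩,
        ⟨D7_3, ok7_3, by decide +kernel⟩, ⟨D7_4, ok7_4, by decide +kernel⟩, ⟨D7_5, ok7_5, by decide +kernel⟩,
        ⟨D7_6, ok7_6, by decide +kernel⟩]
    have := (r1 D h (h1 ▸ p7) h3 z (h2 ▸ hz) ζ (h1 ▸ h0) _ ((ml hx (pw hy i)).trans (congrArg _ ((Z_eq h0).2 h4)))).2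
    rwa [map_mul, zpow_natCast, map_pow] at this

end H11.LpM
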