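import Cfsg.Agent.H28.Lp0

/-! The centralizer of `²E₆(2)` modulo the centre in the simply connected group: `H11.LpZ.z : H28.Lp.ZStmt`. -/

set_option autoImplicit false

namespace H11.LpZ
open H11 Cfsg Cfsg.Lie StSys H28.Tw H28.Lp Subgroup H11.EG

theorem mem_B_of {D : ChevalleyDatum} [Good D] [Cert D] {K G : Type*} [Field K] [Group G] {S : StSys D K G} (hg : S.grp = ⊤) {t : G}
    (h : ∀ i, ∃ y ∈ S.U, y ∉ S.UJ {i} ∧ t * y * t⁻¹ ∈ S.B) : t ∈ S.B := by
  obtain ⟨b, hb, m, hm, b', hb', rfl⟩ := exists_bnb (hg ▸ mem_top t : t ∈ S.grp)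
  have : S.π ⟨m, hm⟩ = 1 := eq_one_of_pos fun i => by
    by_contra hn
    obtain ⟨y, hy, h1, h2⟩ := h i
    obtain ⟨a, ha, c, hc, e⟩ := exists_mul_Inv (S.π ⟨m, hm⟩).1 ((mem_normalizer_iff.1 (B_le_normalizer_U hb') y).1 hy)
    have h3 : m * a * m⁻¹ ∈ S.U := (acts_π ⟨m, hm⟩).conj_mem (fun r hr => hr.2) ha
    have h4 : m * c * m⁻¹ ∈ S.B ⊓ S.V := ⟨by
      have := mul_mem (inv_mem (U_le_B h3)) (mul_mem (mul_mem (inv_mem hb) h2) hb)
      rwa [show (m * a * m⁻¹)⁻¹ * (b⁻¹ * (b * m * b' * y * (b * m * b')⁻¹) * b) = m * (a⁻¹ * (b' * y * b'⁻¹)) * m⁻¹ by group, e,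
        inv_mul_cancel_left] at this, (acts_π ⟨m, hm⟩).conj_mem (fun r hr => hr.2) hc⟩
    rw [B_inf_V, mem_bot, conj_eq_one_iff] at h4
    rw [h4, mul_one] at e
    have h5 : a ∈ S.UJ {i} := UJ_single (S := S) i ▸ US_mono (fun r hr => And.intro hr.1 fun (q : r = sroot i) => hn (q ▸ hr.2)) ha
    refine h1 ?_
    convert cjU (B_le_PJ _ (inv_mem hb')) h5 using 1
    rw [← e]; group
  exact mul_mem (mul_mem hb (H_le_B (π_eq_one_iff.1 this))) hb'

theorem Rg_spec : ∀ r : Root chevE6, (IsPos (Rg r) ↔ IsPos r) ∧ (Rg r ≠ r → Rg r ≠ r.rev ∧ chevE6.commTerms r (Rg r) = []) := by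
  decide +kernel

theorem z.{u} : ZStmt.{u} := fun Ω _ _ _ σ hσ t ht => by
  have hg := sgSys_grp chevE6 Ω
  have h2 : (1 : Ω) + 1 = 0 := CharTwo.add_self_eq_zero 1
  have h1 : ∀ y ∈ fixS σ, y * y = 1 → Commute t y := fun y hy e => by
    have hz := ht y hy
    obtain ⟨c, c1, c2⟩ := (center_eq_map hMul_sg hg).le hz
    have z3 : (y * t * y⁻¹ * t⁻¹) ^ 3 = 1 := by rw [← c2, ← map_pow, cart3 c1, map_one]
    obtain ⟨z, hz'⟩ : ∃ z, z = y * t * y⁻¹ * t⁻¹ := ⟨_, rfl⟩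
    rw [← hz'] at hz z3
    have e1 : y * t * y⁻¹ = z * t := by rw [hz']; group
    have z2 : z * z = 1 := by
      have : y * (y * t * y⁻¹) * y⁻¹ = z * z * t := by
        rw [e1, ← mul_assoc, mem_center_iff.1 hz y, mul_assoc z, mul_assoc z, e1, mul_assoc]
      rw [show y * (y * t * y⁻¹) * y⁻¹ = y * y * t * (y * y)⁻¹ by group, e] at this
      simpa using this.symm
    rw [pow_succ, sq, z2, one_mul] at z3
    rw [z3, one_mul, mul_inv_eq_iff_eq_mul] at e1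
    exact e1.symm
  have hc : ∀ r, ∃ c, (Rg r = r → c = 0) ∧ Commute t ((SS Ω).x r 1 * (SS Ω).x (Rg r) c) := fun r => by
    by_cases e : Rg r = r
    · refine ⟨0, fun _ => rfl, h1 _ (show σ _ = _ by simp [tw_x hσ, e]) (by simp [StSys.add, h2])⟩
    · have k := (SS Ω).comm r (Rg r) e ((Rg_spec r).2 e).1 1 1
      rw [ChevalleyDatum.commWord, ((Rg_spec r).2 e).2, List.map_nil, wordG_nil, mul_one] at k
      refine ⟨1, fun q => absurd q e, h1 _ (show σ _ = _ by rw [map_mul, tw_x hσ, tw_x hσ, Rg_Rg, one_pow, k]; rfl) ?_⟩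
      rw [mul_assoc, ← mul_assoc ((SS Ω).x (Rg r) 1), k, mul_assoc, StSys.add, h2, x_zero, mul_one, StSys.add, h2, x_zero]
  have nU : ∀ i c, (SS Ω).x (sroot i) c ∈ (SS Ω).UJ {i} → c = 0 := fun i c h =>
    x_eq_one (S := SS Ω) (r := sroot i) (by rw [mem_bot.1 ((UJ_inf_LJ {i}).le ⟨h, xi_mem i c⟩), map_one])
  have key : ∀ g (w : Equiv.Perm (Root chevE6)), (SS Ω).Acts g w → (∀ r, IsPos (w r) → IsPos (w (Rg r))) → g * t * g⁻¹ ∈ (SS Ω).B :=
    fun g w ⟨χ, _, a⟩ hw => mem_B_of hg fun i => by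
      obtain ⟨r, hr⟩ := w.surjective (sroot i)
      obtain ⟨c, c1, c2⟩ := hc r
      have p := hw r (hr ▸ isPos_sroot i)
      have m : g * ((SS Ω).x r 1 * (SS Ω).x (Rg r) c) * g⁻¹ ∈ (SS Ω).U := by
        rw [← conj_mul, a, a, hr]; exact mul_mem (x_mem_U (isPos_sroot i) _) (x_mem_U p _)
      refine ⟨_, m, fun q => ?_, ?_⟩
      · rw [← conj_mul, a, a, hr, mul_mem_cancel_right] at q
        · exact (χ r).ne_zero (by simpa using nU i _ q)
        · by_cases e : Rg r = r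
          · simp [c1 e]
          · rw [UJ_single]; exact x_mem_US (And.intro p fun q => e (w.injective (q.trans hr.symm))) _
      · rw [conj_mul, c2.eq, ← conj_mul (a := _ * _), mul_inv_cancel_right]; exact U_le_B m
  have hH : t ∈ (SS Ω).H := by
    obtain ⟨g, gN, g1, g2⟩ := (SS Ω).exists_n0
    obtain ⟨w, χ, a0, a⟩ := exists_acts gN
    have p : ∀ r, IsPos (w.1 r) ↔ ¬ IsPos r := fun r => ⟨fun p q => (χ r).ne_zero (by
        have := mem_bot.1 (B_inf_V.le ⟨U_le_B (x_mem_U p ((χ r : Ω) * 1)), g1.le ⟨_, x_mem_U q 1, a r 1⟩⟩)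
        exact (mul_one _).symm.trans (x_eq_one (S := SS Ω) (r := w.1 r) (by rw [this, map_one]))),
      fun q => isPos_of_x_mem_B (t := (χ r : Ω) * 1) (by simp) (U_le_B (g2.le ⟨_, x_mem_V q 1, a r 1⟩))⟩
    obtain ⟨u, hu, y, hy, e⟩ := exists_mul_of_mem_B (key g w ⟨χ, a0, a⟩ fun r => by simp [p, (Rg_spec r).1])
    obtain ⟨v, hv, rfl⟩ := g2.ge hu
    refine B_inf_VH.le ⟨by simpa using key 1 1 acts_one fun r => by simp [(Rg_spec r).1], ?_⟩
    convert mul_mem (mem_sup_left hv) (mem_sup_right (conj_mem_H (inv_mem gN) hy)) using 1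
    rw [show t = g⁻¹ * (g * t * g⁻¹) * g by group, e]; simp [mul_assoc]
  obtain ⟨χ, a0, a⟩ := acts_of_mem_H hH
  have k : ∀ i, χ (sroot i) = 1 := fun i => by
    obtain ⟨c, c1, c2⟩ := hc (sroot i)
    have e := mul_inv_eq_iff_eq_mul.2 c2.eq
    rw [← conj_mul, a, a, Equiv.Perm.one_apply, Equiv.Perm.one_apply] at e
    have q : ∀ c', (Rg (sroot i) = sroot i → c' = 0) → (SS Ω).x (Rg (sroot i)) c' ∈ (SS Ω).UJ {i} := fun c' h => by
      by_cases e : Rg (sroot i) = sroot i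
      · simp [h e]
      · rw [UJ_single]; exact x_mem_US (And.intro ((Rg_spec _).1.2 (isPos_sroot i)) e) _
    have := nU i (-1 + χ (sroot i) * 1) (by
      rw [← StSys.add, ← x_inv, eq_mul_inv_of_mul_eq e, mul_assoc, inv_mul_cancel_left]
      exact mul_mem (q _ c1) (inv_mem (q _ fun h => by simp [c1 h])))
    exact Units.ext (by rw [Units.val_one]; linear_combination this)
  have : centralizer {t} = ⊤ := top_of_simple hg fun i s => by
    simp only [mem_centralizer_singleton_iff]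
    exact ⟨(mul_inv_eq_iff_eq_mul.1 (by simp [a, k])).symm, (mul_inv_eq_iff_eq_mul.1 (by simp [a, a0, k])).symm⟩
  exact mem_center_iff.2 fun g => mem_centralizer_singleton_iff.1 (this ▸ mem_top g)

end H11.LpZ
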