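import Cfsg.Agent.H12.LtF

/-! Split BN-pairs `H12.Lt.LT`: negative root groups `Yg`, rank one decompositions (`exists_dec`, `uniq`), conjugation of
the rank one subgroups by `N` (`conj_L`), automorphisms normalising `U` and the opposite group (`A0`, `exists_conj`, `exists_perm`,
`fix_Y`, `eq_one`, `card_out`). -/

namespace H11.Lx
open Cfsg H12.Lt H12.St H12.Ri

variable {ι W G : Type*} [Group W] [Group G] {p : ℕ} {s : ι → W} {A : ι → W → Prop} {δ : G → W} {P : Set ι → Subgroup G}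
  {U H N : Subgroup G} {ν : ι → G} {X : ι → Subgroup G}

/-- the negative root group -/
def Yg (ν : ι → G) (X : ι → Subgroup G) (i : ι) : Subgroup G := cj (ν i)⁻¹ (X i)

theorem mem_Yg {i : ι} {y : G} : y ∈ Yg ν X i ↔ ν i * y * (ν i)⁻¹ ∈ X i := by rw [Yg, mem_cj, inv_inv]

/-- `α` maps `Q` onto `Q'` -/
def Mp (α : MulAut G) (Q Q' : Subgroup G) : Prop := ∀ g, α g ∈ Q' ↔ g ∈ Q

theorem Mp.inv {α : MulAut G} {Q Q' : Subgroup G} (h : Mp α Q Q') : Mp α⁻¹ Q' Q := fun g => by rw [← h]; simp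
theorem Mp.mul {α β : MulAut G} {Q Q' Q'' : Subgroup G} (h : Mp α Q' Q'') (h' : Mp β Q Q') : Mp (α * β) Q Q'' :=
  fun g => (h _).trans (h' g)
theorem Mp.card {α : MulAut G} {Q Q' : Subgroup G} (h : Mp α Q Q') : Nat.card Q = Nat.card Q' :=
  Nat.card_congr (α.toEquiv.subtypeEquiv fun g => (h g).symm)
theorem Mp.norm {α : MulAut G} {Q Q' : Subgroup G} (h : Mp α Q Q') :
    Mp α (Subgroup.normalizer (Q : Set G)) (Subgroup.normalizer (Q' : Set G)) := fun g => by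
  rw [Subgroup.mem_normalizer_iff, Subgroup.mem_normalizer_iff, α.surjective.forall]
  exact forall_congr' fun x => by rw [← map_inv, ← map_mul, ← map_mul, h, h]

/-- automorphisms normalising `U` and `V` -/
def A0 (U V : Subgroup G) : Subgroup (MulAut G) where
  carrier := {α | Mp α U U ∧ Mp α V V}
  one_mem' := ⟨fun _ => Iff.rfl, fun _ => Iff.rfl⟩
  mul_mem' a b := ⟨a.1.mul b.1, a.2.mul b.2⟩
  inv_mem' a := ⟨a.1.inv, a.2.inv⟩

variable (C : LT p s A δ P U H N ν X)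
include C

theorem conj_U {b g : G} (hb : b ∈ P ∅) : b⁻¹ * g * b ∈ U ↔ g ∈ U :=
  ⟨fun h => by simpa [mul_assoc] using C.B_conj' hb _ h, C.B_conj hb g⟩

theorem N_eq' {n n' : G} (hn : n ∈ N) (hn' : n' ∈ N) (e : δ n = δ n') : n⁻¹ * n' ∈ H := by
  simpa using C.N_eq (inv_mem hn') (inv_mem hn) (by rw [C.inv, C.inv, e])

theorem cj_congr {n n' : G} (hn : n ∈ N) (hn' : n' ∈ N) (e : δ n = δ n') (g : G) : n⁻¹ * g * n ∈ U ↔ n'⁻¹ * g * n' ∈ U := by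
  rw [← conj_U C (C.H_le (N_eq' C hn hn' e))]; simp [mul_assoc]

theorem dl_inv (i : ι) : δ (ν i)⁻¹ = s i := by rw [C.inv, C.nu, C.cox.inv_eq]

variable {n0 : G} (hn0 : n0 ∈ N) (ht : Top s A Set.univ (δ n0))
include hn0 ht

theorem mem_X {i : ι} {x : G} : x ∈ X i ↔ x ∈ U ∧ (ν i * n0)⁻¹ * x * (ν i * n0) ∈ U := by
  have h1 := mul_mem (C.nu_mem i) hn0
  have h2 : ∀ x ∈ X i, (ν i * n0)⁻¹ * x * (ν i * n0) ∈ U := C.X_conj i _ h1 (by
    rw [C.mul _ (C.nu_mem i) _ hn0, C.nu, C.cox.iff_not]; simpa using C.top_desc ht (C.cox.one i))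
  refine ⟨fun hx => ⟨C.X_le i hx, h2 x hx⟩, fun ⟨hu, h⟩ => ?_⟩
  obtain ⟨y, hy, h3⟩ := C.X_surj i x hu
  have := C.opp hn0 ht h3 (C.U_le (by simpa [mul_assoc] using mul_mem (inv_mem (h2 y hy)) h))
  rwa [← inv_mul_eq_one.1 (conj_eq_one_iff.1 (show (ν i)⁻¹ * (y⁻¹ * x) * (ν i)⁻¹⁻¹ = 1 by rwa [inv_inv]))]

theorem conj_XX {i j : ι} {m : G} (hm : m ∈ N) (ha : A i (δ m)) (e : s i * δ m = δ m * s j) {x : G} (hx : x ∈ X i) :
    m⁻¹ * x * m ∈ X j := by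
  refine (mem_X C hn0 ht).2 ⟨C.X_conj i m hm ha x hx, ?_⟩
  have := C.X_conj i _ (mul_mem hm (mul_mem (C.nu_mem j) hn0)) (by
    rw [C.mul _ hm _ (mul_mem (C.nu_mem j) hn0), C.mul _ (C.nu_mem j) _ hn0, C.nu, ← mul_assoc, ← e, mul_assoc, C.cox.iff_not]
    exact C.top_desc ht ha) x hx
  simpa [mul_assoc] using this

theorem H_X {i : ι} {h x : G} (hh : h ∈ H) (hx : x ∈ X i) : h⁻¹ * x * h ∈ X i := by
  have e := C.mem_B.1 (C.H_le hh)
  exact conj_XX C hn0 ht (C.HN hh) (e ▸ C.cox.one i) (by simp [e]) hx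

theorem conj_XY {i : ι} {m x : G} (hm : m ∈ N) (e : δ m = s i) : m⁻¹ * x * m ∈ Yg ν X i ↔ x ∈ X i := by
  have h := C.N_eq hm (C.nu_mem i) (e.trans (C.nu i).symm)
  exact ⟨fun a => by simpa [mul_assoc] using H_X C hn0 ht h (mem_Yg.1 a),
    fun a => mem_Yg.2 (by simpa [mul_assoc] using H_X C hn0 ht (inv_mem h) a)⟩

theorem conj_YX {i : ι} {m x : G} (hm : m ∈ N) (e : δ m = s i) : m⁻¹ * x * m ∈ X i ↔ x ∈ Yg ν X i := by
  rw [← conj_XY C hn0 ht (inv_mem hm) (by rw [C.inv, e, C.cox.inv_eq])]; simp [mul_assoc]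

theorem conj_YY {i j : ι} {m : G} (hm : m ∈ N) (ha : A i (δ m)) (e : s i * δ m = δ m * s j) {y : G} (hy : y ∈ Yg ν X i) :
    m⁻¹ * y * m ∈ Yg ν X j := by
  have h1 := mul_mem (C.nu_mem i) hm
  have h2 : δ (ν i * m * (ν j)⁻¹) = δ m := by
    rw [C.mul _ h1 _ (inv_mem (C.nu_mem j)), C.mul _ (C.nu_mem i) _ hm, dl_inv C, C.nu, e, C.cox.mul_mul']
  simpa [mem_Yg, mul_assoc] using conj_XX C hn0 ht (mul_mem h1 (inv_mem (C.nu_mem j))) (h2 ▸ ha) (h2 ▸ e) (mem_Yg.1 hy)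

theorem H_Y {i : ι} {h x : G} (hh : h ∈ H) (hx : x ∈ Yg ν X i) : h⁻¹ * x * h ∈ Yg ν X i := by
  have e := C.mem_B.1 (C.H_le hh)
  exact conj_YY C hn0 ht (C.HN hh) (e ▸ C.cox.one i) (by simp [e]) hx

theorem conj_neg {i j : ι} {m : G} (hm : m ∈ N) (ha : ¬ A i (δ m)) (e : s i * δ m = δ m * s j) :
    (∀ x ∈ X i, m⁻¹ * x * m ∈ Yg ν X j) ∧ ∀ x ∈ Yg ν X i, m⁻¹ * x * m ∈ X j := by
  have h1 := mul_mem (C.nu_mem i) hm
  have h0 : δ (ν i * m) = s i * δ m := by rw [C.mul _ (C.nu_mem i) _ hm, C.nu]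
  have h2 : s i * δ (ν i * m) = δ (ν i * m) * s j := by rw [h0, mul_assoc, ← e]
  have h3 : A i (δ (ν i * m)) := h0 ▸ C.cox.iff_not.2 ha
  exact ⟨fun x hx => by
      simpa [mul_assoc] using conj_YY C hn0 ht h1 h3 h2 ((conj_XY C hn0 ht (inv_mem (C.nu_mem i)) (dl_inv C i)).2 hx),
    fun x hx => by simpa [mul_assoc] using conj_XX C hn0 ht h1 h3 h2 (mem_Yg.1 hx)⟩

theorem conj_L {i j : ι} {m : G} (hm : m ∈ N) (e : s i * δ m = δ m * s j) {g : G} (hg : g ∈ X i ⊔ Yg ν X i) :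
    m⁻¹ * g * m ∈ X j ⊔ Yg ν X j := by
  refine mem_cj.1 ((sup_le (fun x hx => mem_cj.2 ?_) fun x hx => mem_cj.2 ?_ : _ ≤ cj m _) hg) <;> by_cases ha : A i (δ m)
  exacts [Subgroup.mem_sup_left (conj_XX C hn0 ht hm ha e hx), Subgroup.mem_sup_right ((conj_neg C hn0 ht hm ha e).1 x hx),
    Subgroup.mem_sup_right (conj_YY C hn0 ht hm ha e hx), Subgroup.mem_sup_left ((conj_neg C hn0 ht hm ha e).2 x hx)]

theorem mem_Y {i : ι} {y : G} : y ∈ Yg ν X i ↔ y ∈ P {i} ∧ y ∈ cj n0 U := by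
  rw [mem_Yg, mem_X C hn0 ht, mem_cj]
  refine ⟨fun h => ⟨?_, by simpa [mul_assoc] using h.2⟩, fun h => ⟨?_, by simpa [mul_assoc] using h.2⟩⟩
  · simpa [mul_assoc] using mul_mem (mul_mem (inv_mem (C.nu_memP i)) (C.B_le _ (C.U_le h.1))) (C.nu_memP i)
  · simpa using C.opp_P hn0 ht (inv_mem (C.nu_mem i)) (dl_inv C i) h.1 h.2

theorem n0_sq : n0 * n0 ∈ H := by simpa using N_eq' C (inv_mem hn0) hn0 (by rw [C.inv, C.top_inv ht])

omit hn0 in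
theorem not_A (i : ι) : ¬ A i (δ n0) := by simpa using C.top_desc ht (C.cox.one i)

omit hn0 in
theorem exists_star (i : ι) : ∃ k, s i * δ n0 = δ n0 * s k ∧ s k * δ n0 = δ n0 * s i := by
  obtain ⟨k, hk⟩ := C.top_conj_s ht i
  exact ⟨k, by rw [← hk]; group, by rw [← hk, mul_assoc, mul_eq_one_iff_inv_eq.2 (C.top_inv ht), C.top_inv ht, mul_one]⟩

theorem mem_X' {i k : ι} (e : s i * δ n0 = δ n0 * s k) {x : G} : x ∈ X i ↔ x ∈ U ∧ x ∈ cj n0 (P {k}) := by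
  refine ⟨fun h => ⟨C.X_le i h, mem_cj.2 ((mem_Y C hn0 ht).1 ((conj_neg C hn0 ht hn0 (not_A C ht i) e).1 x h)).1⟩, fun h => ?_⟩
  have h1 : δ n0⁻¹ = δ n0 := by rw [C.inv, C.top_inv ht]
  simpa [mul_assoc] using (conj_neg C hn0 ht (inv_mem hn0) (h1 ▸ not_A C ht k) (j := i) (by
    rw [C.inv, mul_inv_eq_iff_eq_mul, mul_assoc, e]; group)).2 _ ((mem_Y C hn0 ht).2 ⟨mem_cj.1 h.2, mem_cj.2 (by
      simpa [mul_assoc] using C.B_conj (C.H_le (n0_sq C hn0 ht)) _ h.1)⟩)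

omit hn0 ht in
theorem X_inj' {i : ι} {x m : G} (hm : m ∈ N) (e : δ m = s i) (hx : x ∈ X i) (h : m⁻¹ * x * m ∈ U) : x = 1 :=
  C.X_inj i x hx ((cj_congr C hm (C.nu_mem i) (e.trans (C.nu i).symm) x).1 h)

theorem exists_dec {i : ι} {y : G} (hy : y ∈ Yg ν X i) (h1 : y ≠ 1) :
    ∃ a ∈ X i, ∃ m ∈ N, δ m = s i ∧ ∃ b ∈ X i, y = a * m * b := by
  obtain ⟨u, hu, n, hn, u', hu', e, h2⟩ := C.exists_un y
  have h3 : δ n = s i := by
    simpa [h2, mul_assoc] using C.dl_nxn (mem_Yg.1 hy) (mt conj_eq_one_iff.1 h1)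
  obtain ⟨a, ha, h4⟩ := C.X_surj i u hu
  have h5 := mul_mem ((cj_congr C (C.nu_mem i) hn ((C.nu i).trans h3.symm) _).1 h4) hu'
  obtain ⟨b, hb, h6⟩ := C.X_surj i _ h5
  obtain ⟨k, hk, -⟩ := exists_star C ht i
  have h7 : ∀ x ∈ X i, x ∈ cj n0 (P {k}) := fun x hx => ((mem_X' C hn0 ht hk).1 hx).2
  have h8 : n ∈ cj n0 (P {k}) := mem_cj.2 ((C.mem _ _).2 (by
    rw [C.mul _ (mul_mem (inv_mem hn0) hn) _ hn0, C.mul _ (inv_mem hn0) _ hn, h3, C.inv, mul_assoc, hk, inv_mul_cancel_left]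
    exact mem_par_self rfl))
  have h9 : y ∈ cj n0 (P {k}) := mem_cj.2 (C.B_le _ (C.U_le (C.X_le k ((conj_neg C hn0 ht hn0 (not_A C ht i) hk).2 y hy))))
  have := C.X_inj i _ ((mem_X' C hn0 ht hk).2 ⟨mul_mem (inv_mem (C.X_le i hb)) h5, by
    simpa [e, mul_assoc] using mul_mem (inv_mem (mul_mem (mul_mem (h7 a ha) h8) (h7 b hb))) h9⟩) h6
  exact ⟨a, ha, n, hn, h3, b, hb, by rw [inv_mul_eq_one.1 this, e]; group⟩

omit hn0 ht in
theorem uniq {i : ι} {a a' b b' m m' : G} (ha : a ∈ X i) (ha' : a' ∈ X i) (hb : b ∈ X i) (hb' : b' ∈ X i) (hm : m ∈ N) (hm' : m' ∈ N)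
    (e : δ m = s i) (h : a * m * b = a' * m' * b') : a = a' ∧ m = m' ∧ b = b' := by
  have h0 := fun x hx => C.U_le (C.X_le i (x := x) hx)
  have h1 := C.N_eq hm hm' (by rw [← C.left (h0 a ha), ← C.right (h0 b hb), h, C.right (h0 _ hb'), C.left (h0 _ ha')])
  obtain rfl : m = m' := (mul_inv_eq_one.1 (C.h_unique hm (C.X_le i ha') (C.X_le i ha) h1 (one_mem H) (C.X_le i hb') (C.X_le i hb)
    (by simp [h, mul_assoc a']))).symm
  obtain rfl : a' = a := inv_mul_eq_one.1 (X_inj' C hm e (mul_mem (inv_mem ha') ha) (by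
    rw [show m⁻¹ * (a'⁻¹ * a) * m = m⁻¹ * a'⁻¹ * (a * m * b) * b⁻¹ by group, h]
    simpa [mul_assoc] using C.X_le i (mul_mem hb' (inv_mem hb))))
  exact ⟨rfl, rfl, mul_left_cancel h⟩

theorem norm_Y {i : ι} {a : G} (ha : a ∈ X i) (h : ∀ y ∈ Yg ν X i, a⁻¹ * y * a ∈ Yg ν X i) : a = 1 := by
  by_contra h1
  obtain ⟨c, hc, m, hm, e, d, hd, h2⟩ := exists_dec C hn0 ht ((conj_XY C hn0 ht (inv_mem (C.nu_mem i)) (dl_inv C i)).2 ha)
    (by simpa [conj_eq_one_iff] using h1)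
  obtain ⟨x, hx, h3⟩ := C.exists_x i
  have h4 := mem_Yg.1 (h _ ((conj_XY C hn0 ht (C.nu_mem i) (C.nu i)).2 (mul_mem (mul_mem hc hx) (inv_mem hc))))
  refine h3 (X_inj' C hm e hx ?_)
  have := C.X_le i (mul_mem (mul_mem hd h4) (inv_mem hd))
  rwa [show d * (ν i * (a⁻¹ * ((ν i)⁻¹ * (c * x * c⁻¹) * ν i) * a) * (ν i)⁻¹) * d⁻¹ =
    d * ((ν i)⁻¹⁻¹ * a * (ν i)⁻¹)⁻¹ * (c * x * c⁻¹) * ((ν i)⁻¹⁻¹ * a * (ν i)⁻¹) * d⁻¹ by group, h2,
    show d * (c * m * d)⁻¹ * (c * x * c⁻¹) * (c * m * d) * d⁻¹ = m⁻¹ * x * m by group] at this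

theorem swap_N {i : ι} {c d m : G} (hc : c ∈ X i) (hd : d ∈ X i) (hm : m ∈ N) (e : δ m = s i)
    (h1 : ∀ x ∈ X i, (c * m * d)⁻¹ * x * (c * m * d) ∈ Yg ν X i) (h2 : ∀ x ∈ Yg ν X i, (c * m * d)⁻¹ * x * (c * m * d) ∈ X i) :
    c = 1 ∧ d = 1 := by
  obtain rfl := norm_Y C hn0 ht hd fun z hz => by
    simpa [mul_assoc] using h1 _ (mul_mem (mul_mem hc ((conj_XY C hn0 ht hm e (x := m * z * m⁻¹)).1 (by simpa [mul_assoc]))) (inv_mem hc))
  exact ⟨norm_Y C hn0 ht hc fun z hz => (conj_YX C hn0 ht hm e).1 (by simpa [mul_assoc] using h2 z hz), rfl⟩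

omit hn0 ht in
theorem norm_eq : Subgroup.normalizer (U : Set G) = P ∅ := le_antisymm (fun _ => C.norm_U) C.B_le_norm

omit hn0 ht in
theorem mp_B {α : MulAut G} (h : Mp α U U) : Mp α (P ∅) (P ∅) := norm_eq C ▸ h.norm

omit C hn0 ht in
theorem mp_conj (g : G) (Q : Subgroup G) : Mp (MulAut.conj g) Q (cj g Q) := fun x => by simp [mem_cj, mul_assoc]

theorem mp_n0 : Mp (MulAut.conj n0) (cj n0 U) U := fun x => by
  rw [← conj_U C (C.H_le (n0_sq C hn0 ht))]; simp [mem_cj, mul_assoc]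

theorem mem_H {g : G} : g ∈ H ↔ g ∈ P ∅ ∧ g ∈ Subgroup.normalizer (cj n0 U : Set G) := by
  have h1 : ∀ g, g ∈ Subgroup.normalizer (cj n0 U : Set G) ↔ n0⁻¹ * g * n0 ∈ P ∅ := fun g => by
    rw [← norm_eq C, ← (mp_conj n0 U).norm]; simp [mul_assoc]
  refine ⟨fun h => ⟨C.H_le h, (h1 _).2 (C.H_le (C.conj _ hn0 _ h))⟩, fun ⟨h2, h3⟩ => ?_⟩
  obtain ⟨u, hu, h, hh, rfl⟩ := C.fac g h2
  rwa [C.opp hn0 ht hu (by simpa [mul_assoc] using mul_mem ((h1 _).1 h3) (inv_mem (C.H_le (C.conj _ hn0 _ hh)))), one_mul]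

theorem mp_H {α : MulAut G} (h : α ∈ A0 U (cj n0 U)) : Mp α H H := fun g => by
  rw [mem_H C hn0 ht, mem_H C hn0 ht, mp_B C h.1, h.2.norm]

theorem conj_mem_A0 {g : G} : MulAut.conj g ∈ A0 U (cj n0 U) ↔ g ∈ H := by
  rw [mem_H C hn0 ht, ← norm_eq C, Subgroup.mem_normalizer_iff, Subgroup.mem_normalizer_iff]
  exact and_congr (forall_congr' fun _ => iff_comm) (forall_congr' fun _ => iff_comm)

omit hn0 ht in
theorem exists_P {α : MulAut G} (h : Mp α U U) (i : ι) : ∃ j, Mp α (P {i}) (P {j}) := by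
  have hB := mp_B C h
  have h1 : P ∅ ≤ (P {i}).comap α⁻¹.toMonoidHom := fun b hb => C.B_le _ ((hB.inv b).2 hb)
  have h2 := C.over_U (C.U_le.trans h1) (g := α (ν i)) (by simpa using C.nu_memP i)
  obtain ⟨j, n, hn, e⟩ : {j | ∃ n ∈ (P {i}).comap α⁻¹.toMonoidHom ⊓ N, δ n = s j}.Nonempty := by
    refine Set.nonempty_iff_ne_empty.2 fun e => C.cox.s_ne_one i ?_
    rw [e, hB, C.mem_B] at h2
    rw [← h2, C.nu]
  have h3 := C.P_le (J := {j}) h1 (by rintro _ rfl; exact ⟨n, hn.1, e⟩)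
  have h4 := C.P_le (J := {i}) (M := (P {j}).comap α.toMonoidHom) (fun b hb => C.B_le _ ((hB b).2 hb)) (by
    rintro _ rfl
    refine ⟨α⁻¹ n, by simpa using (C.mem _ _).2 (e ▸ mem_par_self rfl), (C.cell_i hn.1).resolve_left fun a => C.cox.s_ne_one j ?_⟩
    rw [← e, ← C.mem_B]; exact (hB.inv n).1 a)
  exact ⟨j, fun g => ⟨fun a => by simpa using h3 a, fun a => h4 a⟩⟩

variable [Finite G]

omit hn0 ht in
theorem X_disj {i j : ι} {x : G} (hi : x ∈ X i) (hj : x ∈ X j) (h : x ≠ 1) : i = j := by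
  have := C.finW
  by_contra e
  exact h (C.X_inj j x hj (C.X_le_Rad (J := {j}) e hi _ (C.nu_memP j)))

theorem exists_perm {α : MulAut G} (h : α ∈ A0 U (cj n0 U)) (i : ι) :
    ∃ j, Mp α (X i) (X j) ∧ Mp α (Yg ν X i) (Yg ν X j) ∧ ∀ m ∈ N, δ m = s i → α m ∈ N ∧ δ (α m) = s j := by
  have := C.finW
  obtain ⟨j, hj⟩ := exists_P C h.1 i
  have hY : Mp α (Yg ν X i) (Yg ν X j) := fun g => by rw [mem_Y C hn0 ht, mem_Y C hn0 ht, hj, h.2]
  obtain ⟨k, hk, -⟩ := exists_star C ht i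
  obtain ⟨l, hl⟩ := exists_P C ((mp_conj n0 U).inv.mul (h.2.mul (mp_conj n0 U))) k
  obtain ⟨j', -, hj'⟩ := exists_star C ht l
  have hX : Mp α (X i) (X j') := fun g => by
    rw [mem_X' C hn0 ht hj', mem_X' C hn0 ht hk, h.1, mem_cj, mem_cj, ← hl]; simp [mul_assoc]
  obtain ⟨x, hx, h1⟩ := C.exists_x i
  obtain rfl : j' = j := by
    by_contra e
    refine h1 (C.X_inj i x hx ((h.1 _).1 ?_))
    simpa using C.X_le_Rad (J := {j}) e ((hX x).2 hx) _ ((hj _).2 (C.nu_memP i))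
  have h2 := (conj_XY C hn0 ht (inv_mem (C.nu_mem i)) (dl_inv C i)).2 hx
  have h3 : (ν i)⁻¹⁻¹ * x * (ν i)⁻¹ ≠ 1 := by simpa [conj_eq_one_iff] using h1
  obtain ⟨a, ha, m, hm, e, b, hb, h4⟩ := exists_dec C hn0 ht h2 h3
  obtain ⟨c, hc, n, hn, e', d, hd, h5⟩ := exists_dec C hn0 ht ((hY _).2 h2) (by simpa using h3)
  have h6 : (α a)⁻¹ * c * n * (d * (α b)⁻¹) = α m := by
    rw [h4, map_mul, map_mul] at h5
    rw [mul_assoc _ c, ← mul_assoc, mul_assoc _ _ d, ← h5]; group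
  obtain ⟨h7, h8⟩ := swap_N C hn0 ht (mul_mem (inv_mem ((hX a).2 ha)) hc) (mul_mem hd (inv_mem ((hX b).2 hb))) hn e'
    (fun z hz => by simpa [h6] using (hY _).2 ((conj_XY C hn0 ht hm e).2 ((hX.inv z).2 hz)))
    fun z hz => by simpa [h6] using (hX _).2 ((conj_YX C hn0 ht hm e).2 ((hY.inv z).2 hz))
  rw [h7, h8, one_mul, mul_one] at h6
  refine ⟨_, hX, hY, fun m' hm' e'' => ?_⟩
  have h9 := (mp_H C hn0 ht h _).2 (C.N_eq hm hm' (e.trans e''.symm))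
  rw [show α m' = α (m' * m⁻¹) * n by simp [h6], C.left (C.H_le h9)]
  exact ⟨mul_mem (C.HN h9) hn, e'⟩

theorem fix_Y {α : MulAut G} (h : α ∈ A0 U (cj n0 U)) {i : ι} (hα : ∀ x ∈ X i, α x = x) :
    (∀ y ∈ Yg ν X i, α y = y) ∧ ∃ m ∈ N, δ m = s i ∧ α m = m := by
  obtain ⟨j, h1, -, h3⟩ := exists_perm C hn0 ht h i
  obtain ⟨x, hx, h0⟩ := C.exists_x i
  obtain rfl := X_disj C hx (hα x hx ▸ (h1 x).2 hx) h0
  have key : ∀ y ∈ Yg ν X i, y ≠ 1 → α y = y ∧ ∃ m ∈ N, δ m = s i ∧ α m = m := fun y hy h4 => by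
    obtain ⟨a, ha, m, hm, e, b, hb, h5⟩ := exists_dec C hn0 ht hy h4
    obtain ⟨h6, h7⟩ := h3 m hm e
    have h8 := N_eq' C hm h6 (e.trans h7.symm)
    have h9 := hα _ ((conj_XY C hn0 ht hm e (x := m * y * m⁻¹)).1 (by simpa [mul_assoc]))
    obtain ⟨t, ht'⟩ : ∃ t, α m = m * t := ⟨_, (mul_inv_cancel_left _ _).symm⟩
    rw [ht', inv_mul_cancel_left] at h8
    have h10 : a * (m * t) * b = t⁻¹ * a * t * (t⁻¹ * m * t) * (t⁻¹ * b * t) := by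
      rw [map_mul, map_mul, map_inv, ht', mul_inv_eq_iff_eq_mul, ← eq_inv_mul_iff_mul_eq, h5, map_mul, map_mul, hα a ha, hα b hb, ht'] at h9
      rw [h9]; group
    have h11 := (uniq C ha (H_X C hn0 ht h8 ha) hb (H_X C hn0 ht h8 hb) (ht' ▸ h6)
      (mul_mem (mul_mem (inv_mem (C.HN h8)) hm) (C.HN h8)) (ht' ▸ h7) h10).2.1
    obtain rfl : t = 1 := by simpa using h11
    exact ⟨by rw [h5, map_mul, map_mul, hα a ha, hα b hb, ht', mul_one], m, hm, e, by simpa using ht'⟩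
  exact ⟨fun y hy => (em (y = 1)).elim (fun e => by simp [e]) fun e => (key y hy e).1,
    (key _ ((conj_XY C hn0 ht (inv_mem (C.nu_mem i)) (dl_inv C i)).2 hx) (by simpa [conj_eq_one_iff] using h0)).2⟩

theorem eq_one {α : MulAut G} (h : α ∈ A0 U (cj n0 U)) (hα : ∀ i, ∀ x ∈ X i, α x = x) : α = 1 := by
  choose m hm e hf using fun i => (fix_Y C hn0 ht h (hα i)).2
  have h1 : ∀ w, ∃ n ∈ N, δ n = w ∧ α n = n := C.cox.induction ⟨1, one_mem _, C.mem_B.1 (one_mem _), map_one _⟩ (by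
    rintro i _ - ⟨n, hn, rfl, h2⟩
    exact ⟨_, mul_mem (hm i) hn, by rw [C.mul _ (hm i) _ hn, e], by rw [map_mul, hf, h2]⟩)
  have h2 : U ≤ fixS α := C.U_induction fun i n hn _ x hx => by
    obtain ⟨k, hk, e, h3⟩ := h1 (δ n)
    rw [mem_fixS, show n * x * n⁻¹ = k * ((k⁻¹ * n)⁻¹⁻¹ * x * (k⁻¹ * n)⁻¹) * k⁻¹ by group, map_mul, map_mul, map_inv, h3,
      hα i _ (H_X C hn0 ht (inv_mem (N_eq' C hk hn e)) hx)]
  have h3 : P ∅ ≤ fixS α := fun b hb => by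
    obtain ⟨u, hu, t, ht', rfl⟩ := C.fac b hb
    refine mul_mem (h2 hu) (mul_inv_eq_one.1 (C.cent_H (mul_mem ht' (inv_mem ((mp_H C hn0 ht h t).2 ht'))) fun v hv => ?_)).symm
    have := mem_fixS.1 (h2 (C.B_conj (C.H_le ht') v hv))
    rw [map_mul, map_mul, map_inv, mem_fixS.1 (h2 hv)] at this
    rw [mul_assoc, eq_mul_inv_of_mul_eq this]; group
  exact MulEquiv.ext fun g => C.P_le (M := fixS α) (J := Set.univ) h3 (fun i _ => ⟨m i, hf i, e i⟩) (C.univ ▸ Subgroup.mem_top g)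

variable [Fact p.Prime]

theorem exists_conj (α : MulAut G) : ∃ g, MulAut.conj g * α ∈ A0 U (cj n0 U) := by
  obtain ⟨g, hg⟩ := C.exists_conj (α • C.syl)
  obtain ⟨β, hβ⟩ : ∃ β, β = MulAut.conj g⁻¹ * α := ⟨_, rfl⟩
  have h1 : Mp β U U := fun x => by
    rw [hβ, MulAut.mul_apply, MulAut.conj_apply, inv_inv, ← hg]
    exact Subgroup.smul_mem_pointwise_smul_iff (a := α) (S := U)
  obtain ⟨u, hu, n, hn, v, hv, e, -⟩ := C.exists_un (β n0)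
  have h2 : Mp (MulAut.conj u⁻¹ * β) U U := fun x => by
    rw [MulAut.mul_apply, MulAut.conj_apply, inv_inv, conj_U C (C.U_le hu), h1]
  have h3 : Mp (MulAut.conj u⁻¹ * β) (cj n0 U) (cj n U) := fun x => by
    rw [mem_cj, mem_cj, ← h1 (_ * x * _), ← conj_U C (C.U_le hv)]; simp [e, mul_assoc]
  have h4 : δ n0 = δ n := by
    refine top_unique C.cox ht ⟨C.cox.par_univ ▸ Subgroup.mem_top _, fun t _ a => ?_⟩
    obtain ⟨x, hx, h0⟩ := C.exists_x t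
    have h5 := C.opp hn0 ht ((h2.inv _).2 (C.X_conj t _ (inv_mem hn) (C.inv n ▸ a) x hx))
      (C.U_le (mem_cj.1 ((h3.inv _).2 (mem_cj.2 (by simpa [mul_assoc] using C.X_le t hx)))))
    exact h0 (by simpa [conj_eq_one_iff] using h5)
  exact ⟨u⁻¹ * g⁻¹, by
    rw [map_mul, mul_assoc, ← hβ]; exact ⟨h2, fun x => by rw [← h3 x, mem_cj, mem_cj, cj_congr C hn0 hn h4]⟩⟩

theorem card_out : Nat.card (Out G) * Nat.card H = Nat.card (A0 U (cj n0 U)) := by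
  let φ : A0 U (cj n0 U) →* Out G := (QuotientGroup.mk' _).comp (Subgroup.subtype _)
  have h1 : Function.Surjective φ := fun a => by
    obtain ⟨α, rfl⟩ := QuotientGroup.mk'_surjective _ a
    obtain ⟨g, hg⟩ := exists_conj C hn0 ht α
    refine ⟨⟨_, hg⟩, show QuotientGroup.mk' _ (_ * α) = _ from ?_⟩
    rw [map_mul, QuotientGroup.mk'_apply, (QuotientGroup.eq_one_iff (N := Inn _) _).2 ⟨g, rfl⟩, one_mul]
  have h2 : Function.Injective (MulAut.conj : G →* MulAut G) := (injective_iff_map_eq_one _).2 fun g h => C.core g fun y => by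
    have h3 := (conj_mem_A0 C hn0 ht).1 (h ▸ one_mem _)
    have := DFunLike.congr_fun h y⁻¹
    rw [MulAut.conj_apply, MulAut.one_apply, mul_inv_eq_iff_eq_mul] at this
    rw [← this]; simpa using C.H_le h3
  rw [← φ.ker.card_mul_index, Subgroup.index_ker, MonoidHom.range_eq_top.2 h1, Subgroup.card_top, mul_comm]
  congr 1
  refine Nat.card_eq_of_bijective (fun y => ⟨⟨MulAut.conj y.1, (conj_mem_A0 C hn0 ht).2 y.2⟩,
    (QuotientGroup.eq_one_iff _).2 ⟨_, rfl⟩⟩) ⟨fun a b h => Subtype.ext (h2 (congrArg (fun α => α.1.1) h)), fun α => ?_⟩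
  obtain ⟨g, hg⟩ := (QuotientGroup.eq_one_iff _).1 α.2
  exact ⟨⟨g, (conj_mem_A0 C hn0 ht).1 (hg ▸ α.1.2)⟩, Subtype.ext (Subtype.ext hg)⟩

omit [Fact p.Prime] in
theorem fix_L {α : MulAut G} (h : α ∈ A0 U (cj n0 U)) {i : ι} (hα : ∀ x ∈ X i, α x = x) : X i ⊔ Yg ν X i ≤ fixS α :=
  sup_le hα (fix_Y C hn0 ht h hα).1

omit [Fact p.Prime] in
/-- the permutation of the nodes induced by an automorphism -/
theorem exists_perm' {α : MulAut G} (h : α ∈ A0 U (cj n0 U)) : ∃ π : ι → ι, Function.Injective π ∧ (∀ i, Mp α (X i) (X (π i))) ∧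
    ∀ i j, s (π i) * s (π j) = s (π j) * s (π i) → s i * s j = s j * s i := by
  choose π h1 h2 h3 using exists_perm C hn0 ht h
  refine ⟨π, fun i j e => ?_, h1, fun i j e => ?_⟩
  · obtain ⟨x, hx, h0⟩ := C.exists_x i
    exact X_disj C hx ((h1 j x).1 (e ▸ (h1 i x).2 hx)) h0
  have a := h3 i _ (C.nu_mem i) (C.nu i)
  have b := h3 j _ (C.nu_mem j) (C.nu j)
  have c := C.N_eq (mul_mem a.1 b.1) (mul_mem b.1 a.1) (by rw [C.mul _ a.1 _ b.1, C.mul _ b.1 _ a.1, a.2, b.2, e])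
  rw [← map_mul, ← map_mul, ← map_inv, ← map_mul, mp_H C hn0 ht h] at c
  rw [← C.nu, ← C.nu, ← C.mul _ (C.nu_mem i) _ (C.nu_mem j), ← C.mul _ (C.nu_mem j) _ (C.nu_mem i), ← C.left (C.H_le c), inv_mul_cancel_right]

omit C hn0 ht [Finite G] [Fact p.Prime]
open H12

variable {F : Type*} [Field F]

/-- `x`, `y` parametrise a pair of opposite root groups of type `SL₂` -/
structure Nd (N X Y : Subgroup G) (x y : F → G) : Prop extends SL2Rel x y where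
  mem : ∀ g, g ∈ X ↔ ∃ t, x t = g
  inj : ∀ t, x t = 1 → t = 0
  wN : ∀ t ≠ 0, wEl x y t ∈ N
  yY : ∀ t, y t ∈ Y

theorem lin_of_trans {x : F → G} {α : MulAut G} (h0 : x 0 = 1) (h : ∃ c, α (x 1) = x c)
    (hT : ∀ t ≠ 0, ∃ y, α y = y ∧ ∀ u, y * x u * y⁻¹ = x (t * u)) : ∃ c, ∀ u, α (x u) = x (c * u) := by
  obtain ⟨c, h⟩ := h
  refine ⟨c, fun u => ?_⟩
  by_cases hu : u = 0
  · simp [hu, h0]
  obtain ⟨y, h1, h2⟩ := hT u hu
  rw [mul_comm, ← h2, ← h, ← mul_one u, ← h2, map_mul, map_mul, map_inv, h1]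

namespace Nd
variable {x y : F → G} {i : ι} (R : Nd N (X i) (Yg ν X i) x y)
include R

theorem xX (t : F) : x t ∈ X i := (R.mem _).2 ⟨t, rfl⟩

theorem x_inj {t u : F} (h : x t = x u) : t = u :=
  sub_eq_zero.1 (R.inj _ (by rw [sub_eq_add_neg, R.hx, R.x_neg, h, mul_inv_cancel]))

theorem w_mem (t : F) : wEl x y t ∈ X i ⊔ Yg ν X i :=
  mul_mem (Subgroup.mul_mem_sup (R.xX _) (R.yY _)) (Subgroup.mem_sup_left (R.xX _))

theorem h_mem (t : F) : hEl x y t ∈ X i ⊔ Yg ν X i := mul_mem (R.w_mem _) (R.w_mem _)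

include C hn0 ht

theorem w_dl {t : F} (h : t ≠ 0) : δ (wEl x y t) = s i := by
  have h1 : X i ⊔ Yg ν X i ≤ P {i} := sup_le ((C.X_le i).trans (C.U_le.trans (C.B_le _))) fun _ a => ((mem_Y C hn0 ht).1 a).1
  refine (C.cell_i (h1 (R.w_mem t))).resolve_left fun a => one_ne_zero (R.inj 1 ?_)
  have h2 := C.B_conj' a _ (C.X_le i (R.xX 1))
  have h3 := C.opp hn0 ht h2 (C.U_le (mem_cj.1 ((mem_Y C hn0 ht).1 (R.hw t 1 h ▸ R.yY _)).2))
  exact conj_eq_one_iff.1 h3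

theorem h_H {t : F} (h : t ≠ 0) : hEl x y t ∈ H := by
  have := C.N_eq (R.wN 1 one_ne_zero) (R.wN t h) ((R.w_dl C hn0 ht one_ne_zero).trans (R.w_dl C hn0 ht h).symm)
  rwa [← R.w_neg] at this

theorem memY {g : G} : g ∈ Yg ν X i ↔ ∃ t, y t = g := by
  refine ⟨fun h => ?_, fun ⟨t, h⟩ => h ▸ R.yY t⟩
  obtain ⟨t, e⟩ := (R.mem _).1 ((conj_YX C hn0 ht (R.wN 1 one_ne_zero) (R.w_dl C hn0 ht one_ne_zero)).2 h)
  exact ⟨_, by rw [← R.hw 1 t one_ne_zero, e]; group⟩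

theorem exists_aut [Finite G] [Finite F] {α : MulAut G} (h : α ∈ A0 U (cj n0 U)) (hX : Mp α (X i) (X i)) :
    ∃ (c : Fˣ) (φ : F ≃+* F), ∀ t, α (x t) = x (c * φ t) := by
  obtain ⟨j, h1, h2, h3⟩ := exists_perm C hn0 ht h i
  have h0 : ∀ {t}, α (x t) = 1 → t = 0 := fun e => R.inj _ (by simpa using e)
  obtain rfl := X_disj C ((hX _).2 (R.xX 1)) ((h1 _).2 (R.xX 1)) fun e => one_ne_zero (h0 e)
  choose a ha using fun t => (R.mem _).1 ((hX _).2 (R.xX t))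
  have hn : ∀ t ≠ 0, α (wEl x y t) = wEl x y (a t) := fun t h4 => by
    obtain ⟨b, hb⟩ := (R.memY C hn0 ht).1 ((h2 _).2 (R.yY (-t⁻¹)))
    obtain ⟨e, rfl⟩ : ∃ e, b = -e⁻¹ := ⟨-b⁻¹, by simp⟩
    have he : e ≠ 0 := by
      rintro rfl
      rw [inv_zero, neg_zero, R.y_zero, eq_comm, map_eq_one_iff _ α.injective] at hb
      have := R.hw t t h4
      rw [show -(t⁻¹ ^ 2 * t) = -t⁻¹ by field_simp, hb] at this
      exact h4 (R.inj _ (conj_eq_one_iff.1 this))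
    have h5 : x (a t + -e) * wEl x y e * x (-e + a t) = 1 * α (wEl x y t) * 1 := by
      rw [R.hx, R.hx, wEl.eq_1 x y t, map_mul, map_mul, ← ha, ← hb, R.y_eq]; group
    obtain ⟨h6, h7, -⟩ := uniq C (R.xX _) (one_mem _) (R.xX _) (one_mem _) (R.wN e he) (h3 _ (R.wN t h4) (R.w_dl C hn0 ht h4)).1
      (R.w_dl C hn0 ht he) h5
    rw [← h7, add_neg_eq_zero.1 (R.inj _ h6)]
  have h4 : ∀ t ≠ 0, a t ≠ 0 := fun t h5 e => h5 (h0 (by rw [← ha, e, R.x_zero]))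
  have hc := h4 1 one_ne_zero
  have hadd : ∀ t u, a (t + u) = a t + a u := fun t u => R.x_inj (by rw [ha, R.hx, R.hx, map_mul, ha, ha])
  obtain ⟨f, hf⟩ := exists_ringEquiv (fun t => (a 1)⁻¹ * a t) (fun t u => by rw [hadd, mul_add])
    (fun t e => by_contra fun e' => h4 t e' (by simpa [hc] using e)) (inv_mul_cancel₀ hc) fun t u h5 => by
      have h6 := congrArg α (R.h_x t u h5)
      rw [map_mul, map_mul, ← ha, ← ha, hEl, R.w_neg, map_mul, map_inv, hn t h5, hn 1 one_ne_zero, ← R.w_neg, mul_assoc,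
        R.w_x _ _ (neg_ne_zero.2 hc), ← mul_assoc, R.w_y _ _ (h4 t h5), mul_assoc] at h6
      rw [← R.x_inj (mul_right_cancel h6)]; field_simp
  exact ⟨Units.mk0 _ hc, f, fun t => by rw [← ha, hf]; simp [hc]⟩

end Nd

end H11.Lx
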