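import Cfsg.Agent.H11.Untw

/-! Element orders from twisted tori (`Tws.exists_ord`, `exists_ord_p`) and the characteristic polynomials of the elements of
the Weyl group of type F₄ (`F4W.cases`). -/

namespace H11
open Cfsg Cfsg.Lie StSys Set

section gen
variable {M ι : Type*} [CommGroup M] [Fintype ι] [DecidableEq ι] {K : Type*} [Field K] {B : Matrix ι ι ℤ}

theorem orderOf_dvd_det {c : ι → M} (h : mact B c = c) : (orderOf c : ℤ) ∣ (B - 1).det := by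
  rw [orderOf_dvd_iff_zpow_eq_one, ← mact_adj, mact_sub_one.2 h, map_one]

theorem exists_prime_c [IsAlgClosed K] (h : ((B - 1).det : K) ≠ 0) {r : ℕ} (hr : r.Prime) (hd : (r : ℤ) ∣ (B - 1).det) :
    ∃ c : ι → Kˣ, mact B c = c ∧ orderOf c = r := by
  have h1 := card_ker_mact h
  have := Nat.finite_of_card_ne_zero (h1.trans_ne (Int.natAbs_ne_zero.2 fun e => h (by simp [e])))
  have := Fact.mk hr
  obtain ⟨c, hc⟩ := exists_prime_orderOf_dvd_card' (G := (mact (M := Kˣ) (B - 1)).ker) r (h1 ▸ Int.natCast_dvd.1 hd)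
  exact ⟨c, mact_sub_one.1 c.2, (Subgroup.orderOf_coe c).trans hc⟩

omit [DecidableEq ι] in
theorem chi_mact (c : ι → M) (y : ι → ℤ) : ∏ j, mact B c j ^ y j = ∏ i, c i ^ B.mulVec y i := by
  simp only [mact_apply, Matrix.mulVec, dotProduct, zpow_sum', ← Finset.prod_zpow, zpow_mul]
  exact Finset.prod_comm

end gen

variable {D : ChevalleyDatum} [Good D] [Cert D] {K G R : Type*} [Field K] [Group G] [Group R] {S : StSys D K G} {A : S.Gal}
  [IsAlgClosed K] [Uncountable K] {j : R →* G} (hj : Function.Injective j)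
include hj

theorem StSys.Tws.exists_ord {σ : MulAut G} {B : Matrix (Node D) (Node D) ℤ} (T : Tws A σ B) (hr : j.range = fixS σ) (w : Weyl D)
    {c : Node D → Kˣ} (hc : mact (B * corM w.1) c = c) : ∃ g : R, orderOf g = orderOf c := by
  obtain ⟨σ', z, T', h⟩ := T.exists_emb hr w
  obtain ⟨t, ht⟩ := T'.exists_T h hc
  exact ⟨t, by rw [← orderOf_injective _ T.inj, ← ht, orderOf_injective _ ((MulAut.conj z).injective.comp hj)]⟩

theorem StSys.Tws.exists_ord_p {τ : K ≃+* K} {q : ℕ} (hq : 1 < q) (hτ : ∀ t, τ t = t ^ q) {B : Matrix (Node D) (Node D) ℤ}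
    (T : Tws A (A.aut τ) B) (hr : j.range = fixS (A.aut τ)) (p : ℕ) [Fact p.Prime] [CharP K p] {w : Weyl D} {α : Root D}
    (hw : w.1 α = α) {c : Node D → Kˣ} (hc : mact (B * corM w.1) c = c) (h1 : chiOf c α = 1) (hp : p.Coprime (orderOf c)) :
    ∃ g : R, orderOf g = p * orderOf c := by
  obtain ⟨m, rfl⟩ := π_surjective (S := S) w
  obtain ⟨z, h⟩ := T.fr.exists_conj m.1
  obtain ⟨χ, -, hχ⟩ := acts_π m
  obtain ⟨t, ht⟩ := IsAlgClosed.exists_pow_nat_eq ((χ α)⁻¹ : K) (n := q - 1) (by omega)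
  have h0 : t ≠ 0 := fun e => by rw [e, zero_pow (by omega)] at ht; exact inv_ne_zero (χ α).ne_zero ht.symm
  have h2 : S.x α t ∈ fixS (MulAut.conj m.1 * A.aut τ) := by
    show m.1 * A.act τ _ * m.1⁻¹ = _
    rw [A.mor, hχ, hw]; congr 1
    show _ * τ t = _
    rw [hτ, ← Nat.sub_add_cancel hq.le, pow_succ, ht, mul_inv_cancel_left₀ (χ α).ne_zero]
  obtain ⟨g, hg⟩ := hr.ge ((h _).1 (mul_mem h2 ((T.conj m).mem_fix.2 hc)))
  have h3 : orderOf (S.x α t) = p := orderOf_eq_prime (by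
    have (n : ℕ) : S.x α t ^ n = S.x α (n * t) := by
      induction n with
      | zero => simp
      | succ n ih => rw [pow_succ, ih, S.add]; congr 1; push_cast; ring
    simp [this]) fun e => h0 (x_eq_one (S := S) (r := α) (by rw [e, map_one]))
  refine ⟨g, ?_⟩
  rw [← orderOf_injective j hj, hg, ← MulAut.conj_apply, (MulAut.conj z).orderOf_eq, Commute.orderOf_mul_eq_mul_orderOf_of_coprime,
    h3, orderOf_injective _ T.inj]
  · have := torS_conj A.hm c α t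
    rw [h1, Units.val_one, one_mul, mul_inv_eq_iff_eq_mul] at this
    exact this.symm
  · rwa [h3, orderOf_injective _ T.inj]

omit hj [Good D] [Cert D] [IsAlgClosed K] [Uncountable K]

namespace F4W

/-- a `2 × 2` minor -/
def mn (a : ℕ → ℕ → ℤ) (i j k l : ℕ) : ℤ := a i k * a j l - a i l * a j k
/-- determinant -/
def d4 (a : ℕ → ℕ → ℤ) : ℤ := mn a 0 1 0 1 * mn a 2 3 2 3 - mn a 0 1 0 2 * mn a 2 3 1 3 + mn a 0 1 0 3 * mn a 2 3 1 2 +
  mn a 0 1 1 2 * mn a 2 3 0 3 - mn a 0 1 1 3 * mn a 2 3 0 2 + mn a 0 1 2 3 * mn a 2 3 0 1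
/-- a principal `3 × 3` minor -/
def d3 (a : ℕ → ℕ → ℤ) (i j k : ℕ) : ℤ := a i i * mn a j k j k - a i j * mn a j k i k + a i k * mn a j k i j
/-- coefficients of the characteristic polynomial -/
def tp (a : ℕ → ℕ → ℤ) : ℤ × ℤ × ℤ × ℤ := (a 0 0 + a 1 1 + a 2 2 + a 3 3,
  mn a 0 1 0 1 + mn a 0 2 0 2 + mn a 0 3 0 3 + mn a 1 2 1 2 + mn a 1 3 1 3 + mn a 2 3 2 3,
  d3 a 0 1 2 + d3 a 0 1 3 + d3 a 0 2 3 + d3 a 1 2 3, d4 a)
/-- the reversed characteristic polynomial -/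
def cp4 (t : ℤ × ℤ × ℤ × ℤ) (q : ℤ) : ℤ := 1 - t.1 * q + t.2.1 * q ^ 2 - t.2.2.1 * q ^ 3 + t.2.2.2 * q ^ 4
/-- matrix times vector -/
def mv (a : ℕ → ℕ → ℤ) (y : ℕ → ℤ) (i : ℕ) : ℤ := a i 0 * y 0 + a i 1 * y 1 + a i 2 * y 2 + a i 3 * y 3
/-- Krylov vectors -/
def kr (a : ℕ → ℕ → ℤ) (y : ℕ → ℤ) (k : ℕ) : ℕ → ℤ := Nat.rec y (fun _ ih => mv a ih) k
/-- the matrix -/
def mat (a : ℕ → ℕ → ℤ) : Matrix (Fin 4) (Fin 4) ℤ := .of fun i j => a i j

theorem det_mat (a : ℕ → ℕ → ℤ) : (mat a).det = d4 a := by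
  simp [Matrix.det_succ_row_zero, Fin.sum_univ_succ, Fin.succAbove, mat, d4, mn]; ring

theorem det_cp (a : ℕ → ℕ → ℤ) (q : ℤ) : (q • 1 * mat a - 1).det = cp4 (tp a) q := by
  rw [show q • 1 * mat a - 1 = mat fun i j => q * a i j - if i = j then 1 else 0 by
    rw [smul_mul_assoc, one_mul]; ext i j; simp [mat, Matrix.one_apply, Fin.ext_iff], det_mat]
  simp [d4, mn, cp4, tp, d3]; ring

theorem kry {M : Type*} [CommGroup M] {a : ℕ → ℕ → ℤ} {y : ℕ → ℤ} {q : ℕ} {c : Fin 4 → M} (h : mact ((q : ℤ) • 1 * mat a) c = c)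
    (hq : ∀ t : M, t ^ q = 1 → t = 1) (h0 : ∏ j, c j ^ y j = 1) : (orderOf c : ℤ) ∣ d4 (kr a y) := by
  have h5 (k : ℕ) : ∏ j, c j ^ kr a y k j = 1 := by
    induction k with
    | zero => exact h0
    | succ k ih =>
      refine hq _ ?_
      rw [← ih]
      conv_rhs => rw [← h]
      rw [chi_mact, ← Finset.prod_pow]
      refine Finset.prod_congr rfl fun j _ => ?_
      rw [← zpow_natCast, ← zpow_mul, smul_mul_assoc, one_mul, Matrix.smul_mulVec, mul_comm]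
      simp [Matrix.mulVec, dotProduct, Fin.sum_univ_four, mat, kr, mv]
  rw [← det_mat, ← Matrix.det_transpose, orderOf_dvd_iff_zpow_eq_one, ← mact_adj, show mact (mat (kr a y)).transpose c = 1 from funext fun k => h5 k, map_one]

/-- packed table of the pairings -/
def prT : ℕ := 0x8db6d36d349369a4d328a45129228928924871b69b69a6934d349965228a2914512512416e34db4da4d26d264a4d948948a44a24a2099249236db6da4924924924924492492000006d38da69369a2522da44b49b45129144828969b71a4d34d945148b2d269a64a28a4412514db6e249a6d928a45169a4d364945240924a9234946da48c91b6924912400d244909220091389389365449b3224032520992902902808a35135132d289968411165048b2822822105234a34a16d250b6108a12c24896122122028939126cc49a4193140836624520c94802905138a265a89a08b2a08132d44504594102824a35222da5184896025216d284244b4022124939214936e00092924936e48092926002926d244b69244c6db4da44a2490da4912da48969a28b4d228b8da68b2d14482d348a2d345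14da25349948b7136516992812d265229b44a8924836cb24c8a25140824100db2c931249051241365964c5144a08120820d96592a24824a20932d92ca9128025204804cb64b29441268a68a68b45345a31b24345a29a2d14d14d14ca6526526532932e160b2932994994994ca6524ca4cb2926594cc0ca6594932ca4ca4992d245a4596922cb45885a2cb49165a45a48b45a2d22d22d169164331969168b48b48b45a29a29a2994d14ca6096e14ca68a65345345348289164b65a0121224044a44592d96905124125112cb2d84104841128a284b2cb6824a20924a12596d80824108a251484965b61249444a6d148b4992112d328b6a36522d26894da28a69945269904a2996534dc65149a6514d32524d92924d824944a4da6db84a49364a49b49100349124491b69249124011b69232469248140264a40c49b3224032520e24d95227124110822ca08a8996841116504d44cb5146a209101225848a50b6108a12c24d285b4a469440148148325241931408366249b31271272208141141165208b2a08132d44996a26a27140110910912d04896025216d288b6946946a400149024a4980092924936e48524db89272444924248a24b69a4d328a4512db4d251b6da28920a45144b4d349965228a2da69a4e36d325104a29128a6d264a4d94894d36934dc69b00000124924a4924924924924db6db72492424144944a4522522da44b49b49a4da6da71b20928928a29145148b2d269a6934d36d36e304925125149128a45169a4d369269b69b6dc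
/-- pairing plus two -/
def pt (r s : ℕ) : ℕ := lk prT 3 7 (Nat.add (Nat.mul 48 r) s)

theorem pt_eq : allLt 48 (fun r => allLt 48 fun s => fastF4.pr r s + 2 == pt r s) = true := by decide +kernel

/-- the fifteen polynomials with a small cyclotomic factor -/
def L15 : List (ℤ × ℤ × ℤ × ℤ) := [(0, 0, 0, -1), (-2, 2, -2, 1), (-1, 0, 1, -1), (1, 0, 1, 1), (1, 0, -1, -1), (-1, 0, -1, 1), (-2, 3, -2, 1), (0, -2, 0, 1), (-2, 0, 2, -1), (2, 0, -2, -1), (2, 2, 2, 1), (2, 3, 2, 1), (0, 2, 0, 1), (-4, 6, -4, 1), (4, 6, 4, 1)]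

/-- test at a leaf -/
noncomputable def leaf (a : ℕ → ℕ → ℤ) : Bool :=
  cond (tp a == (0, 0, 0, 1) || tp a == (0, -1, 0, 1)) (allLt 4 fun i => 8 % d4 (kr a (fastF4.wt (fastF4.sim i))) == 0) (L15.elem (tp a))

/-- the enumeration -/
noncomputable def chk (a : ℕ) : Bool := allLt 48 fun b => cond (Nat.beq (pt a b) 1 && Nat.beq (pt b a) 1)
  (allLt 48 fun c => cond (Nat.beq (pt b c) 0 && Nat.beq (pt a c) 2 && Nat.beq (pt c b) 1)
    (allLt 48 fun d => cond (Nat.beq (pt c d) 1 && Nat.beq (pt a d) 2 && Nat.beq (pt b d) 2 && Nat.beq (pt d c) 1)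
      (leaf fun i => fastF4.cor ([a, b, c, d].getD i 0)) true) true) true

theorem chk_all : allLt 48 chk = true := by decide +kernel

theorem l15 {t : ℤ × ℤ × ℤ × ℤ} (h : t ∈ L15) (q : ℤ) : cp4 t q ∣ ((q + 1) * (q ^ 3 - 1)) ^ 4 ∨ cp4 t q ∣ ((q - 1) * (q ^ 3 + 1)) ^ 4 ∨
    cp4 t q ∣ (q ^ 4 - 1) ^ 4 := by
  simp only [L15, List.mem_cons, List.not_mem_nil, or_false] at h
  obtain rfl | rfl | rfl | rfl | rfl | rfl | rfl | rfl | rfl | rfl | rfl | rfl | rfl | rfl | rfl := h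
  · exact .inr (.inr ⟨(1) * q ^ 0 + (-3) * q ^ 4 + (3) * q ^ 8 + (-1) * q ^ 12, by simp only [cp4]; ring⟩)
  · exact .inr (.inr ⟨(1) * q ^ 0 + (-2) * q ^ 1 + (2) * q ^ 2 + (-2) * q ^ 3 + (-1) * q ^ 4 + (4) * q ^ 5 + (-4) * q ^ 6 + (4) * q ^ 7 + (-1) * q ^ 8 + (-2) * q ^ 9 + (2) * q ^ 10 + (-2) * q ^ 11 + (1) * q ^ 12, by simp only [cp4]; ring⟩)
  · exact .inl ⟨(1) * q ^ 0 + (3) * q ^ 1 + (3) * q ^ 2 + (-2) * q ^ 3 + (-9) * q ^ 4 + (-9) * q ^ 5 + (9) * q ^ 7 + (9) * q ^ 8 + (2) * q ^ 9 + (-3) * q ^ 10 + (-3) * q ^ 11 + (-1) * q ^ 12, by simp only [cp4]; ring⟩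
  · exact .inl ⟨(1) * q ^ 0 + (5) * q ^ 1 + (11) * q ^ 2 + (12) * q ^ 3 + (1) * q ^ 4 + (-17) * q ^ 5 + (-26) * q ^ 6 + (-17) * q ^ 7 + (1) * q ^ 8 + (12) * q ^ 9 + (11) * q ^ 10 + (5) * q ^ 11 + (1) * q ^ 12, by simp only [cp4]; ring⟩
  · exact .inr (.inl ⟨(1) * q ^ 0 + (-3) * q ^ 1 + (3) * q ^ 2 + (2) * q ^ 3 + (-9) * q ^ 4 + (9) * q ^ 5 + (-9) * q ^ 7 + (9) * q ^ 8 + (-2) * q ^ 9 + (-3) * q ^ 10 + (3) * q ^ 11 + (-1) * q ^ 12, by simp only [cp4]; ring⟩)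
  · exact .inr (.inl ⟨(1) * q ^ 0 + (-5) * q ^ 1 + (11) * q ^ 2 + (-12) * q ^ 3 + (1) * q ^ 4 + (17) * q ^ 5 + (-26) * q ^ 6 + (17) * q ^ 7 + (1) * q ^ 8 + (-12) * q ^ 9 + (11) * q ^ 10 + (-5) * q ^ 11 + (1) * q ^ 12, by simp only [cp4]; ring⟩)
  · exact .inl ⟨(1) * q ^ 0 + (2) * q ^ 1 + (-1) * q ^ 2 + (-6) * q ^ 3 + (-5) * q ^ 4 + (4) * q ^ 5 + (10) * q ^ 6 + (4) * q ^ 7 + (-5) * q ^ 8 + (-6) * q ^ 9 + (-1) * q ^ 10 + (2) * q ^ 11 + (1) * q ^ 12, by simp only [cp4]; ring⟩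
  · exact .inl ⟨(1) * q ^ 0 + (4) * q ^ 1 + (8) * q ^ 2 + (8) * q ^ 3 + (-12) * q ^ 5 + (-18) * q ^ 6 + (-12) * q ^ 7 + (8) * q ^ 9 + (8) * q ^ 10 + (4) * q ^ 11 + (1) * q ^ 12, by simp only [cp4]; ring⟩
  · exact .inl ⟨(1) * q ^ 0 + (2) * q ^ 1 + (2) * q ^ 2 + (-2) * q ^ 3 + (-6) * q ^ 4 + (-6) * q ^ 5 + (6) * q ^ 7 + (6) * q ^ 8 + (2) * q ^ 9 + (-2) * q ^ 10 + (-2) * q ^ 11 + (-1) * q ^ 12, by simp only [cp4]; ring⟩
  · exact .inl ⟨(1) * q ^ 0 + (6) * q ^ 1 + (18) * q ^ 2 + (34) * q ^ 3 + (42) * q ^ 4 + (30) * q ^ 5 + (-30) * q ^ 7 + (-42) * q ^ 8 + (-34) * q ^ 9 + (-18) * q ^ 10 + (-6) * q ^ 11 + (-1) * q ^ 12, by simp only [cp4]; ring⟩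
  · exact .inr (.inr ⟨(1) * q ^ 0 + (2) * q ^ 1 + (2) * q ^ 2 + (2) * q ^ 3 + (-1) * q ^ 4 + (-4) * q ^ 5 + (-4) * q ^ 6 + (-4) * q ^ 7 + (-1) * q ^ 8 + (2) * q ^ 9 + (2) * q ^ 10 + (2) * q ^ 11 + (1) * q ^ 12, by simp only [cp4]; ring⟩)
  · exact .inr (.inl ⟨(1) * q ^ 0 + (-2) * q ^ 1 + (-1) * q ^ 2 + (6) * q ^ 3 + (-5) * q ^ 4 + (-4) * q ^ 5 + (10) * q ^ 6 + (-4) * q ^ 7 + (-5) * q ^ 8 + (6) * q ^ 9 + (-1) * q ^ 10 + (-2) * q ^ 11 + (1) * q ^ 12, by simp only [cp4]; ring⟩)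
  · exact .inr (.inr ⟨(1) * q ^ 0 + (-2) * q ^ 2 + (-1) * q ^ 4 + (4) * q ^ 6 + (-1) * q ^ 8 + (-2) * q ^ 10 + (1) * q ^ 12, by simp only [cp4]; ring⟩)
  · exact .inl ⟨(1) * q ^ 0 + (-4) * q ^ 3 + (6) * q ^ 6 + (-4) * q ^ 9 + (1) * q ^ 12, by simp only [cp4]; ring⟩
  · exact .inl ⟨(1) * q ^ 0 + (8) * q ^ 1 + (32) * q ^ 2 + (84) * q ^ 3 + (160) * q ^ 4 + (232) * q ^ 5 + (262) * q ^ 6 + (232) * q ^ 7 + (160) * q ^ 8 + (84) * q ^ 9 + (32) * q ^ 10 + (8) * q ^ 11 + (1) * q ^ 12, by simp only [cp4]; ring⟩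

theorem exists_leaf (w : Weyl chevF4) : ∃ a, corM w.1 = mat a ∧ leaf a = true := by
  have hp (r s : Root chevF4) : pt r s = (pair r s + 2).toNat := by
    have := beq_iff_eq.1 (allLt_spec (allLt_spec pt_eq r.2) s.2)
    rw [agreeF4.pair_eq]; exact (congrArg Int.toNat this).symm
  have h (i k : Fin 4) : pt (w.1 (sroot i)) (w.1 (sroot k)) = ![![4, 1, 2, 2], ![1, 4, 0, 2], ![2, 1, 4, 1], ![2, 2, 1, 4]] i k := by
    rw [hp, (Weyl_le w.2 : w.1 ∈ RootAut _) _ _, ← hp]; revert i k; decide +kernel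
  refine ⟨fun i => fastF4.cor ([w.1 (sroot (0 : Fin 4)), w.1 (sroot (1 : Fin 4)), w.1 (sroot (2 : Fin 4)), w.1 (sroot (3 : Fin 4))].map
    Fin.val |>.getD i 0), Matrix.ext fun (i : Fin 4) k => (agreeF4.cor_eq _ _).trans (by fin_cases i <;> rfl), ?_⟩
  have k {b x : Bool} (h : (bif b then x else true) = true) (e : b = true) : x = true := by rwa [e] at h
  exact k (allLt_spec (k (allLt_spec (k (allLt_spec (allLt_spec chk_all (w.1 (sroot (0 : Fin 4))).2) (w.1 (sroot (1 : Fin 4))).2)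
    (by rw [h, h]; rfl)) (w.1 (sroot (2 : Fin 4))).2) (by rw [h, h, h]; rfl)) (w.1 (sroot (3 : Fin 4))).2) (by rw [h, h, h, h]; rfl)

theorem det_wp (l : List (Node chevF4)) (q : ℤ) : (q • 1 * corM (wp sW l : Weyl chevF4).1 - 1).det =
    cp4 (tp fun i => fastF4.cor ((l.map Fin.val).foldr fastF4.rf (fastF4.sim i))) q := by
  rw [← det_cp]; congr 3
  exact Matrix.ext fun i k => (agreeF4.cor_eq _ _).trans (by rw [agreeF4.wp_val, agreeF4.sv]; rfl)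

variable {K : Type*} [Field K] {w : Weyl chevF4} {q : ℕ} {c : Node chevF4 → Kˣ} (h : mact ((q : ℤ) • 1 * corM w.1) c = c)
include h

theorem cases0 :
    ((orderOf c : ℤ) ∣ ((q + 1) * (q ^ 3 - 1)) ^ 4 ∨ (orderOf c : ℤ) ∣ ((q - 1) * (q ^ 3 + 1)) ^ 4 ∨ (orderOf c : ℤ) ∣ (q ^ 4 - 1) ^ 4) ∨
      ((orderOf c : ℤ) ∣ q ^ 4 + 1 ∨ (orderOf c : ℤ) ∣ q ^ 4 - q ^ 2 + 1) ∧
        ((∀ t : Kˣ, t ^ q = 1 → t = 1) → ∀ i, chiOf c (sroot i) = 1 → orderOf c ∣ 8) := by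
  obtain ⟨a, h1, h2⟩ := exists_leaf w
  rw [h1] at h
  have h3 := (orderOf_dvd_det h).trans (det_cp a q).dvd
  unfold leaf at h2
  generalize hb : (tp a == (0, 0, 0, 1) || tp a == (0, -1, 0, 1)) = b at h2
  cases b
  · exact .inl ((l15 (List.mem_of_elem_eq_true h2) q).imp h3.trans (.imp h3.trans h3.trans))
  refine .inr ⟨?_, fun hq i hi => ?_⟩
  · simp only [Bool.or_eq_true, beq_iff_eq] at hb
    refine hb.imp (fun e => ?_) fun e => ?_ <;> rw [e] at h3 <;> refine h3.trans (Dvd.intro 1 ?_) <;> simp only [cp4] <;> ring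
  rw [cond_true] at h2
  exact Int.natCast_dvd_natCast.1 ((kry h hq (hi ▸ Finset.prod_congr rfl fun j _ => congrArg _ (by
    rw [← agreeF4.sv]; exact (agreeF4.wt_eq _ j).symm))).trans (Int.dvd_of_emod_eq_zero (beq_iff_eq.1 (allLt_spec (n := 4) h2 i.2))))

theorem cases1 (hq : ∀ t : Kˣ, t ^ q = 1 → t = 1) {r : Root chevF4} (hr : chiOf c r = 1) :
    ((orderOf c : ℤ) ∣ ((q + 1) * (q ^ 3 - 1)) ^ 4 ∨ (orderOf c : ℤ) ∣ ((q - 1) * (q ^ 3 + 1)) ^ 4 ∨ (orderOf c : ℤ) ∣ (q ^ 4 - 1) ^ 4) ∨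
      orderOf c ∣ 8 := by
  obtain ⟨v, i, rfl⟩ := exists_weyl_sroot r
  have h1 : orderOf (mact (corM v⁻¹.1) c) = orderOf c := orderOf_injective _ (Function.LeftInverse.injective (g := mact (corM v.1))
    fun x => by rw [← mact_mul, ← corM_mul', mul_inv_cancel]; exact (congrArg (mact · x) corM_one).trans (mact_one x)) c
  rw [← h1]
  refine (cases0 (w := v⁻¹ * w * v) ?_).imp_right fun e => e.2 hq i ?_
  · conv_rhs => rw [← h]
    rw [← mact_mul, ← mact_mul, smul_mul_assoc, smul_mul_assoc, smul_mul_assoc, mul_smul_comm, one_mul, one_mul, ← corM_mul',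
      ← corM_mul', mul_inv_cancel_right]
  · rw [← hr, ← chiOf_mact (Weyl.aut v⁻¹) c]; simp

end F4W
end H11
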