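import Cfsg.Agent.H11.TwEmb

/-! The small Ree groups: the four classes of maximal tori (`RT`, `RS`) and the summary `Ree.exists_all`. -/

namespace H11
open Cfsg Cfsg.Lie StSys Set G2

variable {K : Type*} [Field K] {G R : Type*} [Group G] [Group R]

/-- a maximal torus of order `s * o` (`o` odd) with normaliser of order `k * (s * o)` -/
structure RT (T : Subgroup R) (s o k : ℕ) : Prop where
  comm : ∀ a ∈ T, ∀ b ∈ T, Commute a b
  card : Nat.card T = s * o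
  exp : ∀ t ∈ T, t ^ (2 * o) = 1
  cent : ∀ t ∈ T, t ^ 2 ≠ 1 → Subgroup.centralizer {t} = T
  norm : ∀ t ∈ T, t ^ 2 ≠ 1 → Nat.card (Subgroup.normalizer (T : Set R)) = k * (s * o)
  cyc : ∀ A ≤ T, Odd (Nat.card A) → IsCyclic A

/-- odd parts of the orders of the tori -/
def ro (k : ℕ) : Fin 4 → ℕ := ![6 * k ^ 2 + 6 * k + 1, 3 * k ^ 2 + 3 * k + 1, 12 * k ^ 2 + 6 * k + 1, 12 * k ^ 2 + 18 * k + 7]
/-- even parts of the orders of the tori -/
def rs : Fin 4 → ℕ := ![2, 4, 1, 1]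
/-- automiser orders -/
def rk : Fin 4 → ℕ := ![2, 6, 6, 6]

/-- the semisimple classes of a small Ree group -/
structure RS (k : ℕ) (T : Fin 4 → Subgroup R) : Prop where
  tor : ∀ i, RT (T i) (rs i) (ro k i) (rk i)
  conj : ∀ g : R, ¬ 3 ∣ orderOf g → g ^ 2 ≠ 1 → ∃ i y, y * g * y⁻¹ ∈ T i
  inv : ∀ a b : R, orderOf a = 2 → orderOf b = 2 → IsConj a b

theorem odd_ro (k : ℕ) (i : Fin 4) : Odd (ro k i) := by
  have := Nat.even_iff.1 (Nat.even_mul_succ_self k)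
  rw [Nat.odd_iff]; fin_cases i <;> simp [ro, mul_add, ← sq] at this ⊢ <;> omega

theorem three_ro (k : ℕ) (i : Fin 4) : ¬ 3 ∣ rs i * ro k i := by fin_cases i <;> simp [ro, rs] <;> omega

theorem pi_pow_eq_one {ι : Type*} (p : ℕ) [Fact p.Prime] [CharP K p] {c : ι → Kˣ} (n : ℕ) (h : c ^ p ^ n = 1) : c = 1 := by
  induction n generalizing c with
  | zero => simpa using h
  | succ n ih => exact funext fun i => unit_pow p (congrFun (ih (c := c ^ p) (by rw [← pow_mul, ← pow_succ', h])) i)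

namespace Ree

/-- the twisting matrices -/
def gC : Fin 4 → M2 := ![m2 0 3 1 0, m2 3 6 (-2) (-3), m2 3 3 (-1) 0, m2 (-3) (-3) 1 0]
/-- the adjugates -/
def gX (k : ℤ) : Fin 4 → M2 := ![m2 1 (6 * k + 3) (2 * k + 1) 1, m2 (-3 * k - 2) (-6 * k - 3) (2 * k + 1) (3 * k + 1),
  m2 (-2) (-12 * k - 6) (4 * k + 2) (12 * k + 4), m2 (-2) (12 * k + 6) (-4 * k - 2) (-12 * k - 8)]

theorem gC_mem : ∀ i, ∃ M ∈ gW, gC i = gC 0 * M := by decide +kernel
theorem gC_conj : ∀ M ∈ gW, ∃ i, ∃ N ∈ gW, N * gC i = gC 0 * M * N := by decide +kernel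
theorem gC_reg : ∀ i, ∀ M ∈ gW, M = 1 ∨ ∃ j, (M - 1) (nd _ 0) j * (gC i * (M - 1)) (nd _ 1) j -
  (M - 1) (nd _ 1) j * (gC i * (M - 1)) (nd _ 0) j ∣ 72 := by decide +kernel
theorem gC_card : ∀ i, (gW.filter fun M => M * gC i = gC i * M).length = rk i := by decide +kernel
theorem gC_ten : ∀ i, gC i (nd _ 1) (nd _ 0) ∣ 2 * 3 := by decide +kernel
theorem gC_det : ∀ i, (gC i).det ≠ 0 := by simp only [det_mk]; decide +kernel

theorem gW_one : ∀ M ∈ gW, ∀ s ∈ [rt chevG2 8, rt _ 10], ∀ s' ∈ [rt chevG2 8, rt _ 10],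
    cor s = Matrix.vecMul (cor (rt chevG2 8)) M → cor s' = Matrix.vecMul (cor (rt chevG2 10)) M → M = 1 := by decide +kernel

theorem gX_eq (k : ℕ) (i : Fin 4) : ((2 * k + 1 : ℤ) • gC i - 1) * gX k i = ((2 * ro k i : ℕ) : ℤ) • (1 : M2) := by
  fin_cases i <;> simp [gC, gX, ro, m2_one, m2_smul, m2_sub, m2_mul, m2_inj, -zsmul_eq_mul] <;> and_intros <;> ring

theorem det_gC (k : ℕ) (i : Fin 4) : ((2 * k + 1 : ℤ) • gC i - 1).det.natAbs = rs i * ro k i := by
  rw [Int.natAbs_eq_iff]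
  fin_cases i <;> [right; left; left; left] <;> simp [gC, rs, ro, m2_one, m2_smul, m2_sub, det_m2, -zsmul_eq_mul] <;> ring

variable [IsAlgClosed K] [Uncountable K] [CharP K 3] [Finite R] {S : StSys chevG2 K G} {A : S.Gal} {σ : MulAut G} {j : R →* G} {k m : ℕ}
  (hk : 3 ^ m = 2 * k + 1)
include hk

omit [IsAlgClosed K] [Uncountable K] in
theorem wreg {i} {c : Node chevG2 → Kˣ} (hc : mact ((2 * k + 1 : ℤ) • gC i) c = c) (h : c ^ 2 ≠ 1) : WReg c := fun w hw => by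
  have : Fact (Nat.Prime 3) := ⟨Nat.prime_three⟩
  have h1 := mact_corM_of_chi cartan_inj hw
  have h2 : mact (gC i * (corM w.1 - 1)) c = 1 := pi_pow_eq_one 3 m (by
    rw [hk, ← zpow_natCast, ← mact_smul, ← smul_mul_assoc, mact_mul]; push_cast; rw [hc, h1])
  obtain e | ⟨l, d, e⟩ := gC_reg i _ (mem_gW w)
  · exact corM_inj (e.trans corM_one.symm)
  have h3 := two_vec (c := c) ((mact_mk _ c l).symm.trans (congrFun h1 l)) ((mact_mk _ c l).symm.trans (congrFun h2 l))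
  have h4 : (c ^ 2) ^ 4 = 1 := pi_pow_eq_one 3 2 (by
    rw [← pow_mul, ← pow_mul, ← zpow_natCast, show ((2 * (4 * 3 ^ 2) : ℕ) : ℤ) = 72 from rfl, e, zpow_mul]
    exact (congrArg (· ^ d) h3).trans (one_zpow _))
  have h5 : (c ^ 2) ^ ro k i = 1 := by
    rw [← pow_mul, ← zpow_natCast, ← mact_one c, ← mact_smul, ← gX_eq, mact_mul, mact_sub_one.2 hc, map_one]
  exact (h (orderOf_eq_one_iff.1 (Nat.eq_one_of_dvd_coprimes ((odd_ro k i).coprime_two_left.pow_left 2)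
    (orderOf_dvd_of_pow_eq_one h4) (orderOf_dvd_of_pow_eq_one h5)))).elim

theorem rtor {i} (T : Tws A σ ((2 * k + 1 : ℤ) • gC i)) (hj : Function.Injective j) (hr : j.range = fixS σ) :
    RT (S.H.comap j) (rs i) (ro k i) (rk i) := by
  have : Fact (Nat.Prime 3) := ⟨Nat.prime_three⟩
  have h0 : (2 * k + 1 : ℤ) ≠ 0 := by omega
  have h1 : Nat.card (S.H.comap j) = rs i * ro k i := by
    rw [T.card_T hj hr, det_gC]
    rw [Ne, CharP.intCast_eq_zero_iff K 3, Int.natCast_dvd, det_gC]; exact three_ro k i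
  have h2 {t c} (e : j t = torS A.hm c) (n : ℕ) : t ^ n = 1 ↔ c ^ n = 1 := by
    rw [← map_eq_one_iff _ hj, map_pow, e, ← map_pow, map_eq_one_iff _ T.inj]
  refine ⟨fun a ha b hb => ?_, h1, fun t ht => ?_, fun t ht h => ?_, fun t ht h => ?_, fun B hB h => ?_⟩
  · obtain ⟨c, -, e⟩ := (T.mem_T hr).1 ha
    obtain ⟨c', -, e'⟩ := (T.mem_T hr).1 hb
    exact hj (by rw [map_mul, map_mul, e, e', ← map_mul, ← map_mul, mul_comm])
  · obtain ⟨c, hc, e⟩ := (T.mem_T hr).1 ht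
    rw [h2 e, ← zpow_natCast, ← mact_one c, ← mact_smul, ← gX_eq, mact_mul, mact_sub_one.2 hc, map_one]
  · obtain ⟨c, hc, e⟩ := (T.mem_T hr).1 ht
    exact Tws.cent_T (A := A) hj e (wreg hk hc (mt (h2 e 2).2 h))
  · obtain ⟨c, hc, e⟩ := (T.mem_T hr).1 ht
    rw [T.card_norm hj hr (by rw [Matrix.det_smul]; exact mul_ne_zero (pow_ne_zero _ h0) (gC_det i)) e (wreg hk hc (mt (h2 e 2).2 h)),
      h1, mul_comm, ← gC_card, ← card_gW]
    simp only [mul_smul_comm, smul_mul_assoc, smul_right_inj h0]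
  · choose c hc e using fun a : B => (T.mem_T hr).1 (hB a.2)
    refine isCyclic_of_injective_ringHom ((Units.coeHom K).comp (MonoidHom.mk' (fun a => c a (nd _ 0)) fun a b =>
      congrFun (T.inj (by rw [map_mul, ← e, ← e, ← e, ← map_mul]; rfl) : c (a * b) = c a * c b) _))
      (Units.val_injective.comp ((injective_iff_map_eq_one _).2 fun a ha => ?_))
    have h3 := congrFun (hc a) (nd _ 0)
    obtain ⟨d, hd⟩ := gC_ten i
    rw [mact_mk, show c a (nd _ 0) = 1 from ha, one_zpow, one_mul, Matrix.smul_apply, smul_eq_mul] at h3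
    have h4 : c a ^ 2 = 1 := pi_pow_eq_one 3 (m + 1) (funext fun l => by
      rw [← pow_mul, ← zpow_natCast, pow_succ, hk, Pi.pow_apply]
      fin_cases l
      · exact (congrArg (· ^ _) ha).trans (one_zpow _)
      · have : ((2 * ((2 * k + 1) * 3) : ℕ) : ℤ) = (2 * k + 1) * gC i (nd _ 1) (nd _ 0) * d := by push_cast; rw [mul_assoc, ← hd]; ring
        rw [this, zpow_mul]; exact (congrArg (· ^ d) h3).trans (one_zpow _))
    exact orderOf_eq_one_iff.1 (Nat.eq_one_of_dvd_coprimes h.coprime_two_left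
      (orderOf_dvd_of_pow_eq_one (Subtype.ext ((h2 (e a) 2).2 h4))) (orderOf_dvd_natCard a))

omit [IsAlgClosed K] [Uncountable K] [Finite R] hk in
theorem sub_neg (hS : S.HMul) (hg : S.grp = ⊤) : ∃ Ψ, S.Sub Ψ (Subgroup.centralizer {torS hS fun _ => -1}) := by
  rw [← image_singleton]
  refine ⟨_, sub_cent hS hg fun n hn h => corM_inj (.trans ?_ corM_one.symm)⟩
  have h1 (r) (h1 : IsPos r) (h2 : Even (wt r (nd _ 0) + wt r (nd _ 1))) : (S.π n).1 r ∈ [rt chevG2 8, rt _ 10] := by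
    have h3 : (chiOf (fun _ => -1) r : Kˣ) = 1 := by rw [chi_neg, h2.neg_one_zpow]
    have h4 := (chiOf_π hS (m := n) (c' := fun _ => -1) (congrArg _ (mul_inv_eq_iff_eq_mul.2 (hn _ ⟨_, rfl, rfl⟩).symm)) r).trans h3
    have h5 := h r (by simpa using h3) h1
    generalize (S.π n).1 r = s at h4 h5
    rw [chi_neg] at h4
    by_contra e
    rw [Odd.neg_one_zpow (by clear * - h5 e; revert s; decide +kernel)] at h4
    have : Fact (2 < 3) := ⟨by decide⟩
    exact CharP.neg_one_ne_one K 3 (congrArg Units.val h4)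
  exact gW_one _ (mem_gW _) _
    (h1 _ (by decide) (by decide +kernel)) _ (h1 _ (by decide) (by decide +kernel)) (cor_aut (Weyl.aut _) _) (cor_aut (Weyl.aut _) _)

theorem rs' (T : Tws A σ ((2 * k + 1 : ℤ) • gC 0)) (hj : Function.Injective j) (hr : j.range = fixS σ) : ∃ T : Fin 4 → Subgroup R, RS k T := by
  have : Fact (Nat.Prime 3) := ⟨Nat.prime_three⟩
  choose M hM e using gC_mem
  choose w hw using fun i => exists_gW (hM i)
  choose σ' z T' hr' using fun i => T.exists_emb hr (w i)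
  simp only [hw, smul_mul_assoc, ← e] at T'
  have hj' (i) : Function.Injective ((MulAut.conj (z i)).toMonoidHom.comp j) := (MulAut.conj (z i)).injective.comp hj
  have h1 {a : R} (ha : orderOf a = 2) : ∃ y, j (y * a * y⁻¹) = torS A.hm fun _ => -1 := by
    obtain ⟨x, c, h1, -⟩ := T.semisimple hr 3 (g := a) (by rw [ha]; decide)
    have h2 : orderOf c = 2 := by
      rw [← orderOf_injective _ T.inj, ← h1, ← ha, ← orderOf_injective j hj]
      simpa using orderOf_injective (MulAut.conj x⁻¹).toMonoidHom (MulAut.conj x⁻¹).injective (j a)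
    obtain ⟨N, hN, h3⟩ : ∃ N ∈ gW, mact N c = fun _ => -1 := by
      have h3 (i) : c i = 1 ∨ c i = -1 := (sq_eq_one_iff.1
        (congrArg Units.val (congrFun (h2 ▸ pow_orderOf_eq_one c : c ^ 2 = 1) i) : (c i : K) ^ 2 = 1)).imp Units.ext Units.ext
      have h4 (N : M2) (h : ∀ l, c (nd _ 0) ^ N (nd _ 0) l * c (nd _ 1) ^ N (nd _ 1) l = -1) : mact N c = fun _ => -1 :=
        funext fun l => (mact_mk _ _ _).trans (h l)
      obtain h5 | h5 := h3 (nd _ 0) <;> obtain h6 | h6 := h3 (nd _ 1)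
      · exact absurd (h2.symm.trans (orderOf_eq_one_iff.2 (funext fun l => by fin_cases l; exacts [h5, h6]))) (by decide)
      · exact ⟨m2 (-1) 0 1 1, by decide +kernel, h4 _ (by simp [forall_nd, h5, h6])⟩
      · exact ⟨m2 1 3 0 (-1), by decide +kernel, h4 _ (by simp [forall_nd, h5, h6, zpow_ofNat]; norm_num)⟩
      · exact ⟨m2 1 0 0 1, by decide +kernel, h4 _ (by simp [forall_nd, h5, h6])⟩
    obtain ⟨v, rfl⟩ := exists_gW hN
    obtain ⟨x', h4⟩ := conj_mact A.hm v h1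
    obtain ⟨Ψ, h5⟩ := sub_neg A.hm A.gen
    refine T.conj_T hr (h3 ▸ h4) (funext fun l => ?_) h5
    rw [mact_smul, Pi.pow_apply, mact_mk, show (-1 : Kˣ) ^ gC 0 (nd _ 0) l * (-1) ^ gC 0 (nd _ 1) l = -1 by
      revert l; simp [forall_nd, gC, zpow_ofNat]; norm_num]
    exact Odd.neg_one_zpow ⟨k, rfl⟩
  refine ⟨fun i => S.H.comap _, fun i => rtor hk (T' i) (hj' i) (hr' i), fun g h3 h2 => ?_, fun a b ha hb => ?_⟩
  · obtain ⟨x, c, h4, v, h5⟩ := T.semisimple hr 3 h3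
    obtain ⟨i, N, hN, h6⟩ := gC_conj _ (mem_gW v)
    obtain ⟨u, rfl⟩ := exists_gW hN
    obtain ⟨x', h7⟩ := conj_mact A.hm u h4
    have h8 : mact ((2 * k + 1 : ℤ) • gC i) (mact (corM u.1) c) = mact (corM u.1) c := by
      rw [← mact_mul, mul_smul_comm, h6, ← smul_mul_assoc, ← smul_mul_assoc, mact_mul, h5]
    obtain ⟨y, hy⟩ := (T' i).conj_T (hr' i) (g := g) (x := z i * x') (by simpa [mul_assoc] using h7) h8 (Ψ := ∅) (by
      rw [cent_eq_H A.hm A.gen (wreg hk h8 fun e => h2 (hj ?_))]; exact sub_H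
      rw [map_pow, map_one, ← conj_eq_one_iff (a := x'⁻¹), ← conj_pow, inv_inv, h7, ← map_pow, e, map_one])
    exact ⟨i, y, show _ ∈ S.H from hy ▸ torS_mem _ _⟩
  · obtain ⟨y, e⟩ := h1 ha
    obtain ⟨y', e'⟩ := h1 hb
    exact (isConj_iff.2 ⟨y, hj (e.trans e'.symm)⟩).trans (isConj_iff.2 ⟨y', rfl⟩).symm

omit [IsAlgClosed K] [Uncountable K] [CharP K 3] [Finite R] hk in
theorem exists_emb.{u} {K : Type u} [Field K] [Fintype K] (hK : Fintype.card K = 3 ^ (2 * m + 1)) {θ : K ≃+* K} (F : ReeF 3 (3 ^ m) θ)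
    {σ} (h : IsTw (grpSys chevG2 K) σ exG2 θ) : ∃ (Ω : Type u) (_ : Field Ω) (_ : IsAlgClosed Ω) (_ : Uncountable Ω) (_ : CharP Ω 3) (φ : K →+* Ω),
      ∃ σ', Tws (galGrp chevG2 Ω) σ' ((3 ^ m : ℤ) • gC 0) ∧ (fixS σ).map (fieldHom _ φ) = fixS σ' := by
  have : Fact (Nat.Prime 3) := ⟨Nat.prime_three⟩
  obtain ⟨Ω, _, _, _, ⟨φ⟩⟩ := exists_unc K
  have := F.char
  have := (φ.charP_iff_charP 3).1 F.char
  obtain ⟨τ, h1, h2⟩ := exists_frobΩ φ
  obtain ⟨g, -, hg⟩ := gr_G2 (K := Ω) fun x => IsAlgClosed.exists_pow_nat_eq x (by decide)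
  have h3 := (isTw_mul hg (iterateFrobeniusEquiv Ω 3 m)).simpAct (π := flipG2) (fun i => [3, 1].getD i 0) (by decide +kernel)
    (f := fun i => iterateFrobeniusEquiv Ω 3 (m + [1, 0].getD i 0)) (forall_nd.2 ⟨fun t => pow_mul t (3 ^ m) 3,
      fun t => by simp⟩)
  generalize g * _ = σ' at h3
  have h4 (i t) : iterateFrobeniusEquiv Ω 3 (m + [1, 0].getD (flipG2 i) 0) (iterateFrobeniusEquiv Ω 3 (m + [1, 0].getD i 0) t) = τ t := by
    rw [h1, hK, iterateFrobeniusEquiv_def, iterateFrobeniusEquiv_def, ← pow_mul, ← pow_add]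
    congr 2; revert i; exact forall_nd.2 ⟨show m + 1 + m = _ by omega, show m + (m + 1) = _ by omega⟩
  have h5 : ∀ i, flipG2 (flipG2 i) = i := by decide
  have hm : σ' ^ 2 = (galGrp chevG2 Ω).aut τ := MulEquiv.toMonoidHom_injective (hom_ext_simple (grpSys_grp _ _)
    (fun i t => by simp [pow_succ, h3.pos, galGrp, ← h4 i, h5])
    fun i t => by simp [pow_succ, h3.neg, galGrp, ← h4 i, h5])
  refine ⟨Ω, _, inferInstance, inferInstance, this, φ, σ', ?_, (galGrp chevG2 Ω).map_fix hMul_grp (fieldHom_x φ) (fieldHom_injective _)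
    (tw F h (grpSys_grp _ _)) h3 (forall_nd.2 ⟨fun t => ?_, fun t => ?_⟩) h2 (fun _ t => (map_pow τ t _).symm) hm
    fun c _ e => torS_G2 _ (e.trans (map_one _).symm)⟩
  · convert h3.tws (A := galGrp chevG2 Ω) (torS_G2 _) (fun i t => iterateFrobeniusEquiv_def ..) Fintype.one_lt_card h1 hm
    rw [m2_eta (Matrix.of _)]
    exact (m2_smul ..).trans (m2_inj.2 ⟨⟨mul_zero _, by simp [pow_succ]; rfl⟩, by simp; rfl, mul_zero _⟩)
  · show φ t ^ 3 ^ (m + 1) = φ (θ t ^ 3); rw [F.eq, map_pow, map_pow, ← pow_mul, pow_succ]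
  · show φ t ^ 3 ^ m = φ (θ t); rw [F.eq, map_pow]

omit [IsAlgClosed K] [Uncountable K] [CharP K 3] [Finite R] hk in
/-- the inclusion in the Chevalley group -/
abbrev ι (K : Type*) [Field K] (e : ℕ) : twistedG2 K e →* chevG2.group K := Subgroup.inclusion (genSubgroup_le _)

omit [IsAlgClosed K] [Uncountable K] [CharP K 3] [Finite R] hk in
theorem exists_all [Fintype K] (hK : Fintype.card K = 3 ^ (2 * m + 1)) : ∃ k n a T, 3 ^ m = 2 * k + 1 ∧
    RB (3 ^ (2 * m + 1)) ((grpSys chevG2 K).U.comap (ι K (3 ^ m))) ((grpSys chevG2 K).H.comap (ι K _)) ((grpSys chevG2 K).B.comap (ι K _)) n a ∧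
    RS (R := twistedG2 K (3 ^ m)) k T ∧ ∃ φ : Matrix.SpecialLinearGroup (Fin 2) K →* twistedG2 K (3 ^ m),
      φ.ker = Subgroup.center _ ∧ (∀ g, Commute a (φ g)) ∧ a ∉ φ.range := by
  obtain ⟨θ, F, σ, h⟩ := exists_ree hK
  have hi : Function.Injective (ι K (3 ^ m)) := Subgroup.inclusion_injective _
  have hr : (ι K (3 ^ m)).range = fixS σ := (inclusion_range_gen _).trans (eq_fix F h (grpSys_θ_injective _ _) (grpSys_grp _ _))
  generalize ι K (3 ^ m) = j at hi hr ⊢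
  obtain ⟨n, a, h1, h2⟩ := rb F h (grpSys_θ_injective _ _) (grpSys_grp _ _) hi hr
  obtain ⟨k, hk⟩ : Odd (3 ^ m) := Odd.pow (by decide)
  obtain ⟨Ω, _, _, _, _, φ, σ', T, h3⟩ := exists_emb hK F h
  rw [show (3 ^ m : ℤ) = 2 * k + 1 by exact_mod_cast hk] at T
  obtain ⟨T, h4⟩ := rs' hk (j := (fieldHom chevG2 φ).comp j) T (fun _ _ e => hi (fieldHom_injective φ e)) (by rw [MonoidHom.range_comp, hr, h3])
  rw [Nat.card_eq_fintype_card, hK] at h2
  exact ⟨k, n, a, T, hk, h2, h4, exists_sl2 F h hi hr h1 h2.a1⟩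

end Ree
end H11
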