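import Cfsg.Agent.H11.Ree2
import Cfsg.Agent.H26.Syl
import Cfsg.Agent.H02.MinNormal
import Cfsg.Agent.H01.Coprime
import Cfsg.Agent.H09.SLBasic

/-! The small Ree groups, pure group theory I: counting lemmas (`card_ti`, `card_dvd_of_free`), consequences of `RB` and of `RT`. -/

namespace H11
open Subgroup H26

variable {R : Type*} [Group R]

theorem card_ti {M N : Subgroup R} (h : N ≤ M) {X Y : Set R} (h1 : ∀ g ∈ N, ∀ x ∈ X, g * x * g⁻¹ ∈ X)
    (h2 : ∀ g ∈ M, ∀ x ∈ X, g * x * g⁻¹ ∈ X → g ∈ N) (h3 : ∀ y, y ∈ Y ↔ ∃ g ∈ M, ∃ x ∈ X, g * x * g⁻¹ = y) :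
    Nat.card Y * Nat.card N = Nat.card M * Nat.card X := by
  choose g hg x hx e using fun y : Y => (h3 y).1 y.2
  rw [← Nat.card_prod, ← Nat.card_prod]
  refine Nat.card_eq_of_bijective (fun p => (⟨g p.1 * p.2, mul_mem (hg _) (h p.2.2)⟩, ⟨_, h1 _ (inv_mem p.2.2) _ (hx p.1)⟩))
    ⟨fun ⟨y, n⟩ ⟨y', n'⟩ e' => ?_, fun ⟨m, z⟩ => ?_⟩
  · simp only [Prod.mk.injEq, Subtype.mk.injEq] at e' ⊢
    obtain rfl : y = y' := Subtype.ext (by
      rw [← e, ← e, eq_mul_inv_of_mul_eq e'.1, show x y = n * (n.1⁻¹ * x y * n.1⁻¹⁻¹) * n.1⁻¹ by group, e'.2]; group)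
    exact ⟨rfl, Subtype.ext (mul_left_cancel e'.1)⟩
  · set y : Y := ⟨_, (h3 _).2 ⟨m, m.2, z, z.2, rfl⟩⟩
    have : (g y)⁻¹ * m * z * ((g y)⁻¹ * m)⁻¹ = x y := by
      rw [show _ * _ = (g y)⁻¹ * y.1 * g y by simp only [y]; group, ← e y]; group
    exact ⟨(y, ⟨_, h2 _ (mul_mem (inv_mem (hg y)) m.2) _ z.2 (this ▸ hx y)⟩), Prod.ext (Subtype.ext (by simp))
      (Subtype.ext (by simp only [← this]; group))⟩

theorem card_dvd_of_free {Q : Subgroup R} {X : Set R} (h1 : ∀ g ∈ Q, ∀ x ∈ X, g * x * g⁻¹ ∈ X)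
    (h2 : ∀ g ∈ Q, ∀ x ∈ X, Commute g x → g = 1) : Nat.card Q ∣ Nat.card X := by
  let _ : MulAction Q X := { smul g x := ⟨_, h1 _ g.2 _ x.2⟩
                             one_smul x := Subtype.ext (show (1 : R) * x * 1⁻¹ = x by group)
                             mul_smul a b x := Subtype.ext (show (a * b : R) * x * (a * b : R)⁻¹ = a * (b * x * b.1⁻¹) * a.1⁻¹ by group) }
  rw [Nat.card_congr (MulAction.selfEquivOrbitsQuotientProd (G := Q) fun x : X => eq_bot_iff.2 fun g hg =>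
    Subtype.ext (h2 _ g.2 _ x.2 (mul_inv_eq_iff_eq_mul.1 (congrArg Subtype.val hg)))), Nat.card_prod]
  exact dvd_mul_left _ _

theorem orderOf_cj (g x : R) : orderOf (g * x * g⁻¹) = orderOf x :=
  orderOf_injective (MulAut.conj g).toMonoidHom (MulAut.conj g).injective x

theorem card_ti' {N : Subgroup R} {X : Set R} {d : ℕ} (h0 : ∀ x ∈ X, orderOf x = d) (h1 : ∀ g ∈ N, ∀ x ∈ X, g * x * g⁻¹ ∈ X)
    (h2 : ∀ g, ∀ x ∈ X, g * x * g⁻¹ ∈ X → g ∈ N) (h3 : ∀ y, orderOf y = d → ∃ g, g * y * g⁻¹ ∈ X) :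
    Nat.card {y : R // orderOf y = d} * Nat.card N = Nat.card R * Nat.card X := by
  rw [← card_top (G := R)]
  exact card_ti le_top (Y := {y | orderOf y = d}) h1 (fun g _ => h2 g) fun y => ⟨fun h => let ⟨g, e⟩ := h3 y h; ⟨g⁻¹, trivial, _, e, by group⟩,
    by rintro ⟨g, -, x, hx, rfl⟩; exact (orderOf_cj g x).trans (h0 x hx)⟩

theorem two_iff {x : R} : orderOf x = 2 ↔ x * x = 1 ∧ x ≠ 1 := by rw [orderOf_eq_prime_iff, sq]

theorem conj_one {g x : R} : g⁻¹ * x * g = 1 ↔ x = 1 := by simpa using conj_eq_one_iff (a := g⁻¹) (b := x)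

theorem mem_two {a x : R} (h : orderOf a = 2) (hx : x ∈ zpowers a) : x = 1 ∨ x = a := by
  obtain ⟨j, rfl⟩ := hx
  show a ^ j = 1 ∨ a ^ j = a
  rw [← zpow_mod_orderOf, h]
  rcases Int.emod_two_eq_zero_or_one j with e | e <;> simp [e]

theorem mem_cent {a g : R} : g ∈ centralizer {a} ↔ Commute a g := mem_centralizer_singleton_iff.trans eq_comm

variable [Finite R]

theorem mem_iff_of_cyc {A B : Subgroup R} (hA : IsCyclic A) (h : B ≤ A) {x : R} : x ∈ B ↔ x ∈ A ∧ x ^ Nat.card B = 1 := by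
  classical
  have := Fintype.ofFinite A
  let _ := hA.commGroup
  have : B.subgroupOf A = (powMonoidHom (Nat.card B) : A →* A).ker := eq_of_le_of_card_ge
    (fun y hy => Subtype.ext (orderOf_dvd_iff_pow_eq_one.1 (B.orderOf_dvd_natCard hy))) (by
      rw [IsCyclic.card_powMonoidHom_ker, card_subgroupOf h]; exact Nat.gcd_le_right _ Nat.card_pos)
  exact ⟨fun hx => ⟨h hx, orderOf_dvd_iff_pow_eq_one.1 (B.orderOf_dvd_natCard hx)⟩, fun hx => this.ge (show (⟨x, hx.1⟩ : A) ∈ _ from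
    Subtype.ext hx.2)⟩

theorem eq_of_cyc {A B C : Subgroup R} (hA : IsCyclic A) (h : B ≤ A) (h' : C ≤ A) (e : Nat.card B = Nat.card C) : B = C :=
  Subgroup.ext fun x => by rw [mem_iff_of_cyc hA h, mem_iff_of_cyc hA h', e]

theorem card_ord_of_cyc {A : Subgroup R} (hA : IsCyclic A) {d : ℕ} (h : d ∣ Nat.card A) :
    Nat.card {x : R | x ∈ A ∧ orderOf x = d} = d.totient := by
  classical
  have := Fintype.ofFinite A
  rw [← IsCyclic.card_orderOf_eq_totient (α := A) (by rwa [← Nat.card_eq_fintype_card]), ← Nat.card_eq_finsetCard]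
  exact Nat.card_congr ⟨fun x => ⟨⟨x.1, x.2.1⟩, by simpa using x.2.2⟩, fun x => ⟨x.1, x.1.2, by simpa using (Finset.mem_filter.1 x.2).2⟩, fun _ => rfl, fun _ => rfl⟩

theorem card_ne_one (X : Subgroup R) : Nat.card ↥((X : Set R) \ {1}) + 1 = Nat.card X := Set.ncard_sdiff_singleton_add_one X.one_mem

theorem odd_card {A : Subgroup R} (h : ∀ x ∈ A, Odd (orderOf x)) : Odd (Nat.card A) := by
  by_contra e
  obtain ⟨x, hx, e⟩ := exists_mem_orderOf_eq (even_iff_two_dvd.1 (Nat.not_odd_iff_even.1 e))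
  exact absurd (e ▸ h x hx) (by decide)

theorem isPGroup_of_prime {p : ℕ} {A : Subgroup R} (h : ∀ x ∈ A, (orderOf x).Prime → orderOf x = p) : IsPGroup p A :=
  .of_card (Nat.eq_prime_pow_of_unique_prime_dvd Nat.card_pos.ne' fun {r} hr e => by
    have := Fact.mk hr
    obtain ⟨x, hx, rfl⟩ := exists_mem_orderOf_eq e
    exact h x hx hr)

namespace RB
variable {q : ℕ} {P H B : Subgroup R} {n a : R} (b : RB q P H B n a)
include b

omit [Finite R] in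
theorem conj {g u : R} (hg : g ∈ B) (hu : u ∈ P) : g * u * g⁻¹ ∈ P := (b.norm hg u).1 hu

omit [Finite R] in
theorem eq_one {u : R} (h : u ∈ P) (h' : u ∈ H) : u = 1 := b.disj.le ⟨h, h'⟩

omit [Finite R] in
theorem commH {x y : R} (h : x ∈ H) (h' : y ∈ H) : Commute x y := by
  let _ := b.cycH.commGroup
  exact congrArg Subtype.val (mul_comm (⟨x, h⟩ : H) ⟨y, h'⟩)

theorem uniq {x : R} (h : x ∈ H) (h2 : x * x = 1) (h1 : x ≠ 1) : x = a := by
  have e := eq_of_cyc b.cycH (zpowers_le.2 h) (zpowers_le.2 b.aH) (by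
    rw [Nat.card_zpowers, Nat.card_zpowers, two_iff.2 ⟨h2, h1⟩, two_iff.2 ⟨b.a2, b.a1⟩])
  exact (mem_two (two_iff.2 ⟨b.a2, b.a1⟩) (e.le (mem_zpowers x))).resolve_left h1

theorem na : Commute a n := by
  have := b.uniq (b.nH a b.aH) (by rw [show _ * _ = n⁻¹ * (a * a) * n by group, b.a2]; group) (mt conj_one.1 b.a1)
  rw [mul_assoc, inv_mul_eq_iff_eq_mul] at this; exact this

omit [Finite R] in
theorem card_inf {C : Subgroup R} (h : H ≤ C) : Nat.card ↥(B ⊓ C) = Nat.card ↥(P ⊓ C) * (q - 1) := by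
  rw [← b.cardH, ← Nat.card_prod]
  refine (Nat.card_eq_of_bijective (fun p => ⟨p.1.1 * p.2.1, mul_mem (b.PB p.1.2.1) (b.HB p.2.2), mul_mem p.1.2.2 (h p.2.2)⟩)
    ⟨fun ⟨u, y⟩ ⟨u', y'⟩ e => ?_, fun ⟨g, hg, hg'⟩ => ?_⟩).symm
  · have e : u'.1⁻¹ * u = y' * y.1⁻¹ := by rw [inv_mul_eq_iff_eq_mul, ← mul_assoc, ← show u.1 * y = u' * y' from congrArg Subtype.val e]; simp
    have := b.eq_one (mul_mem (inv_mem u'.2.1) u.2.1) (e ▸ mul_mem y'.2 (inv_mem y.2))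
    exact Prod.ext (Subtype.ext (inv_mul_eq_one.1 this).symm) (Subtype.ext (mul_inv_eq_one.1 (e ▸ this)).symm)
  · obtain ⟨u, hu, y, hy, rfl⟩ := b.mulB g hg
    exact ⟨(⟨u, hu, by simpa using C.mul_mem hg' (inv_mem (h hy))⟩, ⟨y, hy⟩), rfl⟩

omit [Finite R] in
theorem cardB : Nat.card B = q ^ 3 * (q - 1) := by simpa [b.cardP] using b.card_inf le_top

omit [Finite R] in
theorem H_le : H ≤ centralizer {a} := fun _ h => mem_cent.2 (b.commH b.aH h)

omit [Finite R] in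
theorem cardBa : Nat.card ↥(B ⊓ centralizer {a}) = q * (q - 1) := by rw [b.card_inf b.H_le, b.cardPa]

omit [Finite R] in
theorem ti {x g : R} (hx : x ∈ P) (h1 : x ≠ 1) (h : g⁻¹ * x * g ∈ B) : g ∈ B := by_contra fun hg => by
  obtain ⟨u, hu, y, hy, rfl⟩ := b.bru g hg
  have h2 := b.conj (inv_mem (b.PB hu)) hx
  exact h1 (conj_eq_one_iff.1 (b.eq_one h2 (b.opp _ (b.PB h2) (by simpa [mul_assoc] using mul_mem (mul_mem hy h) (inv_mem hy)))))

theorem card_cent_le (hq : 1 ≤ q) : Nat.card (centralizer {a}) ≤ q * (q ^ 2 - 1) := by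
  have : q * (q ^ 2 - 1) = (q + 1) * (q * (q - 1)) := by obtain ⟨q, rfl⟩ := Nat.exists_eq_add_of_le' hq; simp [sq, mul_add, add_mul]; ring
  rw [this, ← b.cardBa, ← b.cardPa, ← Finite.card_option, ← Nat.card_prod]
  refine Nat.card_le_card_of_surjective (fun p => ⟨p.1.elim 1 (fun u => u.1 * n) * p.2.1, mul_mem (by
    rcases p.1 with _ | u; exacts [one_mem _, mul_mem u.2.2 (mem_cent.2 b.na)]) p.2.2.2⟩) fun ⟨g, hg⟩ => ?_
  by_cases h : g ∈ B
  · exact ⟨(none, ⟨g, h, hg⟩), Subtype.ext (one_mul _)⟩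
  obtain ⟨u, hu, y, hy, rfl⟩ := b.bru g h
  have h1 := mul_mem (inv_mem hu) (b.conj (b.HB b.aH) hu)
  have h2 : u ∈ centralizer {a} := mem_cent.2 (mul_inv_eq_iff_eq_mul.1 (inv_mul_eq_one.1 (b.eq_one h1 (b.opp _ (b.PB h1) (by
    rw [show _ * _ = (u * n)⁻¹ * (a * (u * n * y)) * y⁻¹ * (n⁻¹ * a⁻¹ * n) by group, (mem_cent.1 hg).eq]
    simpa [mul_assoc] using mul_mem (mul_mem (mul_mem hy (b.HB b.aH)) (inv_mem hy)) (b.HB (b.nH _ (inv_mem b.aH))))))).symm)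
  exact ⟨(some ⟨u, hu, h2⟩, ⟨y, hy, by simpa [mul_assoc] using mul_mem (inv_mem (mul_mem h2 (mem_cent.2 b.na))) hg⟩), rfl⟩

theorem stab_le {x y z : R ⧸ B} (h1 : x ≠ y) (h2 : x ≠ z) (h3 : y ≠ z) :
    Nat.card ↥(MulAction.stabilizer R x ⊓ MulAction.stabilizer R y ⊓ MulAction.stabilizer R z) ≤ 2 := by
  obtain ⟨x, rfl⟩ := QuotientGroup.mk_surjective x
  obtain ⟨y, rfl⟩ := QuotientGroup.mk_surjective y
  obtain ⟨z, rfl⟩ := QuotientGroup.mk_surjective z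
  have k {g s : R} (h : s ∈ MulAction.stabilizer R (g : R ⧸ B)) : g⁻¹ * s * g ∈ B := by
    rw [mul_assoc]; exact QuotientGroup.eq.1 (Eq.symm h)
  obtain ⟨u, hu, c, hc, e⟩ := b.bru _ (mt QuotientGroup.eq.2 h1)
  obtain ⟨v, hv, d, hd, e'⟩ := b.bru _ (mt QuotientGroup.eq.2 h2)
  obtain rfl := inv_mul_eq_iff_eq_mul.1 e
  obtain rfl := inv_mul_eq_iff_eq_mul.1 e'
  have k' {s u c} (hu : u ∈ P) (hc : c ∈ B) (h : s ∈ MulAction.stabilizer R (x : R ⧸ B)) (h' : s ∈ MulAction.stabilizer R (x * (u * n * c) : R ⧸ B)) :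
      u⁻¹ * (x⁻¹ * s * x) * u ∈ H := b.opp _ (mul_mem (mul_mem (inv_mem (b.PB hu)) (k h)) (b.PB hu)) (by
    simpa [mul_assoc] using mul_mem (mul_mem hc (k h')) (inv_mem hc))
  refine (Set.ncard_le_ncard (t := {1, x * u * a * (x * u)⁻¹}) (fun s hs => ?_)).trans ((Set.ncard_insert_le _ _).trans (by simp))
  have h4 := k' hu hc hs.1.1 hs.1.2
  have h5 := k' hv hd hs.1.1 hs.2
  have h6 := mul_mem (inv_mem hu) hv
  set h := u⁻¹ * (x⁻¹ * s * x) * u with e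
  have h7 := b.eq_one (mul_mem (b.conj (inv_mem (b.HB h4)) (inv_mem h6)) h6) (by
    convert mul_mem (inv_mem h4) h5 using 1; simp only [h]; group)
  have h8 : h * h = 1 := by_contra fun h9 => h3 (by
    rw [inv_mul_eq_one.1 (b.fpf h h4 (sq h ▸ h9) _ h6 (by
      rw [mul_eq_one_iff_eq_inv, inv_inv, mul_assoc, inv_mul_eq_iff_eq_mul] at h7; exact Commute.inv_right_iff.1 h7.symm))]
    exact QuotientGroup.eq.2 (by simpa [mul_assoc] using mul_mem (inv_mem hc) hd))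
  rw [show s = x * u * h * (x * u)⁻¹ by simp only [h]; group]
  by_cases h9 : h = 1
  · simp [h9]
  · simp [b.uniq h4 h8 h9]

theorem exists_v (hq : 1 < q) : ∃ v ∈ P, Commute a v ∧ v ≠ 1 := by
  obtain ⟨v, hv⟩ := ne_bot_iff_exists_ne_one.1 ((one_lt_card_iff_ne_bot _).1 (b.cardPa ▸ hq))
  exact ⟨v, v.2.1, mem_cent.1 v.2.2, fun e => hv (Subtype.ext e)⟩

theorem stab_eq (hq : 1 < q) : ∃ x y z : R ⧸ B, x ≠ y ∧ x ≠ z ∧ y ≠ z ∧
    Nat.card ↥(MulAction.stabilizer R x ⊓ MulAction.stabilizer R y ⊓ MulAction.stabilizer R z) = 2 := by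
  obtain ⟨v, hv, h1, h2⟩ := b.exists_v hq
  have h3 : ((1 : R) : R ⧸ B) ≠ n := fun e => b.nB (by simpa using QuotientGroup.eq.1 e)
  have h4 : ((1 : R) : R ⧸ B) ≠ (v * n : R) := fun e => b.nB (by simpa using mul_mem (inv_mem (b.PB hv)) (QuotientGroup.eq.1 e))
  have h5 : (n : R ⧸ B) ≠ (v * n : R) := fun e => h2 (b.eq_one hv (b.opp _ (b.PB hv) (by simpa [mul_assoc] using QuotientGroup.eq.1 e)))
  have k {g : R} (h : Commute a g) : a ∈ MulAction.stabilizer R (g : R ⧸ B) := QuotientGroup.eq.2 (by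
    simpa [h.eq] using inv_mem (b.HB b.aH))
  exact ⟨_, _, _, h3, h4, h5, le_antisymm (b.stab_le h3 h4 h5) ((one_lt_card_iff_ne_bot _).2 fun e =>
    b.a1 (e.le ⟨⟨k (.one_right a), k b.na⟩, k (h1.mul_right b.na)⟩))⟩

theorem cent_equiv {K : Type*} [Field K] [Fintype K] (hK : Fintype.card K = q) (h2 : Odd q) {φ : Matrix.SpecialLinearGroup (Fin 2) K →* R}
    (h3 : φ.ker = center _) (h4 : ∀ g, Commute a (φ g)) (h5 : a ∉ φ.range) : Nat.card (centralizer {a}) = q * (q ^ 2 - 1) ∧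
      Nonempty (↥(centralizer {a}) ≃* Multiplicative (ZMod 2) × Matrix.ProjectiveSpecialLinearGroup (Fin 2) K) := by
  have h6 : orderOf a = 2 := two_iff.2 ⟨b.a2, b.a1⟩
  let e : Multiplicative (ZMod 2) ≃* zpowers a := mulEquivOfPrimeCardEq (p := 2) (by simp) (by rw [Nat.card_zpowers, h6])
  let ψ : Matrix.ProjectiveSpecialLinearGroup (Fin 2) K →* R := QuotientGroup.lift _ φ h3.ge
  have h7 (x) : ∃ g, ψ x = φ g := by obtain ⟨g, rfl⟩ := QuotientGroup.mk_surjective x; exact ⟨g, rfl⟩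
  have h8 (z x) : Commute ((zpowers a).subtype.comp e.toMonoidHom z) (ψ x) := by
    obtain ⟨g, h⟩ := h7 x
    obtain ⟨j, h'⟩ := (e z).2
    exact h ▸ show Commute (e z).1 _ from h' ▸ (h4 g).zpow_left j
  let f := (MonoidHom.noncommCoprod _ ψ h8).codRestrict (centralizer {a}) fun p => mul_mem
    (zpowers_le.2 (mem_cent.2 (.refl a)) (e p.1).2) (let ⟨g, h⟩ := h7 p.2; h ▸ mem_cent.2 (h4 g))
  have h9 : Function.Injective f := (injective_iff_map_eq_one _).2 fun ⟨z, x⟩ h => by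
    have h : (e z).1 * ψ x = 1 := congrArg Subtype.val h
    obtain ⟨g, rfl⟩ := QuotientGroup.mk_surjective x
    have h11 : (e z).1 = 1 := (mem_two h6 (e z).2).resolve_right fun h11 =>
      h5 ⟨g⁻¹, (map_inv φ g).trans ((eq_inv_of_mul_eq_one_left h).symm.trans h11)⟩
    exact Prod.ext (e.injective (Subtype.ext (h11.trans (by simp)))) ((QuotientGroup.eq_one_iff _).2 (h3.le (by rwa [h11, one_mul] at h)))
  have h10 : Nat.card (Multiplicative (ZMod 2) × Matrix.ProjectiveSpecialLinearGroup (Fin 2) K) = q * (q ^ 2 - 1) := by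
    rw [← hK, ← H09.card_PSL_two_mul, Nat.card_prod, Nat.gcd_eq_left (even_iff_two_dvd.1 (Nat.Odd.sub_odd (hK ▸ h2) odd_one))]; simp
  have h11 := le_antisymm (b.card_cent_le h2.pos) (h10 ▸ Nat.card_le_card_of_injective f h9)
  exact ⟨h11, ⟨(MulEquiv.ofBijective f ((Nat.bijective_iff_injective_and_card f).2 ⟨h9, h10.trans h11.symm⟩)).symm⟩⟩

end RB

/-- the odd part `A` of a torus -/
structure RA (T A : Subgroup R) (s o : ℕ) : Prop where
  le : A ≤ T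
  cyc : IsCyclic A
  card : Nat.card A = o
  mem : ∀ t ∈ T, Odd (orderOf t) → t ∈ A
  two : Nat.card {t | t ∈ T ∧ orderOf t = 2} + 1 = s

namespace RT
variable {T A : Subgroup R} {s o k : ℕ} (h : RT T s o k)
include h

theorem exists_A (ho : Odd o) (hs : s ∣ 4) : ∃ A, RA T A s o := by
  let _ : CommGroup T := { mul_comm a b := Subtype.ext (h.comm _ a.2 _ b.2) }
  have h1 := (powMonoidHom 2 : T →* T).ker.card_mul_index
  rw [index_ker, h.card, ← card_map_subtype (MonoidHom.range _)] at h1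
  set A := (powMonoidHom 2 : T →* T).range.map T.subtype
  have h2 : Odd (Nat.card A) := odd_card (by
    rintro _ ⟨_, ⟨t, rfl⟩, rfl⟩
    exact ho.of_dvd_nat (orderOf_dvd_of_pow_eq_one ((pow_mul t.1 2 o).symm.trans (h.exp _ t.2))))
  obtain ⟨j, h3⟩ := (show IsPGroup 2 (powMonoidHom 2 : T →* T).ker from fun x => ⟨1, Subtype.ext x.2⟩).exists_card_eq
  have h4 : Nat.card A = o := Nat.dvd_antisymm
    (((h2.coprime_two_right.pow_right 2).coprime_dvd_right hs).dvd_of_dvd_mul_left (h1 ▸ dvd_mul_left _ _))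
    ((ho.coprime_two_right.pow_right j).dvd_of_dvd_mul_left (h3 ▸ h1 ▸ dvd_mul_left _ _))
  refine ⟨A, map_subtype_le _, h.cyc _ (map_subtype_le _) h2, h4, fun t ht ⟨i, e⟩ => ⟨_, ⟨⟨t, ht⟩ ^ (i + 1), rfl⟩, ?_⟩, ?_⟩
  · show (t ^ (i + 1)) ^ 2 = t
    rw [← pow_mul, show (i + 1) * 2 = 2 * i + 1 + 1 by ring, pow_succ, ← e, pow_orderOf_eq_one, one_mul]
  · rw [h4] at h1
    rw [← Nat.eq_of_mul_eq_mul_right ho.pos h1, ← card_map_subtype, ← card_ne_one]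
    congr 3; ext t
    simp only [Set.mem_ofPred, two_iff, Set.mem_sdiff, SetLike.mem_coe, mem_map, Set.mem_singleton_iff, ← and_assoc]
    exact and_congr_left' ⟨fun e => ⟨⟨t, e.1⟩, Subtype.ext ((sq t).trans e.2), rfl⟩, by
      rintro ⟨t, e, rfl⟩; exact ⟨t.2, (sq t.1).symm.trans (congrArg Subtype.val e)⟩⟩

omit [Finite R] in
theorem norm_of {g t : R} (ht : t ∈ T) (h2 : t ^ 2 ≠ 1) (e : g * t * g⁻¹ ∈ T) : g ∈ normalizer (T : Set R) := by
  rw [← cj_eq_iff, ← h.cent t ht h2, cj_centralizer_singleton, h.cent _ e (by rwa [conj_pow, Ne, conj_eq_one_iff]), h.cent t ht h2]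

variable (a : RA T A s o) (ho : Odd o)
include a ho

omit h [Finite R] in
theorem _root_.H11.RA.odd {x : R} (hx : x ∈ A) : Odd (orderOf x) := ho.of_dvd_nat (a.card ▸ A.orderOf_dvd_natCard hx)

omit h [Finite R] in
theorem _root_.H11.RA.sq_ne {x : R} (hx : x ∈ A) (h1 : x ≠ 1) : x ^ 2 ≠ 1 := fun e => h1 (orderOf_eq_one_iff.1
  (Nat.eq_one_of_dvd_coprimes (a.odd ho hx).coprime_two_left (orderOf_dvd_of_pow_eq_one e) dvd_rfl))

omit [Finite R] in
theorem cent_sub {C : Subgroup R} (hC : C ≤ A) (h1 : C ≠ ⊥) : centralizer (C : Set R) = T := by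
  obtain ⟨x, hx⟩ := ne_bot_iff_exists_ne_one.1 h1
  exact le_antisymm ((centralizer_le (Set.singleton_subset_iff.2 x.2)).trans
    (h.cent _ (a.le (hC x.2)) (a.sq_ne ho (hC x.2) fun e => hx (Subtype.ext e))).le) fun t ht y hy => h.comm _ (a.le (hC hy)) _ ht

theorem norm_sub {C : Subgroup R} (hC : C ≤ A) (h1 : C ≠ ⊥) : normalizer (C : Set R) = normalizer (T : Set R) :=
  le_antisymm (h.cent_sub a ho hC h1 ▸ normalizer_le_normalizer_centralizer C) fun g hg => cj_eq_iff.1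
    (eq_of_cyc a.cyc (cj_le_iff.2 fun x hx => a.mem _ ((hg x).1 (a.le (hC hx))) (orderOf_cj g x ▸ a.odd ho (hC hx))) hC (card_cj _ _))

omit h in
theorem _root_.H11.RA.card_odd {d : ℕ} (hd : d ∣ o) : Nat.card {t | t ∈ T ∧ orderOf t = d} = d.totient := by
  rw [← card_ord_of_cyc a.cyc (a.card ▸ hd)]
  congr 2; ext t
  exact and_congr_left fun e => ⟨fun ht => a.mem t ht (e ▸ ho.of_dvd_nat hd), fun ht => a.le ht⟩

theorem card_even {d : ℕ} (hd : d ∣ o) : Nat.card {t | t ∈ T ∧ orderOf t = 2 * d} = (s - 1) * d.totient := by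
  obtain ⟨i, hi⟩ := ho.of_dvd_nat hd
  have h1 {v x} (hv : v ∈ T) (hx : x ∈ T) (h2 : orderOf v = 2) (h3 : orderOf x ∣ d) : orderOf (v * x) = 2 * orderOf x := by
    rw [(h.comm _ hv _ hx).orderOf_mul_eq_mul_orderOf_of_coprime (h2 ▸ ((ho.of_dvd_nat hd).of_dvd_nat h3).coprime_two_left), h2]
  have h2 {v x} (hv : v ∈ T) (hx : x ∈ T) (h2 : orderOf v = 2) (h3 : orderOf x = d) : (v * x) ^ d = v := by
    rw [(h.comm _ hv _ hx).mul_pow, ← h3, pow_orderOf_eq_one, h3, hi, pow_succ, pow_mul, ← h2, pow_orderOf_eq_one]; simp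
  rw [← a.card_odd ho hd, ← a.two, Nat.add_sub_cancel, ← Nat.card_prod]
  refine (Nat.card_eq_of_bijective (fun p => ⟨p.1.1 * p.2.1, mul_mem p.1.2.1 p.2.2.1, by rw [h1 p.1.2.1 p.2.2.1 p.1.2.2 p.2.2.2.dvd, p.2.2.2]⟩)
    ⟨?_, ?_⟩).symm
  · rintro ⟨v, x⟩ ⟨v', x'⟩ e
    have e : v.1 * x = v' * x' := congrArg Subtype.val e
    obtain rfl : v = v' := Subtype.ext (by rw [← h2 v.2.1 x.2.1 v.2.2 x.2.2, e, h2 v'.2.1 x'.2.1 v'.2.2 x'.2.2])
    exact Prod.ext rfl (Subtype.ext (mul_left_cancel e))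
  · rintro ⟨t, ht, e⟩
    have h3 : orderOf (t ^ d) = 2 := by rw [orderOf_pow' _ (by omega), e, Nat.gcd_eq_right (dvd_mul_left _ _), Nat.mul_div_cancel _ (by omega)]
    have h4 : t ^ d * t ^ (d + 1) = t := by rw [← pow_add, ← add_assoc, ← two_mul, ← e, pow_succ, pow_orderOf_eq_one, one_mul]
    have h5 := h1 (pow_mem ht d) (pow_mem ht (d + 1)) h3 (orderOf_dvd_of_pow_eq_one (by
      rw [← pow_mul, show (d + 1) * d = 2 * d * (i + 1) by rw [hi]; ring, pow_mul, ← e, pow_orderOf_eq_one, one_pow]))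
    exact ⟨(⟨_, pow_mem ht d, h3⟩, ⟨_, pow_mem ht (d + 1), by rw [h4, e] at h5; omega⟩), Subtype.ext h4⟩

end RT
end H11
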