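import Cfsg.Agent.H11.Ree3

/-! The small Ree groups, pure group theory II: the structure `RG` (all data), Sylow subgroups, element orders, counting,
solvable subgroups; `Ree.exists_rg`. -/

namespace H11
open Subgroup H26 Cfsg Cfsg.Lie

variable {R : Type*} [Group R]

theorem isCyclic_cj {A : Subgroup R} (h : IsCyclic A) (g : R) : IsCyclic cj(g, A) :=
  isCyclic_of_surjective _ ((MulAut.conj g).toMonoidHom.subgroupMap_surjective A)

theorem commute_conj {g a b : R} (h : Commute (g⁻¹ * a * g) (g⁻¹ * b * g)) : Commute a b := by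
  simpa [mul_assoc] using h.map (MulAut.conj g)

theorem RT.cj {T : Subgroup R} {s o k : ℕ} (h : RT T s o k) (g : R) : RT cj(g, T) s o k := by
  have h1 {t : R} (n : ℕ) : (g⁻¹ * t * g) ^ n = 1 ↔ t ^ n = 1 := by simpa [-conj_pow, ← map_pow] using (map_eq_one_iff (MulAut.conj g⁻¹) (MulAut.conj g⁻¹).injective (x := t ^ n)).symm.trans (by simp [-conj_pow, map_pow]) |>.symm
  refine ⟨fun a ha b hb => commute_conj (h.comm _ (mem_cj.1 ha) _ (mem_cj.1 hb)), (card_cj _ _).trans h.card,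
    fun t ht => (h1 _).1 (h.exp _ (mem_cj.1 ht)), fun t ht e => ?_, fun t ht e => ?_, fun A hA e => ?_⟩
  · rw [← h.cent _ (mem_cj.1 ht) (mt (h1 2).1 e), cj_centralizer_singleton]; congr 2; group
  · rw [← cj_normalizer, card_cj, h.norm _ (mem_cj.1 ht) (mt (h1 2).1 e)]
  · exact cj_cj_inv g A ▸ isCyclic_cj (h.cyc _ (cj_le_iff_le_cj.2 (by rwa [inv_inv])) (by rwa [card_cj])) g

theorem cop_ro (k : ℕ) {i j : Fin 4} (h : i ≠ j) : (ro k i).Coprime (ro k j) := by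
  have h1 {a b : ℕ} (x y : ℤ) (h : x * a + y * b = 1) : a.Coprime b := Nat.isCoprime_iff_coprime.1 ⟨x, y, h⟩
  have h01 : (ro k 0).Coprime (ro k 1) := h1 (-1) 2 (by simp [ro]; ring)
  have h0 : (ro k 0).Coprime (ro k 2 * ro k 3) := h1 (-24 * k ^ 2 - 24 * k - 6) 1 (by simp [ro]; ring)
  have h2 : (ro k 1).Coprime (ro k 2 * ro k 3) := h1 (1 + 4 * (k ^ 2 + k) * (12 * k ^ 2 + 12 * k + 1)) (-k ^ 2 - k) (by simp [ro]; ring)
  have h23 : (ro k 2).Coprime (ro k 3) := h1 (k + 1) (-k) (by simp [ro]; ring)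
  rw [Nat.coprime_mul_iff_right] at h0 h2
  (fin_cases i <;> fin_cases j) <;> [exact (h rfl).elim; exact h01; exact h0.1; exact h0.2; exact h01.symm; exact (h rfl).elim; exact h2.1;
    exact h2.2; exact h0.1.symm; exact h2.1.symm; exact (h rfl).elim; exact h23; exact h0.2.symm; exact h2.2.symm; exact h23.symm; exact (h rfl).elim]

theorem rs_dvd : ∀ i, rs i ∣ 4 := by decide

variable [Finite R]

section syl
variable {p : ℕ} [Fact p.Prime] {S M : Subgroup R}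

theorem syl_of_card (h : S ≤ M) (hp : IsPGroup p S) {m : ℕ} (e : Nat.card M = Nat.card S * m) (hm : ¬ p ∣ m) : IsSyl p S M :=
  isSyl_of_not_dvd h hp (by rwa [Nat.eq_of_mul_eq_mul_left Nat.card_pos ((H01.card_mul_relIndex h).trans e)])

theorem card_syl (h : IsSyl p S M) {j m : ℕ} (e : Nat.card M = p ^ j * m) (hm : ¬ p ∣ m) : Nat.card S = p ^ j := by
  obtain ⟨i, hi⟩ := h.pg.exists_card_eq
  have h1 := H01.card_mul_relIndex h.le
  have h2 {a} (h : ¬ p ∣ a) (n) : (p ^ n).Coprime a := ((Nat.Prime.coprime_iff_not_dvd Fact.out).2 h).pow_left n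
  rw [hi] at h1 ⊢
  exact Nat.dvd_antisymm ((h2 hm i).dvd_of_dvd_mul_right (e ▸ h1 ▸ dvd_mul_right _ _))
    ((h2 h.not_dvd j).dvd_of_dvd_mul_right (h1 ▸ e ▸ dvd_mul_right _ _))

theorem card_two_three (h : IsSyl 2 S M) (h3 : ∀ x ∈ M, (orderOf x).Prime → orderOf x ≠ 2 → orderOf x = 3) :
    ∃ Q j, IsSyl 3 Q M ∧ Nat.card Q = 3 ^ j ∧ Nat.card M = Nat.card S * 3 ^ j := by
  have : Fact (Nat.Prime 3) := ⟨Nat.prime_three⟩
  have h1 := H01.card_mul_relIndex h.le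
  rw [Nat.eq_prime_pow_of_unique_prime_dvd (n := S.relIndex M) (p := 3) index_ne_zero_of_finite fun {r} hr e => by
    have := Fact.mk hr
    obtain ⟨x, hx, rfl⟩ := exists_mem_orderOf_eq (h1 ▸ e.mul_left _)
    exact h3 x hx hr fun e' => h.not_dvd (e' ▸ e)] at h1
  obtain ⟨Q, hQ⟩ := exists_isSyl 3 M
  obtain ⟨i, hi⟩ := h.pg.exists_card_eq
  exact ⟨Q, _, hQ, card_syl hQ (h1.symm.trans (mul_comm _ _)) (hi ▸ fun e => absurd (Nat.prime_three.dvd_of_dvd_pow e) (by decide)), h1.symm⟩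

end syl

theorem card_sdiff (A B : Subgroup R) : Nat.card ↥((A : Set R) \ B) = Nat.card A - Nat.card ↥(A ⊓ B) := by
  rw [← Set.sdiff_self_inter]; exact Set.ncard_sdiff Set.inter_subset_left

theorem free_prime {E : Subgroup R} {x : R} (hx : x ∈ normalizer (E : Set R)) (hp : (orderOf x).Prime) :
    orderOf x ∣ Nat.card E - Nat.card ↥(E ⊓ centralizer {x}) := by
  rw [← card_sdiff, ← Nat.card_zpowers]
  refine card_dvd_of_free (fun g hg y hy => ⟨(zpowers_le.2 hx hg y).1 hy.1, fun e => hy.2 ?_⟩) fun g hg y hy e => by_contra fun h1 => hy.2 ?_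
  · have := zpowers_le.2 (mem_cent.2 (.refl x)) hg
    simpa [mul_assoc] using (centralizer {x}).mul_mem (mul_mem (inv_mem this) e) this
  · have : Fact (Nat.card (zpowers x)).Prime := ⟨by rwa [Nat.card_zpowers]⟩
    obtain ⟨j, e'⟩ := mem_zpowers_of_prime_card rfl (g := ⟨g, hg⟩) (g' := ⟨x, mem_zpowers x⟩) fun e => h1 (congrArg Subtype.val e)
    exact mem_cent.2 ((show g ^ j = x from congrArg Subtype.val e') ▸ e.zpow_left j)

/-- all the data of a small Ree group -/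
structure RG (k l q : ℕ) (P H B : Subgroup R) (n a : R) (T A : Fin 4 → Subgroup R) : Prop where
  b : RB q P H B n a
  s : RS k T
  ra : ∀ i, RA (T i) (A i) (rs i) (ro k i)
  hq : q = 12 * k ^ 2 + 12 * k + 3
  hl : q = 3 ^ l
  cardC : Nat.card (centralizer {a}) = q * (q ^ 2 - 1)

namespace RG
variable {k l q : ℕ} {P H B : Subgroup R} {n a : R} {T A : Fin 4 → Subgroup R} (G : RG k l q P H B n a T A)
include G

section num
omit [Finite R]
theorem q0 : q - 1 = 2 * ro k 0 := by simp [G.hq, ro]; ring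
theorem q1 : q + 1 = 4 * ro k 1 := by simp [G.hq, ro]; ring
theorem q2 : q ^ 2 - 1 = 2 * ro k 0 * (4 * ro k 1) := Nat.sub_eq_of_eq_add (by simp [G.hq, ro]; ring)
theorem q23 : q ^ 2 - q + 1 = ro k 2 * ro k 3 := by
  rw [Nat.sub_eq_of_eq_add (show q ^ 2 = q * (2 * ro k 0) + q by simp [G.hq, ro]; ring)]; simp [G.hq, ro]; ring
theorem q3 : q ^ 3 + 1 = 4 * ro k 1 * (ro k 2 * ro k 3) := by simp [G.hq, ro]; ring
omit G in
theorem q32 : q ^ 3 - q ^ 2 = q ^ 2 * (q - 1) := by rw [Nat.mul_sub_one, pow_succ]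
theorem odd_q : Odd q := G.hl ▸ Odd.pow (by decide)
theorem one_lt : 1 < q := by rw [G.hq]; omega
theorem a2 : orderOf a = 2 := two_iff.2 ⟨G.b.a2, G.b.a1⟩
theorem cardR : Nat.card R = q ^ 3 * (2 * ro k 0) * (4 * ro k 1 * (ro k 2 * ro k 3)) := by rw [G.b.cardR, G.q0, G.q3]
theorem pgP : IsPGroup 3 P := .of_card (n := l * 3) (by rw [G.b.cardP, G.hl, pow_mul])
theorem nums {m : ℕ} (h : 3 ^ m = 2 * k + 1) : (q - 1) / 2 = ro k 0 ∧ (q + 1) / 4 = ro k 1 ∧ q - 3 ^ (m + 1) + 1 = ro k 2 ∧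
    q + 3 ^ (m + 1) + 1 = ro k 3 := by
  rw [G.q0, G.q1, pow_succ, h, G.hq]; simp [ro]; omega
omit G in
theorem ro_ne {m : ℕ} (h : 3 ^ m = 2 * k + 1) (hm : 1 ≤ m) (i) : ro k i ≠ 1 := by
  have := Nat.pow_le_pow_right (by decide : 0 < 3) hm
  fin_cases i <;> simp [ro] <;> omega
end num

attribute [local instance] Nat.fact_prime_three

theorem sylP : IsSyl 3 P ⊤ := syl_of_card le_top G.pgP (by rw [card_top, G.cardR, G.b.cardP, mul_assoc]) (by
  have := three_ro k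
  simp only [Nat.prime_three.dvd_mul, not_or, Fin.forall_fin_succ, rs] at this ⊢; simp_all)

theorem sylPa : IsSyl 3 (P ⊓ centralizer {a}) (centralizer {a}) := syl_of_card inf_le_right (G.pgP.to_le inf_le_left)
  (by rw [G.cardC, G.b.cardPa]) (by rw [G.q2, Nat.prime_three.dvd_mul, not_or]; exact ⟨three_ro k 0, three_ro k 1⟩)

theorem conj_P {x : R} {j : ℕ} (h : x ^ 3 ^ j = 1) : ∃ g, g * x * g⁻¹ ∈ P :=
  let ⟨g, _, e⟩ := G.sylP.exists_cj_le (isPGroup_zpowers ⟨j, h⟩) le_top; ⟨g, cj_le_iff.1 e _ (mem_zpowers x)⟩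

theorem conj_Pa {x : R} {j : ℕ} (h : x ^ 3 ^ j = 1) (h' : Commute a x) : ∃ g, Commute a g ∧ g * x * g⁻¹ ∈ P :=
  let ⟨g, hg, e⟩ := G.sylPa.exists_cj_le (isPGroup_zpowers ⟨j, h⟩) (zpowers_le.2 (mem_cent.2 h'))
  ⟨g, mem_cent.1 hg, (cj_le_iff.1 e _ (mem_zpowers x)).1⟩

omit [Finite R] in
theorem norm_of_inf {E : Subgroup R} {g s : R} (h1 : E ≠ ⊥) (h : E ≤ cj(g, P)) (h' : E ≤ cj(s, P)) : cj(g, P) = cj(s, P) := by
  obtain ⟨x, hx⟩ := ne_bot_iff_exists_ne_one.1 h1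
  have := G.b.ti (mem_cj.1 (h x.2)) (mt conj_one.1 fun e => hx (Subtype.ext e)) (g := g⁻¹ * s) (by
    simpa [mul_assoc] using G.b.PB (mem_cj.1 (h' x.2)))
  rw [← mul_inv_cancel_left g s, ← cj_cj, cj_eq_iff.2 (G.b.norm this)]

theorem syl3_ti {Q Q' : Subgroup R} (h : IsSyl 3 Q ⊤) (h' : IsSyl 3 Q' ⊤) (e : Q ≠ Q') : Q ⊓ Q' = ⊥ := by_contra fun h1 => by
  obtain ⟨g, -, rfl⟩ := G.sylP.exists_cj_eq h
  obtain ⟨s, -, rfl⟩ := G.sylP.exists_cj_eq h'
  exact e (G.norm_of_inf h1 inf_le_left inf_le_right)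

theorem not_four {x : R} {j : ℕ} (h : x ^ 3 ^ j = 1) (h1 : x ≠ 1) : ¬ 4 ∣ Nat.card (centralizer {x}) := fun e => by
  obtain ⟨g, hg⟩ := G.conj_P h
  have h2 : cj(g, centralizer {x}) ≤ B := cj_centralizer_singleton g x ▸ fun y hy => G.b.ti hg (mt conj_eq_one_iff.1 h1) (by
    rw [mul_assoc, (mem_cent.1 hy).eq, inv_mul_cancel_left]; exact G.b.PB hg)
  have h3 := (card_cj g _ ▸ e).trans (card_dvd_of_le h2)
  rw [G.b.cardB, G.q0, mul_left_comm] at h3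
  exact (G.odd_q.pow.mul (odd_ro k 0)).not_two_dvd_nat (Nat.dvd_of_mul_dvd_mul_left two_pos h3)

omit [Finite R] in
theorem card_cent {g : R} (h3 : ¬ 3 ∣ orderOf g) (h2 : g ^ 2 ≠ 1) : ∃ i, g ^ (2 * ro k i) = 1 ∧ Nat.card (centralizer {g}) = rs i * ro k i := by
  obtain ⟨i, y, h⟩ := G.s.conj g h3 h2
  have := (G.s.tor i).cj y⁻¹
  have h4 : g ∈ cj(y⁻¹, T i) := mem_cj.2 (by rwa [inv_inv])
  exact ⟨i, this.exp g h4, by rw [this.cent g h4 h2, this.card]⟩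

omit [Finite R] in
theorem sq_of_comm {g x : R} (h3 : ¬ 3 ∣ orderOf g) (hx : 3 ∣ orderOf x) (h : Commute g x) : g ^ 2 = 1 := by_contra fun h2 =>
  let ⟨i, _, e⟩ := G.card_cent h3 h2; three_ro k i (e ▸ hx.trans (orderOf_dvd_natCard _ (mem_cent.2 h)))

omit [Finite R] in
theorem sq_of_two {g : R} {j : ℕ} (h : g ^ 2 ^ j = 1) : g ^ 2 = 1 := by_contra fun h2 => by
  obtain ⟨i, e, -⟩ := G.card_cent (fun e => absurd (Nat.prime_three.dvd_of_dvd_pow (e.trans (orderOf_dvd_of_pow_eq_one h))) (by decide)) h2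
  exact h2 (orderOf_eq_one_iff.1 (Nat.eq_one_of_dvd_coprimes ((odd_ro k i).coprime_two_left.pow_left j)
    (orderOf_dvd_of_pow_eq_one (by rw [pow_right_comm, h, one_pow])) (orderOf_dvd_of_pow_eq_one (by rw [← pow_mul, e]))))

omit [Finite R] in
theorem mul_self {E : Subgroup R} (hE : IsPGroup 2 E) {x : R} (h : x ∈ E) : x * x = 1 :=
  let ⟨_, e⟩ := isPGroup_iff_mem.1 hE x h; (sq x).symm.trans (G.sq_of_two e)

omit [Finite R] in
theorem le_cent {E F : Subgroup R} (hE : IsPGroup 2 E) (h : F ≤ E) : E ≤ centralizer (F : Set R) := fun x hx y hy => by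
  rw [eq_inv_of_mul_eq_one_left (G.mul_self hE (mul_mem (h hy) hx)), mul_inv_rev, inv_eq_of_mul_eq_one_left (G.mul_self hE hx),
    inv_eq_of_mul_eq_one_left (G.mul_self hE (h hy))]

theorem card_syl2 {S : Subgroup R} (h : IsSyl 2 S ⊤) : Nat.card S = 8 :=
  card_syl h (j := 3) (m := q ^ 3 * ro k 0 * ro k 1 * ro k 2 * ro k 3) (by rw [card_top, G.cardR]; ring)
    ((((G.odd_q.pow.mul (odd_ro k 0)).mul (odd_ro k 1)).mul (odd_ro k 2)).mul (odd_ro k 3)).not_two_dvd_nat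

theorem dvd_eight {E : Subgroup R} (h : IsPGroup 2 E) : Nat.card E ∣ 8 :=
  let ⟨_, e⟩ := exists_isSyl 2 (⊤ : Subgroup R); G.card_syl2 e ▸ e.card_dvd h le_top

theorem not_eight {x : R} (hp : (orderOf x).Prime) (h2 : orderOf x ≠ 2) : ¬ 8 ∣ Nat.card (centralizer {x}) := fun e => by
  by_cases h3 : orderOf x = 3
  · exact G.not_four (j := 1) (h3 ▸ by simp) (fun e => hp.ne_one (orderOf_eq_one_iff.2 e)) ((by decide : 4 ∣ 8).trans e)
  obtain ⟨i, -, e'⟩ := G.card_cent (fun e => h3 ((Nat.prime_dvd_prime_iff_eq Nat.prime_three hp).1 e).symm) fun e =>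
    h2 ((Nat.prime_dvd_prime_iff_eq hp Nat.prime_two).1 (orderOf_dvd_of_pow_eq_one e))
  exact absurd ((((odd_ro k i).coprime_two_left.pow_left 3).dvd_of_dvd_mul_right (e' ▸ e)).trans (rs_dvd i)) (by decide)

theorem cent_syl2 {S : Subgroup R} (h : IsSyl 2 S ⊤) : centralizer (S : Set R) = S :=
  h.max _ (isPGroup_of_prime fun _ hx hp => by_contra fun h2 => G.not_eight hp h2 (G.card_syl2 h ▸ card_dvd_of_le fun y hy =>
    mem_cent.2 (hx y hy).symm)) (G.le_cent h.pg le_rfl) le_top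

theorem exists_le_A {p : ℕ} [hp : Fact p.Prime] (h2 : p ≠ 2) (h3 : p ≠ 3) {E : Subgroup R} (hE : IsPGroup p E) (h1 : E ≠ ⊥) :
    ∃ i g, cj(g, E) ≤ A i := by
  obtain ⟨x, hx⟩ := ne_bot_iff_exists_ne_one.1 (inf_centralizer_ne_bot hE hE h1 le_normalizer)
  have h4 {y} (hy : y ∈ E) {r} (hr : r.Prime) (e : r ∣ orderOf y) : r = p := let ⟨_, e'⟩ := isPGroup_iff_mem.1 hE y hy
    (Nat.prime_dvd_prime_iff_eq hr hp.out).1 (hr.dvd_of_dvd_pow (e.trans (orderOf_dvd_of_pow_eq_one e')))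
  have h5 {y} (hy : y ∈ E) : Odd (orderOf y) := Nat.not_even_iff_odd.1 fun e => h2 (h4 hy Nat.prime_two e.two_dvd).symm
  have h6 : x.1 ^ 2 ≠ 1 := fun e => hx (Subtype.ext (orderOf_eq_one_iff.1
    (Nat.eq_one_of_dvd_coprimes (h5 x.2.1).coprime_two_left (orderOf_dvd_of_pow_eq_one e) dvd_rfl)))
  obtain ⟨i, g, h⟩ := G.s.conj x (fun e => h3 (h4 x.2.1 Nat.prime_three e).symm) h6
  refine ⟨i, g, cj_le_iff.2 fun y hy => (G.ra i).mem _ ?_ (orderOf_cj g y ▸ h5 hy)⟩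
  rw [← (G.s.tor i).cent _ h (by rwa [conj_pow, Ne, conj_eq_one_iff]), ← cj_centralizer_singleton]
  exact conj_mem_cj (mem_cent.2 (x.2.2 y hy).symm)

theorem isCyclic_of {p : ℕ} [hp : Fact p.Prime] (h2 : p ≠ 2) (h3 : p ≠ 3) {E : Subgroup R} (hE : IsPGroup p E) : IsCyclic E := by
  obtain rfl | h1 := eq_or_ne E ⊥
  · infer_instance
  obtain ⟨i, g, h⟩ := G.exists_le_A h2 h3 hE h1
  have := (G.ra i).cyc
  exact cj_inv_cj g E ▸ isCyclic_cj (isCyclic_of_le h) _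

omit [Finite R] in
theorem conj_T {g : R} {i} (h : orderOf g ∣ 2 * ro k i) (h2 : g ^ 2 ≠ 1) : ∃ y, y * g * y⁻¹ ∈ T i := by
  obtain ⟨j, y, e⟩ := G.s.conj g (fun e => (Nat.prime_three.dvd_mul.1 (e.trans h)).elim (by decide) fun e => three_ro k i (e.mul_left _)) h2
  obtain rfl | h3 := eq_or_ne i j
  · exact ⟨y, e⟩
  have h4 := orderOf_cj y g ▸ orderOf_dvd_of_pow_eq_one ((G.s.tor j).exp _ e)
  exact (h2 (orderOf_dvd_iff_pow_eq_one.1 (by simpa [Nat.gcd_mul_left, (cop_ro k h3).gcd_eq_one] using Nat.dvd_gcd h h4))).elim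

omit [Finite R] in
theorem cj_le_A {C : Subgroup R} (hC : IsCyclic C) {i} (h : Nat.card C ∣ ro k i) : ∃ g, cj(g, C) ≤ A i := by
  obtain ⟨x, rfl⟩ := (Subgroup.isCyclic_iff_exists_zpowers_eq_top C).1 hC
  rw [Nat.card_zpowers] at h
  have h1 := (odd_ro k i).of_dvd_nat h
  by_cases h2 : x ^ 2 = 1
  · exact ⟨1, by simp [orderOf_eq_one_iff.1 (Nat.eq_one_of_dvd_coprimes h1.coprime_two_left (orderOf_dvd_of_pow_eq_one h2) dvd_rfl)]⟩
  obtain ⟨y, e⟩ := G.conj_T (h.mul_left 2) h2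
  exact ⟨y, cj_zpowers y x ▸ zpowers_le.2 ((G.ra i).mem _ e (orderOf_cj y x ▸ h1))⟩

theorem conj_cyc {C D : Subgroup R} (hC : IsCyclic C) (hD : IsCyclic D) {i} (h : Nat.card C ∣ ro k i) (e : Nat.card C = Nat.card D) :
    ∃ g, D = cj(g, C) := by
  obtain ⟨g, hg⟩ := G.cj_le_A hC h
  obtain ⟨y, hy⟩ := G.cj_le_A hD (e ▸ h)
  exact ⟨y⁻¹ * g, by rw [← cj_cj, eq_of_cyc (G.ra i).cyc hg hy (by rwa [card_cj, card_cj]), cj_inv_cj]⟩

omit [Finite R] in
theorem cent_cyc {C : Subgroup R} (hC : IsCyclic C) {i} (h : Nat.card C ∣ ro k i) :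
    ∃ T', RT T' (rs i) (ro k i) (rk i) ∧ ∀ D ≤ C, D ≠ ⊥ → centralizer (D : Set R) = T' := by
  obtain ⟨g, hg⟩ := G.cj_le_A hC h
  refine ⟨_, (G.s.tor i).cj g⁻¹, fun D hD h1 => ?_⟩
  rw [← (G.s.tor i).cent_sub (G.ra i) (odd_ro k i) ((cj_mono g hD).trans hg) (mt cj_eq_bot_iff.1 h1), ← cj_centralizer, cj_inv_cj]

omit G in
theorem _root_.H11.RT.exists_ord {T : Subgroup R} {s o k : ℕ} (h : RT T s o k) (ho : Odd o) (hs : s ∣ 4) (h1 : 1 < s) :
    ∃ t ∈ T, orderOf t = 2 * o := by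
  obtain ⟨A, a⟩ := h.exists_A ho hs
  obtain ⟨t, ht⟩ := (Nat.card_pos_iff.1 (h.card_even a ho dvd_rfl ▸ Nat.mul_pos (by omega) (Nat.totient_pos.2 ho.pos))).1
  exact ⟨t, ht⟩

omit [Finite R] in
theorem A_ne {i} (h : ro k i ≠ 1) : A i ≠ ⊥ := fun e => h (by rw [← (G.ra i).card, e, card_bot])

omit [Finite R] in
theorem card_norm {i} (h : ro k i ≠ 1) : Nat.card (normalizer (T i : Set R)) = rk i * (rs i * ro k i) :=
  let ⟨x, hx⟩ := ne_bot_iff_exists_ne_one.1 (G.A_ne h)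
  (G.s.tor i).norm _ ((G.ra i).le x.2) ((G.ra i).sq_ne (odd_ro k i) x.2 fun e => hx (Subtype.ext e))

omit [Finite R] in
theorem count_T {i d} (h : d ∣ 2 * ro k i) (h2 : ¬ d ∣ 2) : Nat.card {g : R // orderOf g = d} * (rk i * (rs i * ro k i)) =
    Nat.card R * Nat.card {t | t ∈ T i ∧ orderOf t = d} := by
  have h3 {x : R} (e : orderOf x = d) : x ^ 2 ≠ 1 := fun e' => h2 (e ▸ orderOf_dvd_of_pow_eq_one e')
  rw [← G.card_norm fun e => h2 (by simpa [e] using h)]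
  exact card_ti' (fun _ a => a.2) (fun g hg x hx => ⟨(hg x).1 hx.1, (orderOf_cj g x).trans hx.2⟩)
    (fun g x hx e => (G.s.tor i).norm_of hx.1 (h3 hx.2) e.1) fun y e => (G.conj_T (e ▸ h) (h3 e)).imp fun g a => ⟨a, (orderOf_cj g y).trans e⟩

theorem count_P {j : ℕ} (h : 0 < j) : Nat.card {g : R // orderOf g = 3 ^ j} = (q ^ 3 + 1) * Nat.card {t | t ∈ P ∧ orderOf t = 3 ^ j} := by
  have := card_ti' (N := B) (X := {t | t ∈ P ∧ orderOf t = 3 ^ j}) (fun _ a => a.2)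
    (fun g hg x hx => ⟨G.b.conj hg hx.1, (orderOf_cj g x).trans hx.2⟩) (fun g x hx e => inv_mem_iff.1 (G.b.ti hx.1
      (fun e => by simp [e, (Nat.one_lt_pow h.ne' (by decide : 1 < 3)).ne] at hx) (by simpa using G.b.PB e.1)))
    fun y e => (G.conj_P (e ▸ pow_orderOf_eq_one y)).imp fun g a => ⟨a, (orderOf_cj g y).trans e⟩
  rw [G.b.cardR, ← G.b.cardB, mul_assoc, mul_comm] at this
  exact Nat.eq_of_mul_eq_mul_left Nat.card_pos this

omit [Finite R] in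
theorem ncard3 : {t | t ∈ P ∧ t ^ 3 = 1}.ncard = q ^ 2 := G.b.card3 ▸
  Nat.card_congr ⟨fun x => ⟨⟨x.1, x.2.1⟩, x.2.2⟩, fun x => ⟨x.1, x.1.2, x.2⟩, fun _ => rfl, fun _ => rfl⟩

omit [Finite R] in
theorem card3 : Nat.card {t | t ∈ P ∧ orderOf t = 3} = q ^ 2 - 1 := by
  rw [← G.ncard3, ← Set.ncard_sdiff_singleton_of_mem (a := 1) (by exact ⟨one_mem _, one_pow _⟩)]
  exact congrArg Set.ncard (Set.ext fun t => by simp [orderOf_eq_prime_iff, and_assoc])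

theorem card9 : Nat.card {t | t ∈ P ∧ orderOf t = 9} = q ^ 2 * (q - 1) := by
  rw [← q32, ← G.b.cardP, ← G.ncard3]
  refine .trans (congrArg Set.ncard (Set.ext fun t => ?_)) (Set.ncard_sdiff (s := {t | t ∈ P ∧ t ^ 3 = 1}) (t := P) fun _ a => a.1)
  exact ⟨fun h => ⟨h.1, fun e => absurd (h.2 ▸ orderOf_dvd_of_pow_eq_one e.2) (by decide)⟩, fun h =>
    ⟨h.1, orderOf_eq_prime_pow (p := 3) (n := 1) (fun e => h.2 ⟨h.1, e⟩) (G.b.nine t h.1)⟩⟩

theorem count2 : Nat.card {g : R // orderOf g = 2} = q ^ 2 * (q ^ 2 - q + 1) := by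
  have := card_ti' (N := centralizer {a}) (X := {a}) (fun _ e => e ▸ G.a2)
    (by rintro g hg _ rfl; exact mul_inv_eq_iff_eq_mul.2 (mem_cent.1 hg).eq.symm) (fun g x hx e => mem_cent.2 (mul_inv_eq_iff_eq_mul.1 (hx ▸ e)).symm)
    fun y e => isConj_iff.1 (G.s.inv _ _ e G.a2)
  refine Nat.eq_of_mul_eq_mul_right Nat.card_pos (this.trans ?_)
  rw [G.cardC, G.cardR, G.q23, G.q2, Nat.card_unique]; ring

omit [Finite R] in
theorem ord6 {v : R} (hv : v ∈ P) (h : Commute a v) (h1 : v ≠ 1) : orderOf (a * v) = 6 := by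
  have h3 : orderOf v = 3 := orderOf_eq_prime (G.b.expPa v hv h) h1
  rw [h.orderOf_mul_eq_mul_orderOf_of_coprime (by rw [G.a2, h3]; decide), G.a2, h3]

theorem count6 : Nat.card {g : R // orderOf g = 6} = q ^ 2 * (q - 1) * (q ^ 3 + 1) := by
  have h1 {x : R} (e : orderOf x = 6) : x ^ 4 ≠ 1 := fun e' => absurd (e ▸ orderOf_dvd_of_pow_eq_one e') (by decide)
  have := card_ti' (N := B ⊓ centralizer {a}) (X := {x | orderOf x = 6 ∧ x ^ 3 = a ∧ x ^ 4 ∈ P}) (fun _ e => e.1)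
    (fun g hg x hx => ⟨(orderOf_cj g x).trans hx.1, by rw [conj_pow, hx.2.1, ← (mem_cent.1 hg.2).eq, mul_inv_cancel_right],
      by rw [conj_pow]; exact G.b.conj hg.1 hx.2.2⟩)
    (fun g x hx e => ⟨B.inv_mem_iff.1 (G.b.ti hx.2.2 (h1 hx.1) (by simpa using G.b.PB e.2.2)), mem_cent.2 (mul_inv_eq_iff_eq_mul.1 (by
      simpa [hx.2.1] using e.2.1)).symm⟩) fun y e => by
      obtain ⟨c, hc⟩ := isConj_iff.1 (G.s.inv (y ^ 3) a (by rw [orderOf_pow' _ (by decide), e]; rfl) G.a2)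
      obtain ⟨d, hd, h⟩ := G.conj_Pa (x := c * y ^ 4 * c⁻¹) (j := 1) (by
        rw [conj_pow, ← pow_mul, show 4 * 3 ^ 1 = 6 * 2 from rfl, pow_mul, ← e]; simp) (hc ▸ ((Commute.refl y).pow_pow 3 4).map (MulAut.conj c))
      exact ⟨d * c, (orderOf_cj _ y).trans e, by rw [conj_pow, show _ * _ = d * (c * y ^ 3 * c⁻¹) * d⁻¹ by group, hc, ← hd.eq, mul_inv_cancel_right],
        by rw [conj_pow]; simpa [mul_assoc] using h⟩
  have h2 : Nat.card {x | orderOf x = 6 ∧ x ^ 3 = a ∧ x ^ 4 ∈ P} = q - 1 := by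
    rw [← G.b.cardPa, ← card_ne_one, Nat.add_sub_cancel]
    refine (Nat.card_eq_of_bijective (fun v => ⟨a * v.1, G.ord6 v.2.1.1 (mem_cent.1 v.2.1.2) v.2.2, by
      have h := mem_cent.1 v.2.1.2
      simp [h.mul_pow, pow_succ a, pow_succ _ 3, G.b.expPa _ v.2.1.1 h, G.b.a2, show v.1 ∈ P from v.2.1.1]⟩)
      ⟨fun v w e => ?_, ?_⟩).symm
    · exact Subtype.ext (mul_left_cancel (congrArg Subtype.val e))
    · rintro ⟨x, h2, h3, h4⟩
      refine ⟨⟨x ^ 4, ⟨h4, mem_cent.2 (h3 ▸ (Commute.refl x).pow_pow 3 4)⟩, h1 h2⟩, Subtype.ext (show a * x ^ 4 = x from ?_)⟩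
      rw [← h3, ← pow_add, show 3 + 4 = 6 + 1 from rfl, ← h2, pow_succ, pow_orderOf_eq_one, one_mul]
  refine Nat.eq_of_mul_eq_mul_right Nat.card_pos (this.trans ?_)
  rw [h2, G.b.cardBa, G.b.cardR]; ring

theorem orders {d : ℕ} : (∃ g : R, orderOf g = d) ↔
    d ∣ 6 ∨ d ∣ 9 ∨ d ∣ 2 * ro k 0 ∨ d ∣ 2 * ro k 1 ∨ d ∣ ro k 2 ∨ d ∣ ro k 3 := by
  constructor
  · rintro ⟨g, rfl⟩
    by_cases h3 : 3 ∣ orderOf g
    · obtain ⟨j, d, h1, e⟩ := Nat.exists_eq_pow_mul_and_not_dvd (orderOf_pos g).ne' 3 (by decide)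
      have h2 : orderOf (g ^ 3 ^ j) = d := by rw [orderOf_pow' _ (by positivity), e, Nat.gcd_mul_right_left, Nat.mul_div_cancel_left _ (by positivity)]
      have h0 : 0 < d := h2 ▸ orderOf_pos _
      have h4 : orderOf (g ^ d) = 3 ^ j := by rw [orderOf_pow' _ h0.ne', e, Nat.gcd_mul_left_left, Nat.mul_div_cancel _ h0]
      have h5 := (Commute.refl g).pow_pow (3 ^ j) d
      have h6 := G.sq_of_comm (h2 ▸ h1) (h4 ▸ (Nat.prime_three.dvd_mul.1 (e ▸ h3)).resolve_right h1) h5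
      by_cases h7 : g ^ 3 ^ j = 1
      · obtain ⟨y, hy⟩ := G.conj_P h7
        exact .inr (.inl (orderOf_cj y g ▸ orderOf_dvd_of_pow_eq_one (G.b.nine _ hy)))
      have h8 := orderOf_eq_prime h6 h7
      obtain ⟨c, hc⟩ := isConj_iff.1 (G.s.inv _ a h8 G.a2)
      have h9 : Commute a (c * g ^ d * c⁻¹) := hc ▸ h5.map (MulAut.conj c)
      obtain ⟨y, hy, h⟩ := G.conj_Pa (j := j) (by rw [conj_pow, ← h4, pow_orderOf_eq_one]; simp) h9
      have := G.b.expPa _ h ((hy.mul_right h9).mul_right hy.inv_right)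
      rw [conj_pow, conj_eq_one_iff, conj_pow, conj_eq_one_iff, ← pow_mul, ← h2, h8] at this
      exact .inl (orderOf_dvd_of_pow_eq_one this)
    by_cases h2 : g ^ 2 = 1
    · exact .inl ((orderOf_dvd_of_pow_eq_one h2).trans (by decide))
    obtain ⟨i, h4, h5⟩ := G.card_cent h3 h2
    have h6 := h5 ▸ orderOf_dvd_natCard _ (mem_cent.2 (.refl g))
    replace h4 := orderOf_dvd_of_pow_eq_one h4
    fin_cases i <;> simp_all [rs]
  · have h1 {m} (h : ∃ g : R, orderOf g = m) (e : d ∣ m) : ∃ g : R, orderOf g = d :=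
      let ⟨g, hg⟩ := h; ⟨_, orderOf_pow_orderOf_div (orderOf_pos g).ne' (hg ▸ e)⟩
    have h2 (i) : ∃ g : R, orderOf g = ro k i := let ⟨g, e⟩ := (Subgroup.isCyclic_iff_exists_zpowers_eq_top _).1 (G.ra i).cyc
      ⟨g, by rw [← Nat.card_zpowers, e, (G.ra i).card]⟩
    have h3 (i) (h : 1 < rs i) := ((G.s.tor i).exists_ord (odd_ro k i) (rs_dvd i) h).imp fun _ a => a.2
    obtain ⟨v, hv, h4, h5⟩ := G.b.exists_v G.one_lt
    obtain ⟨u, hu⟩ := (Nat.card_pos_iff.1 (G.card9 ▸ Nat.mul_pos (pow_pos G.odd_q.pos 2) (Nat.sub_pos_of_lt G.one_lt))).1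
    rintro (h | h | h | h | h | h)
    exacts [h1 ⟨_, G.ord6 hv h4 h5⟩ h, h1 ⟨u, hu.2⟩ h, h1 (h3 0 (by decide)) h, h1 (h3 1 (by decide)) h, h1 (h2 2) h, h1 (h2 3) h]

theorem exists_syl_norm {E Q : Subgroup R} (hE : IsPGroup 2 E) (h4 : 4 ∣ Nat.card E) (hQ : IsPGroup 3 Q) (hn : Q ≤ normalizer (E : Set R)) :
    ∃ S, IsSyl 2 S ⊤ ∧ E ≤ S ∧ Q ≤ normalizer (S : Set R) := by
  obtain ⟨j, hj⟩ := hQ.exists_card_eq
  have := hQ.isNilpotent
  obtain ⟨S, h1, h2, h3, h5, h6⟩ := H01.exists_invariant_sylow_le (le_normalizer_centralizer hn) (hj ▸ (Nat.prime_three.coprime_iff_not_dvd.2 fun e => by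
    obtain ⟨x, hx, e⟩ := exists_mem_orderOf_eq e
    exact G.not_four (j := 1) (e ▸ by simp) (fun e' => by simp [e'] at e) (h4.trans (card_dvd_of_le fun y hy => mem_cent.2 (hx y hy).symm))).pow_left j)
    (.inl inferInstance) (G.le_cent hE le_rfl) hE hn
  obtain ⟨S', h7, h8⟩ := exists_isSyl_ge hE le_top
  exact ⟨S, h7.of_card_le h3 le_top ((isSyl_of_not_dvd h2 h3 h5).card_le h7.pg (G.le_cent h7.pg h8)), h1, h6⟩

theorem card_norm_syl2 (hk : ro k 1 ≠ 1) {S : Subgroup R} (h : IsSyl 2 S ⊤) : Nat.card (normalizer (S : Set R)) = 168 := by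
  have h8 := G.card_syl2 h
  obtain ⟨c, hc, h2⟩ := exists_mem_orderOf_eq (p := 2) (H := S) (h8 ▸ by decide)
  have h7 := card_ti (M := normalizer (S : Set R)) (N := normalizer (S : Set R) ⊓ centralizer {c}) inf_le_left (X := {c}) (Y := S \ {1})
    (by rintro g hg _ rfl; exact mul_inv_eq_iff_eq_mul.2 (mem_cent.1 hg.2).eq.symm)
    (fun g hg x hx e => ⟨hg, mem_cent.2 (mul_inv_eq_iff_eq_mul.1 (hx ▸ e)).symm⟩) fun y => ⟨fun hy => by
      obtain ⟨S, rfl⟩ := h.exists_sylow_top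
      obtain ⟨g, rfl⟩ := isConj_iff.1 (G.s.inv c y h2 (two_iff.2 ⟨G.mul_self h.pg hy.1, hy.2⟩))
      obtain ⟨m, hm, e⟩ := S.conj_eq_normalizer_conj_of_mem_centralizer c g⁻¹ (G.le_cent h.pg le_rfl hc) (by simpa using G.le_cent h.pg le_rfl hy.1)
      exact ⟨m⁻¹, inv_mem hm, c, rfl, by simpa using e.symm⟩, by
      rintro ⟨g, hg, _, rfl, rfl⟩; exact ⟨(hg _).1 hc, mt conj_eq_one_iff.1 (two_iff.1 h2).2⟩⟩
  rw [show Nat.card ↥((S : Set R) \ {1}) = 7 by have := card_ne_one S; omega, Nat.card_unique (α := ({c} : Set R)), mul_one] at h7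
  have h9 {x} (hx : Commute c x) : ∃ i ≤ 3, Nat.card ↥(S ⊓ centralizer {x}) = 2 ^ i ∧ i ≠ 0 := by
    obtain ⟨i, h3, e⟩ := (Nat.dvd_prime_pow Nat.prime_two (m := 3)).1 (h8 ▸ card_dvd_of_le (inf_le_left (b := centralizer {x})))
    exact ⟨i, h3, e, by rintro rfl; exact (two_iff.1 h2).2 ((card_eq_one.1 e).le ⟨hc, mem_cent.2 hx.symm⟩)⟩
  obtain ⟨Q, j, h3, h4, h5⟩ := card_two_three (h.mono (le_inf le_normalizer fun x hx => mem_cent.2 (G.le_cent h.pg le_rfl hx c hc)) le_top)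
    fun x hx hp h3 => by
      have h4 := free_prime hx.1 hp
      obtain ⟨i, h5, e, h6⟩ := h9 (mem_cent.1 hx.2)
      have h10 : i ≠ 3 := by rintro rfl; exact G.not_eight hp h3 (e.symm.dvd.trans (card_dvd_of_le inf_le_right))
      rw [h8, e] at h4
      have := Nat.le_of_dvd (by interval_cases i <;> simp at h10 h6 ⊢) h4
      generalize orderOf x = p at *
      interval_cases i <;> simp at h10 h6 this <;> interval_cases p <;> simp_all (decide := true)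
  have h6 : Nat.card Q ∣ Nat.card ↥((S : Set R) \ zpowers c) := card_dvd_of_free (fun g hg y hy => ⟨((h3.le hg).1 y).1 hy.1, fun e => hy.2 (by
      have : g ∈ normalizer (zpowers c : Set R) := centralizer_le_normalizer _ (by
        rintro _ ⟨i, rfl⟩; exact (mem_cent.1 (h3.le hg).2).zpow_left i)
      exact (this y).2 e)⟩) fun g hg y hy e => by_contra fun h1 => by
    obtain ⟨r, hr⟩ := isPGroup_iff_mem.1 h3.pg g hg
    obtain ⟨i, -, e', h6⟩ := h9 (mem_cent.1 (h3.le hg).2)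
    refine G.not_four hr h1 (.trans ?_ (card_dvd_of_le (inf_le_right (a := S))))
    rw [e']
    refine pow_dvd_pow 2 (show 2 ≤ i from by_contra fun h10 => hy.2 ?_)
    exact (eq_of_le_of_card_ge (zpowers_le.2 (mem_inf.2 ⟨hc, mem_cent.2 (mem_cent.1 (h3.le hg).2).symm⟩)) (by
      rw [e', Nat.card_zpowers, h2, show i = 1 by omega]; rfl)).ge (⟨hy.1, mem_cent.2 e⟩ : y ∈ S ⊓ centralizer {g})
  rw [card_sdiff, inf_of_le_right (zpowers_le.2 hc), Nat.card_zpowers, h2, h8, h4] at h6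
  obtain ⟨E, hE⟩ := exists_isSyl 2 (T 1)
  obtain ⟨x, hx, h10⟩ := exists_mem_orderOf_eq (p := 3) (G.card_norm hk ▸ dvd_mul_of_dvd_left (by decide) _)
  obtain ⟨S', h11, -, h12⟩ := G.exists_syl_norm hE.pg (card_syl hE (j := 2) (G.s.tor 1).card (odd_ro k 1).not_two_dvd_nat).symm.dvd
    (isPGroup_zpowers (x := x) ⟨1, h10 ▸ by simp⟩) (zpowers_le.2 (mem_normalizer_of_cj_le (hE.le_of_le_normalizer' (isPGroup_cj hE.pg x)
      (cj_le_of_le_of_mem_normalizer hE.le hx) fun y hy => centralizer_le_normalizer _ fun z hz =>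
        (G.s.tor 1).comm _ (hE.le hz) _ (cj_le_of_le_of_mem_normalizer hE.le hx hy))))
  obtain ⟨g, -, rfl⟩ := h.exists_cj_eq h11
  have h13 := card_dvd_of_le h12
  rw [← cj_normalizer, card_cj, Nat.card_zpowers, h10, ← h7, h5, h8] at h13
  rw [← h7, h5, h8]
  rcases j with _ | _ | j
  · simp at h13
  · rfl
  · exact absurd ((pow_dvd_pow 3 (by omega : 2 ≤ _)).trans h6) (by decide)

theorem solvable (S : Subgroup R) [Group.IsSolvable S] : ∃ C : Subgroup R, S ≤ normalizer (C : Set R) ∧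
    (IsSyl 2 C ⊤ ∨ IsSyl 3 C ⊤ ∨ IsCyclic C ∧ ∃ i, Nat.card C = ro k i) := by
  by_cases h : ∃ p : ℕ, p.Prime ∧ p ≠ 2 ∧ pCoreOf p S ≠ ⊥
  · obtain ⟨p, hp, h2, h1⟩ := h
    have := Fact.mk hp
    obtain rfl | h3 := eq_or_ne p 3
    · obtain ⟨g, -, h⟩ := G.sylP.exists_le_cj (H02.pCoreOf_isPGroup S) le_top
      exact ⟨_, fun s hs => cj_eq_iff.1 (by
        rw [cj_cj]; exact (G.norm_of_inf h1 h (by
          rw [← cj_cj, ← cj_eq_iff.2 (H02.le_normalizer_pCoreOf S hs)]; exact cj_mono _ h)).symm),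
        .inr (.inl (G.sylP.cj_of_mem trivial))⟩
    obtain ⟨i, g, h⟩ := G.exists_le_A h2 h3 (H02.pCoreOf_isPGroup S) h1
    have h4 := mt (cj_eq_bot_iff (g := g)).1 h1
    refine ⟨cj(g⁻¹, A i), ?_, .inr (.inr ⟨isCyclic_cj (G.ra i).cyc _, i, (card_cj _ _).trans (G.ra i).card⟩)⟩
    rw [← cj_normalizer, (G.s.tor i).norm_sub (G.ra i) (odd_ro k i) le_rfl (ne_bot_of_le_ne_bot h4 h),
      ← (G.s.tor i).norm_sub (G.ra i) (odd_ro k i) h h4, ← cj_normalizer, cj_inv_cj]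
    exact H02.le_normalizer_pCoreOf S
  push Not at h
  have h1 : IsPGroup 2 (fittingOf S) := isPGroup_of_prime fun x hx hp => by_contra fun h2 => hp.ne_one (orderOf_eq_one_iff.2
    ((h _ hp h2).le (H02.le_pCoreOf_of_le_fittingOf hp (isPGroup_zpowers ⟨1, by simp⟩) (zpowers_le.2 hx) (mem_zpowers x))))
  have h2 := H02.centralizer_fittingOf_inf_le S
  have h3 := H02.le_normalizer_fittingOf S
  have h4 := H02.fittingOf_le S
  generalize fittingOf S = F at *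
  have h5 : IsSyl 2 F S := ⟨h4, h1, fun Q hQ e e' => le_antisymm ((le_inf e' (G.le_cent hQ e)).trans h2) e⟩
  obtain ⟨S', h6, h7⟩ := exists_isSyl_ge h1 le_top
  obtain ⟨i, h8, e⟩ := (Nat.dvd_prime_pow Nat.prime_two (m := 3)).1 (G.dvd_eight h1)
  obtain rfl | h9 := eq_or_ne i 3
  · exact ⟨F, h3, .inl (h6.of_card_le h1 le_top ((G.card_syl2 h6).trans e.symm).le)⟩
  have h10 (x) (hx : x ∈ S) (hp : (orderOf x).Prime) (h0 : orderOf x ≠ 2) : orderOf x = 3 ∧ i = 2 := by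
    have h11 := free_prime (h3 hx) hp
    obtain ⟨j, h12, e'⟩ := (Nat.dvd_prime_pow Nat.prime_two).1 (e ▸ card_dvd_of_le (inf_le_left (b := centralizer {x})))
    have h13 : j ≠ i := by
      rintro rfl
      have := h2 ⟨hx, fun y hy => (mem_cent.1 ((eq_of_le_of_card_ge inf_le_left (e.trans e'.symm).le).ge hy).2).symm⟩
      exact h0 (two_iff.2 ⟨G.mul_self h1 this, fun e => hp.ne_one (orderOf_eq_one_iff.2 e)⟩)
    rw [e, e'] at h11
    have := Nat.le_of_dvd (Nat.sub_pos_of_lt (Nat.pow_lt_pow_right one_lt_two (by omega))) h11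
    have := hp.two_le
    generalize orderOf x = p at *
    interval_cases i <;> interval_cases j <;> simp at h9 h13 h11 this ⊢ <;> omega
  obtain ⟨Q, j, h11, h12, h13⟩ := card_two_three h5 fun x hx hp h0 => (h10 x hx hp h0).1
  have h14 : F ⊔ Q = S := eq_of_le_of_card_ge (sup_le h4 h11.le) (Nat.le_of_dvd Nat.card_pos (h13 ▸ Nat.Coprime.mul_dvd_of_dvd_of_dvd
    (e ▸ Nat.Coprime.pow _ _ (by decide)) (card_dvd_of_le le_sup_left) (h12 ▸ card_dvd_of_le le_sup_right)))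
  obtain rfl | h15 := eq_or_ne Q ⊥
  · exact ⟨S', h14 ▸ sup_le (h7.trans le_normalizer) bot_le, .inl h6⟩
  obtain ⟨x, hx, h16⟩ := exists_mem_orderOf_eq (dvd_card_of_isPGroup h11.pg h15 h11.le)
  obtain ⟨S'', h17, h18, h19⟩ := G.exists_syl_norm h1 (by rw [e, (h10 x hx (h16 ▸ Nat.prime_three) (by omega)).2]; rfl) h11.pg (h11.le.trans h3)
  exact ⟨S'', h14 ▸ sup_le (h18.trans le_normalizer) h19, .inl h17⟩

end RG

theorem Ree.exists_rg {K : Type*} [Field K] [Fintype K] {m : ℕ} (hK : Fintype.card K = 3 ^ (2 * m + 1)) : ∃ k n a T A, 3 ^ m = 2 * k + 1 ∧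
    RG k (2 * m + 1) (3 ^ (2 * m + 1)) ((chevG2.posUnipotent K ⊓ twistedG2 K (3 ^ m)).subgroupOf (twistedG2 K (3 ^ m)))
      ((chevG2.diagonalSubgroup K ⊓ twistedG2 K (3 ^ m)).subgroupOf _) ((chevG2.borelSubgroup K ⊓ twistedG2 K (3 ^ m)).subgroupOf _) n a T A ∧
    Nonempty (↥(centralizer {a}) ≃* Multiplicative (ZMod 2) × Matrix.ProjectiveSpecialLinearGroup (Fin 2) K) := by
  obtain ⟨k, n, a, T, hk, b, s, φ, h1, h2, h3⟩ := Ree.exists_all hK
  obtain ⟨h4, h5⟩ := b.cent_equiv hK (Odd.pow (by decide)) h1 h2 h3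
  choose A hA using fun i => (s.tor i).exists_A (odd_ro k i) (rs_dvd i)
  rw [grpSys_U, grpSys_H, grpSys_B] at b
  simp only [inf_subgroupOf_right]
  exact ⟨k, n, a, T, A, hk, ⟨b, s, hA, by rw [pow_succ, mul_comm 2, pow_mul, hk]; ring, rfl, h4⟩, h5⟩

end H11
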