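import Cfsg.Agent.H05.Tu0

/-! `SO₃ = PSL₂` over an algebraically closed field, in the coordinates of the symmetric square (namespace `H11.TuO`). -/

set_option autoImplicit false

namespace H11.TuO
open Matrix Module

variable {K : Type} [Field K]

/-- the invariant form -/
def b0 (v w : K × K × K) : K := v.1 * w.2.2 + v.2.2 * w.1 - 2 * v.2.1 * w.2.1
/-- the symmetric square -/
def ad (g : SpecialLinearGroup (Fin 2) K) (v : K × K × K) : K × K × K :=
  (g.1 0 0 ^ 2 * v.1 + 2 * g.1 0 0 * g.1 0 1 * v.2.1 + g.1 0 1 ^ 2 * v.2.2,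
   g.1 0 0 * g.1 1 0 * v.1 + (g.1 0 0 * g.1 1 1 + g.1 0 1 * g.1 1 0) * v.2.1 + g.1 0 1 * g.1 1 1 * v.2.2,
   g.1 1 0 ^ 2 * v.1 + 2 * g.1 1 0 * g.1 1 1 * v.2.1 + g.1 1 1 ^ 2 * v.2.2)
/-- `s = ± ad g` -/
def R (s : K × K × K → K × K × K) (g : SpecialLinearGroup (Fin 2) K) : Prop := ∃ δ : K, δ * δ = 1 ∧ ∀ v, s v = δ • ad g v

theorem ad_mul (g h : SpecialLinearGroup (Fin 2) K) (v : K × K × K) : ad (g * h) v = ad g (ad h v) := by
  simp only [ad, Matrix.SpecialLinearGroup.coe_mul, Matrix.mul_apply, Fin.sum_univ_two, Prod.mk.injEq]; refine ⟨?_, ?_, ?_⟩ <;> ring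
theorem ad_smul (g : SpecialLinearGroup (Fin 2) K) (δ : K) (v : K × K × K) : ad g (δ • v) = δ • ad g v := by
  simp only [ad, Prod.smul_mk, Prod.smul_fst, Prod.smul_snd, smul_eq_mul, Prod.mk.injEq]; refine ⟨?_, ?_, ?_⟩ <;> ring
theorem ad_one (v : K × K × K) : ad 1 v = v := by simp [ad]

theorem cen {g : SpecialLinearGroup (Fin 2) K} {δ : K} (h : ∀ v, ad g v = δ • v) : g ∈ Subgroup.center _ := by
  have h1 := h (1, 0, 0)
  have h2 := h (0, 1, 0)
  have h3 := h (0, 0, 1)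
  have d := g.2
  rw [det_fin_two] at d
  simp only [ad, Prod.smul_mk, smul_eq_mul, Prod.mk.injEq, mul_one, mul_zero, add_zero, zero_add] at h1 h2 h3
  have c : g.1 1 0 = 0 := pow_eq_zero_iff two_ne_zero |>.1 h1.2.2
  have b : g.1 0 1 = 0 := pow_eq_zero_iff two_ne_zero |>.1 h3.1
  have a : g.1 0 0 ^ 2 = 1 := by linear_combination h1.1 - h2.2.1 + d + 2 * g.1 0 1 * c
  have e : g.1 1 1 = g.1 0 0 := by linear_combination g.1 0 0 * d - g.1 1 1 * a + g.1 0 0 * g.1 0 1 * c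
  refine Matrix.SpecialLinearGroup.mem_center_iff.2 ⟨g.1 0 0, by rw [Fintype.card_fin]; exact a, ?_⟩
  ext i j; fin_cases i <;> fin_cases j <;> simp [b, c, e]

theorem ad_cen {g : SpecialLinearGroup (Fin 2) K} (h : g ∈ Subgroup.center _) (v : K × K × K) : ad g v = v := by
  obtain ⟨r, h1, h2⟩ := Matrix.SpecialLinearGroup.mem_center_iff.1 h
  rw [Fintype.card_fin] at h1
  simp [ad, ← h2, h1, ← pow_two]

theorem uniq {s : K × K × K → K × K × K} {g g' : SpecialLinearGroup (Fin 2) K} (h : R s g) (h' : R s g') :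
    (QuotientGroup.mk g : ProjectiveSpecialLinearGroup (Fin 2) K) = QuotientGroup.mk g' := by
  obtain ⟨δ, -, h⟩ := h
  obtain ⟨δ', d, h'⟩ := h'
  refine QuotientGroup.eq.2 (cen (δ := δ' * δ) fun v => ?_)
  have : ad g' v = (δ' * δ) • ad g v := by rw [mul_smul, ← h, h', smul_smul, d, one_smul]
  rw [ad_mul, this, ad_smul, ← ad_mul, inv_mul_cancel, ad_one]

variable [IsAlgClosed K]

theorem sq {x y z : K} (h : x * z = y * y) : ∃ a c, x = a * a ∧ y = a * c ∧ z = c * c := by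
  obtain ⟨a, rfl⟩ := IsAlgClosed.exists_eq_mul_self x
  obtain ⟨c, rfl⟩ := IsAlgClosed.exists_eq_mul_self z
  rcases mul_self_eq_mul_self_iff.1 (by linear_combination -h : y * y = (a * c) * (a * c)) with e | e
  · exact ⟨a, c, rfl, e, rfl⟩
  · exact ⟨a, -c, rfl, by rw [e]; ring, by ring⟩

theorem core (t : (2 : K) ≠ 0) (s : K × K × K →ₗ[K] K × K × K) (h : ∀ v w, b0 (s v) (s w) = b0 v w) : ∃ g, R s g := by
  have hv : ∀ v : K × K × K, s v = v.1 • s (1, 0, 0) + v.2.1 • s (0, 1, 0) + v.2.2 • s (0, 0, 1) := fun v => by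
    rw [← map_smul, ← map_smul, ← map_smul, ← map_add, ← map_add]; simp
  have ee := h (1, 0, 0) (1, 0, 0)
  have ff := h (0, 0, 1) (0, 0, 1)
  have ef := h (1, 0, 0) (0, 0, 1)
  have eh := h (1, 0, 0) (0, 1, 0)
  have fh := h (0, 0, 1) (0, 1, 0)
  have hh := h (0, 1, 0) (0, 1, 0)
  generalize s (1, 0, 0) = E at *
  generalize s (0, 1, 0) = H at *
  generalize s (0, 0, 1) = F at *
  obtain ⟨e0, e1, e2⟩ := E
  obtain ⟨f0, f1, f2⟩ := F
  obtain ⟨h0, h1, h2⟩ := H
  simp only [b0] at ee ff ef eh fh hh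
  obtain ⟨a, c, rfl, rfl, rfl⟩ := sq (mul_left_cancel₀ t (by linear_combination ee) : e0 * e2 = e1 * e1)
  obtain ⟨b, d, rfl, rfl, rfl⟩ := sq (mul_left_cancel₀ t (by linear_combination ff) : f0 * f2 = f1 * f1)
  obtain ⟨D, hD⟩ : ∃ D, D = a * d - b * c := ⟨_, rfl⟩
  have D2 : D * D = 1 := by rw [hD]; linear_combination ef
  obtain ⟨ε, hε⟩ : ∃ ε, ε = (a * d + b * c) * h1 - a * b * h2 - c * d * h0 := ⟨_, rfl⟩
  have q0 : h0 = ε * (2 * a * b) := by rw [hε]; linear_combination a * a * fh + b * b * eh - h0 * ef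
  have q1 : h1 = ε * (a * d + b * c) := by rw [hε]; linear_combination a * c * fh + b * d * eh - h1 * ef
  have q2 : h2 = ε * (2 * c * d) := by rw [hε]; linear_combination c * c * fh + d * d * eh - h2 * ef
  have ε2 : ε * ε = 1 := mul_left_cancel₀ t (by rw [q0, q1, q2] at hh; linear_combination -hh - 2 * ε * ε * ef)
  obtain ⟨l, hl⟩ := IsAlgClosed.exists_eq_mul_self (ε * D)
  have l1 : ε * D * (l * l) = 1 := by rw [← hl]; linear_combination D * D * ε2 + D2
  obtain ⟨m, hm⟩ : ∃ m, m = l * ε := ⟨_, rfl⟩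
  have m1 : ε * D * (m * m) = 1 := by rw [hm]; linear_combination ε * ε * l1 + ε2
  have lm : ε * D * (l * m) = ε := by rw [hm]; linear_combination ε * l1
  refine ⟨⟨!![l * a, m * b; l * c, m * d], ?_⟩, ε * D, by linear_combination D * D * ε2 + D2, fun v => ?_⟩
  · rw [det_fin_two_of]
    linear_combination -(l * m) * hD + ε * lm + ε2 - D * l * m * ε2
  · rw [hv, q0, q1, q2]
    simp only [ad, Prod.smul_mk, Prod.mk_add_mk, smul_eq_mul, Prod.mk.injEq, of_apply, cons_val', cons_val_zero, cons_val_one, cons_val_fin_one]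
    refine ⟨?_, ?_, ?_⟩
    · linear_combination -(a * a * v.1) * l1 - (2 * a * b * v.2.1) * lm - (b * b * v.2.2) * m1
    · linear_combination -(a * c * v.1) * l1 - ((a * d + b * c) * v.2.1) * lm - (b * d * v.2.2) * m1
    · linear_combination -(c * c * v.1) * l1 - (2 * c * d * v.2.1) * lm - (d * d * v.2.2) * m1

theorem model (t : (2 : K) ≠ 0) {A : Type} [AddCommGroup A] [Module K A] [FiniteDimensional K A] (B : LinearMap.BilinForm K A)
    (h3 : finrank K A = 3) (sy : ∀ u v, B u v = B v u) (nd : ∀ u, (∀ v, B u v = 0) → u = 0) :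
    ∃ ψ : (K × K × K) ≃ₗ[K] A, ∀ v w, B (ψ v) (ψ w) = b0 v w := by
  have := invertibleOfNonzero t
  obtain ⟨b', hb'⟩ := LinearMap.BilinForm.exists_orthogonal_basis (B := B) ⟨sy⟩
  let b := b'.reindex (finCongr h3)
  have o : ∀ i j, i ≠ j → B (b i) (b j) = 0 := fun i j h => by
    simp only [b, Basis.reindex_apply]; exact hb' (by simpa using h)
  have n : ∀ i, B (b i) (b i) ≠ 0 := fun i h => b.ne_zero i (nd _ fun v => by
    rw [show B (b i) = 0 from b.ext fun j => if q : i = j then q ▸ h else o i j q]; rfl)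
  have r : ∀ i (c : K), ∃ r, r * r * B (b i) (b i) = c := fun i c => by
    obtain ⟨r, hr⟩ := IsAlgClosed.exists_eq_mul_self (c / B (b i) (b i))
    exact ⟨r, by rw [← hr, div_mul_cancel₀ _ (n i)]⟩
  obtain ⟨r0, h0⟩ := r 0 2⁻¹
  obtain ⟨r1, h1⟩ := r 1 (-2)
  obtain ⟨r2, h2⟩ := r 2 (-2⁻¹)
  let ψ : (K × K × K) →ₗ[K] A := (LinearMap.toSpanSingleton K A (r0 • b 0 + r2 • b 2)).coprod
    ((LinearMap.toSpanSingleton K A (r1 • b 1)).coprod (LinearMap.toSpanSingleton K A (r0 • b 0 - r2 • b 2)))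
  have e : ∀ v w, B (ψ v) (ψ w) = b0 v w := fun v w => by
    simp only [ψ, LinearMap.coprod_apply, LinearMap.toSpanSingleton_apply, map_add, map_sub, map_smul, LinearMap.add_apply, LinearMap.sub_apply,
      LinearMap.smul_apply, smul_eq_mul, o 0 1 (by decide), o 0 2 (by decide), o 1 0 (by decide), o 1 2 (by decide), o 2 0 (by decide),
      o 2 1 (by decide), b0]
    linear_combination (v.1 + v.2.2) * (w.1 + w.2.2) * h0 + v.2.1 * w.2.1 * h1 + (v.1 - v.2.2) * (w.1 - w.2.2) * h2 +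
      (v.1 * w.2.2 + v.2.2 * w.1) * mul_inv_cancel₀ t
  refine ⟨ψ.linearEquivOfInjective ((injective_iff_map_eq_zero _).2 fun v hv => ?_) (by simp [h3]), e⟩
  have a0 := e v (1, 0, 0)
  have a1 := e v (0, 1, 0)
  have a2 := e v (0, 0, 1)
  simp only [hv, map_zero, LinearMap.zero_apply, b0] at a0 a1 a2
  exact Prod.ext (show v.1 = 0 by linear_combination -a2) (Prod.ext (show v.2.1 = 0 from mul_left_cancel₀ t (by linear_combination a1))
    (show v.2.2 = 0 by linear_combination -a0))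

universe u

theorem o : H05.Tu.OStmt.{u} := by
  intro G _ _ p _ x hx hp ⟨A, _, _, _, τ, B, h3, sy, nd, inv, ne, ce⟩
  have od : Odd p := (Fact.out : p.Prime).odd_of_ne_two (by omega)
  have t : (2 : H05.Tu.K p) ≠ 0 := fun e => by
    have := Nat.le_of_dvd two_pos ((CharP.cast_eq_zero_iff (H05.Tu.K p) p 2).1 (by exact_mod_cast e)); omega
  obtain ⟨ψ, hψ⟩ := model t B h3 sy nd
  choose γ hγ using fun g => core t (ψ.symm.toLinearMap ∘ₗ τ g ∘ₗ ψ.toLinearMap) fun v w => by rw [← hψ, ← hψ]; simp [inv]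
  refine ⟨MonoidHom.mk' (fun g => QuotientGroup.mk (γ g)) fun g h => ?_, fun e => ne ?_, fun z hz => ?_⟩
  · obtain ⟨δ, d, a⟩ := hγ g
    obtain ⟨δ', d', a'⟩ := hγ h
    refine uniq (hγ _) (g' := γ g * γ h) ⟨δ' * δ, by linear_combination δ * δ * d' + d, fun v => ?_⟩
    rw [ad_mul, mul_smul, ← a, ← map_smul, ← a']; simp
  · obtain ⟨δ, d, a⟩ := hγ x
    have c : γ x ∈ Subgroup.center _ := (QuotientGroup.eq_one_iff _).1 e
    have b : τ x = δ • 1 := LinearMap.ext fun v => by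
      have := congrArg ψ (a (ψ.symm v))
      simpa [ad_cen c] using this
    rcases mul_self_eq_one_iff.1 d with rfl | rfl
    · simpa using b
    · have q : τ x ^ p = 1 := by rw [← map_pow, show x ^ p = 1 from (congrArg (x ^ ·) hx.o).symm.trans (pow_orderOf_eq_one x), map_one]
      rw [b, neg_smul, one_smul, od.neg_one_pow] at q
      rw [b, neg_smul, one_smul, q]
  · exact uniq (hγ z) (g' := 1) ⟨1, one_mul 1, fun v => by simp [ce z hz, ad_one]⟩

end H11.TuO
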