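import Cfsg.Agent.H11.TwM

/-! The characteristic part of the Schur multiplier of a Steinberg-twisted group, from decidable root data (`noStem_sl`). -/

namespace H11
open Cfsg Cfsg.Lie Equiv StSys Finset

universe u
variable {D : ChevalleyDatum} [Good D] {K : Type*} [Field K]

theorem sum_bd {q : ℤ} (hq : 3 ≤ q) {e : ℕ → ℤ} {k : ℕ} (h : ∀ j < k, |e j| ≤ 2) : |∑ j ∈ range k, q ^ j * e j| ≤ q ^ k - 1 ∧
    ((∃ j < k, |e j| ≤ 1) → |∑ j ∈ range k, q ^ j * e j| < q ^ k - 1) ∧ (∑ j ∈ range k, q ^ j * e j = 0 → ∀ j < k, e j = 0) := by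
  induction k with
  | zero => simp
  | succ k ih =>
    obtain ⟨a, b, c⟩ := ih fun j hj => h j (by omega)
    have h0 : 0 < q ^ k := by positivity
    have h1 := h k (by omega)
    have h2 := (abs_add_le (∑ j ∈ range k, q ^ j * e j) (q ^ k * e k)).trans_eq (by rw [abs_mul, abs_of_pos h0])
    rw [sum_range_succ, pow_succ]
    refine ⟨by nlinarith, fun ⟨j, hj, d⟩ => ?_, fun d => ?_⟩
    · rcases Nat.lt_succ_iff_lt_or_eq.1 hj with hj | rfl
      · have := b ⟨j, hj, d⟩; nlinarith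
      · nlinarith
    · have h3 : e k = 0 := by_contra fun d' => by
        rw [eq_neg_of_add_eq_zero_left d, abs_neg, abs_mul, abs_of_pos h0] at a
        have := abs_pos.2 d'; nlinarith
      exact fun j hj => (Nat.lt_succ_iff_lt_or_eq.1 hj).elim (c (by simpa [h3] using d) j) (· ▸ h3)

/-- exponents of a twisted cocharacter on a root -/
def ex (ρ : Perm (Node D)) (A : List ℤ) (r : Root D) (j : ℕ) : ℤ := fv (fun i => A.getD (ρ.symm^[j] i).1 0) r

/-- a twisted cocharacter -/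
def gam (ρ : Perm (Node D)) (k q : ℕ) (A : List ℤ) (i : Node D) : ℤ := ∑ j ∈ range k, q ^ j * A.getD (ρ.symm^[j] i).1 0

omit [Good D] in
theorem fv_gam (ρ : Perm (Node D)) (k q : ℕ) (A : List ℤ) (r : Root D) : fv (gam ρ k q A) r = ∑ j ∈ range k, q ^ j * ex ρ A r j := by
  simp only [fv, gam, ex, dotProduct, sum_mul, mul_sum, mul_assoc]; exact sum_comm

omit [Good D] in
theorem gam_mem {k q : ℕ} {θ : K ≃+* K} (F : FrF k q θ) {ρ : Perm (Node D)} (h : ∀ i, ρ.symm^[k] i = i) (A : List ℤ) (w : Kˣ) :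
    (fun i => w ^ gam ρ k q A i) ∈ Tf ρ fun _ => θ := fun i => by
  have := F.finite
  have h0 : ((q ^ k - 1 : ℕ) : ℤ) = q ^ k - 1 := by have := F.lt; push_cast [Nat.one_le_pow k q this.le]; rfl
  have h1 : gam ρ k q A i * q = gam ρ k q A (ρ i) + (q ^ k - 1 : ℕ) * A.getD (ρ i).1 0 := by
    have := (sum_range_succ (fun j => (q : ℤ) ^ j * A.getD (ρ.symm^[j] (ρ i)).1 0) k).symm.trans (sum_range_succ' _ k)
    simp only [h, Function.iterate_succ_apply, symm_apply_apply, Function.iterate_zero_apply, pow_succ] at this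
    simp only [gam, sum_mul, h0, mul_right_comm _ _ (q : ℤ)]; linear_combination -this
  rw [F.eq, ← Units.val_pow_eq_pow_val, ← zpow_natCast, ← zpow_mul, h1, zpow_add, zpow_mul, zpow_natCast, ← F.card, ← Nat.card_units,
    pow_card_eq_one', one_zpow, mul_one]

variable (gr : ℕ → List (ℕ × ℤ × ℕ)) (ρ : Perm (Node D)) (k : ℕ) (As : List (List ℤ)) (ds : List (ℕ × ℕ × ℕ))

/-- not minimal in its orbit -/
def NM (r : Root D) : Prop := ∃ s < r, (gr s).headI.1 = r ∨ (gr (gr s).headI.1).headI.1 = r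

/-- small nonzero exponents -/
def Gd (A : List ℤ) (r : Root D) : Prop := (∀ j < k, |ex ρ A r j| ≤ 2) ∧ (∃ j < k, |ex ρ A r j| ≤ 1) ∧ ∃ j < k, ex ρ A r j ≠ 0

/-- separated by the torus -/
def Sep (r s : Root D) : Prop := ∃ A ∈ As, (∀ j < k, ex ρ A r j = 0) ∧ Gd ρ k A s

/-- a commutator of fixed roots -/
def Fd (r : Root D) : Prop := ∃ d ∈ ds, d.1 = r ∧ (∀ a ∈ [d.1, d.2.1, d.2.2], a < D.nroots ∧ gr a = [(a, 1, 1)]) ∧ Sw D r d.2.1 ∧ Sw D r d.2.2 ∧
  d.2.2 ≠ d.2.1 ∧ d.2.2 + d.2.1 + 1 ≠ D.nroots ∧ ∃ ε ∈ [1, -1], D.commTerms d.2.1 d.2.2 = [(d.1, ε, 1, 1)]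

/-- the torus is transitive -/
def Fr (r : Root D) : Prop := ∃ A ∈ As, k = 2 ∧ ex ρ A r 0 = 1 ∧ ex ρ A r 1 = 0 ∨
  k = 3 ∧ (ex ρ A r 0 = 2 ∧ ex ρ A r 1 = 0 ∧ ex ρ A r 2 = 0) ∧ ∃ B ∈ As, ∀ j < 3, ex ρ B r j = 1

/-- all the data -/
def SlD : Prop := (∀ i, ρ.symm^[k] i = i) ∧ (∀ r : Root D, (gr r).headI.1 < D.nroots ∧ gr r = [((gr r).headI.1, (gr r).headI.2.1, 1)]) ∧
  ∀ a : Root D, IsPos a → NM gr a ∨ (∃ A ∈ As, Gd ρ k A a) ∧ (Fd gr ds a ∨ Fr ρ k As a) ∧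
    ∀ b < a, IsPos b → NM gr b ∨ Sep ρ k As a b ∨ Sep ρ k As b a

instance instDecNM (r : Root D) : Decidable (NM gr r) := by unfold NM; infer_instance
instance instDecGd (A : List ℤ) (r : Root D) : Decidable (Gd ρ k A r) := by unfold Gd; infer_instance
instance instDecSep (r s : Root D) : Decidable (Sep ρ k As r s) := by unfold Sep; infer_instance
instance instDecFd (r : Root D) : Decidable (Fd gr ds r) := by unfold Fd; infer_instance
instance instDecFr (r : Root D) : Decidable (Fr ρ k As r) := by unfold Fr; infer_instance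
instance instDecSlD : Decidable (SlD gr ρ k As ds) := by unfold SlD; infer_instance

theorem slD_D4 : SlD grD4a symD4a 3 [[-1, 0, 0, 1], [1, 1, 1, 1], [0, 0, 0, 1], [0, 1, 0, 0], [0, 1, 0, 1], [0, -1, 1, 1]]
    [(14, 1, 23), (22, 9, 23), (23, 14, 22)] := by decide +kernel

theorem slD_E6 : SlD grE6 flipE6 2 [[-1, -1, -1, -1, 0, 1], [-1, -1, 0, -1, -1, 0], [0, 0, 0, 1, 2, 1], [-1, 0, -1, -1, 0, 1],
    [0, 1, 1, 2, 2, 1], [-1, -1, -1, -1, -1, -1], [1, 1, 1, 2, 2, 1], [-1, 0, -1, -1, -1, -1], [0, -1, 0, -1, -1, 0]]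
    [(39, 2, 70), (44, 6, 70), (46, 1, 71), (47, 2, 71), (51, 6, 71), (53, 8, 71), (60, 18, 70), (63, 18, 71), (65, 20, 71), (69, 24, 71),
      (70, 25, 71), (71, 46, 70)] := by decide +kernel

variable {gr ρ k As ds}

theorem noStem_sl [Cert D] {G : Type u} [Group G] {S : StSys D K G} {σ : MulAut G} {q : ℕ} {θ : K ≃+* K} [Finite K] (F : FrF k q θ)
    (h3 : 3 ≤ q) (I : IsTw S σ gr θ) {h : S.SimpAct σ ρ 1 fun _ => θ} {M : Subgroup G} (T : Tw h M)
    (hT : ∀ c ∈ Tf ρ fun _ => θ, torS S.hMul_of_finite c ∈ M) (V : SlD gr ρ k As ds) {p : ℕ} (hp : p.Prime)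
    (hP : ¬ p ∣ (S.U.subgroupOf M).index) : H15.NoStem p M := by
  obtain ⟨v1, v2, v3⟩ := V
  obtain ⟨u, hu⟩ := IsCyclic.exists_ofOrder_eq_natCard (α := Kˣ)
  have a0 : ∀ r, (h.R r).1 = (gr r).headI.1 := fun r => congrArg Fin.val (h.R_eq (s := ⟨_, (v2 r).1⟩) fun t =>
    ⟨(gr r).headI.2.1 * θ t, by
      simpa [appW, xNat, (v2 r).1] using (I r t).trans (congrArg (fun l => wordG S.x (appW l (θ t))) (v2 r).2)⟩)
  have a1 : ∀ m, IsPos m → NM gr m → Vc S (phiV D) M m ⊆ {0} := by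
    rintro m hm ⟨s, hs, e | e⟩
    · obtain rfl : h.R s = m := Fin.ext ((a0 s).trans e)
      exact vc_zero (fun r => (h.onto_R r).1) (fun _ => h.isPos_R.2) (fun g hg => T.le hg) hm hs
    · obtain rfl : (h.R * h.R) s = m := Fin.ext ((a0 _).trans (by rwa [a0]))
      exact vc_zero (α := σ.toMonoidHom.comp σ.toMonoidHom) (fun r t => let ⟨_, a⟩ := (h.onto_R r).1 t; let ⟨b, c⟩ := (h.onto_R (h.R r)).1 _
        ⟨b, (congrArg σ a).trans c⟩) (fun r a => show IsPos (h.R (h.R r)) from h.isPos_R.2 (h.isPos_R.2 a))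
        (fun g hg => (congrArg σ (T.le hg)).trans (T.le hg)) hm hs
  have a2 : ∀ A (w : Kˣ), ∃ y ∈ S.H ⊓ M, ∀ r, S.Ac y r ↑(w ^ ∑ j ∈ range k, q ^ j * ex ρ A r j) := fun A w =>
    ⟨_, ⟨torS_mem _ _, hT _ (gam_mem F v1 A w)⟩, fun r t => by rw [torS_conj, chiOf_zpow, fv_gam]⟩
  have a3 : ∀ {A r}, Gd ρ k A r → ((u ^ ∑ j ∈ range k, q ^ j * ex ρ A r j : Kˣ) : K) ≠ 1 := fun ⟨a, b, j, c, d⟩ e => by
    obtain ⟨-, e1, e2⟩ := sum_bd (q := q) (by exact_mod_cast h3) a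
    rw [Units.val_eq_one, ← orderOf_dvd_iff_zpow_eq_one, hu, Nat.card_units, F.card] at e
    exact d (e2 (Int.eq_zero_of_abs_lt_dvd e (by push_cast [Nat.one_le_pow k q (by omega)]; exact e1 b)) j c)
  have a4 : ∀ {E : Type u} [Group E] {κ : E →* G} {a b}, IsPos b → Sep ρ k As a b → Kill S (phiV D) M a b κ := fun hb ⟨A, _, c, d⟩ =>
    let ⟨_, a, e⟩ := a2 A u
    kill_sep (isPos_iff_phi.1 hb) a (by
      convert e _; rw [sum_eq_zero fun j hj => mul_eq_zero_of_right _ (c j (mem_range.1 hj))]; simp) (e _) (a3 d)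
  have a5 : ∀ (a : ℕ) t, a < D.nroots ∧ gr a = [(a, 1, 1)] → θ t = t → xNat S.x a t ∈ M := fun a t ha ht => by
    by_cases e : IsPos (⟨a, ha.1⟩ : Root D)
    exacts [T.U_le ⟨xNat_mem (T := {r | IsPos r}) (fun r hr => (Fin.ext hr : r = ⟨a, ha.1⟩) ▸ e) t, I.xNat_mem ha ht⟩,
      T.V_le ⟨xNat_mem (T := {r | ¬ IsPos r}) (fun r hr => (Fin.ext hr : r = ⟨a, ha.1⟩) ▸ e) t, I.xNat_mem ha ht⟩]
  refine noStem_of_kill hp hP (fun E _ κ hc hκ a b ha hb => ?_) fun m hm => (v3 m hm).imp (a1 m hm) fun ⟨⟨A, _, a⟩, _⟩ =>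
    let ⟨y, b, e⟩ := a2 A u; ⟨y, b, _, a3 a, e m⟩
  wlog hl : b ≤ a generalizing a b
  · exact (this b a hb ha (le_of_not_ge hl)).symm
  rcases v3 a ha with e | ⟨-, e, e'⟩
  · exact kill_left (a1 a ha e)
  rcases hl.lt_or_eq with hl | rfl
  · rcases e' b hl hb with e | e | e
    exacts [kill_right (a1 b hb e), a4 hb e, (a4 ha e).symm]
  rcases e with ⟨⟨_, c, d⟩, -, rfl, e1, e2, e3, e4, e5, ε, e6, e7⟩ | e
  · simp only [List.forall_mem_cons] at e1
    have a6 : ∀ s ∈ Vc S (phiV D) M b, θ s = s := fun s => vc_fix (fun r => (h.onto_R r).1) (fun _ => h.isPos_R.2) (fun g hg => T.le hg) ha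
      (Fin.ext ((a0 b).trans (by rw [e1.1.2]; rfl))) fun t => by simpa using I.act1 e1.1 t
    refine kill_of_comm hc hκ fun s hs t ht => ⟨S.x b s, by simpa using a5 b s e1.1 (a6 s hs), S.x b t, ?_, by simp [Co], by simp [Co]⟩
    have h1 : ∀ c t, Sw D b c → xNat S.x c t ∈ Subgroup.centralizer {S.x b s} := fun c t a =>
      Subgroup.mem_centralizer_singleton_iff.2 (by simpa using S.rel.swap a s t)
    have h2 : ε * ε = 1 := by revert e6; simp only [List.mem_cons, List.not_mem_nil, or_false]; rintro (rfl | rfl) <;> rfl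
    simpa [← Int.cast_mul, h2] using S.rel.xNat_mem_comm (M := Subgroup.centralizer {S.x b s} ⊓ M) ⟨e1.2.1.1, e1.2.2.1.1, e4, e5, e7⟩
      ⟨h1 _ _ e2, a5 c (-ε) e1.2.1 (by simp)⟩ ⟨h1 _ _ e3, a5 d t e1.2.2.1 (a6 t ht)⟩
  have a7 : ∀ w : Kˣ, ∃ y ∈ S.H ⊓ M, S.Ac y b w := fun w => by
    obtain ⟨A, -, ⟨rfl, c, d⟩ | ⟨rfl, c, B, -, d⟩⟩ := e
    · obtain ⟨y, a, e⟩ := a2 A w
      exact ⟨y, a, by simpa [sum_range_succ, c, d] using e b⟩
    · obtain ⟨y, a, e⟩ := a2 A (w ^ (1 + q * (q + 1) / 2))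
      obtain ⟨z, a', e'⟩ := a2 B w⁻¹
      refine ⟨_, mul_mem a a', ?_⟩
      convert (e b).mul (e' b)
      obtain ⟨n, hn⟩ := Nat.even_mul_succ_self q
      rw [← Units.val_mul, inv_zpow', ← zpow_natCast, ← zpow_mul, ← zpow_add, show q * (q + 1) / 2 = n by omega]
      zify at hn
      simp only [sum_range_succ, c, d 0 (by decide), d 1 (by decide), d 2 (by decide), sum_range_zero]
      rw [show _ + _ = (1 : ℤ) by push_cast; linear_combination -hn, zpow_one]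
  have := Fintype.ofFinite K
  obtain ⟨v, c0, c1, c2⟩ := exists_trick (K := K) ⟨univ, by
    rw [card_univ, Fintype.card_eq_nat_card, F.card]
    obtain ⟨-, -, ⟨rfl, -⟩ | ⟨rfl, -⟩⟩ := e <;> exact lt_of_lt_of_le (by decide) (Nat.pow_le_pow_left h3 _)⟩
  obtain ⟨y, a, c⟩ := a7 (.mk0 v c0)
  obtain ⟨z, a', c'⟩ := a7 (.mk0 _ (sub_ne_zero.2 c1.symm))
  exact kill_self (isPos_iff_phi.1 ha) a a' c c' c0 c1 (by rwa [mul_sub, mul_one, ← sq])

omit [Good D] in
theorem FrF.char_dvd {q : ℕ} {θ : K ≃+* K} (F : FrF k q θ) (p : ℕ) [Fact p.Prime] [CharP K p] : p ∣ q := by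
  have := F.finite
  obtain ⟨n, a, b⟩ := exists_card_eq (K := K) p
  exact (Fact.out : p.Prime).dvd_of_dvd_pow (F.card ▸ b ▸ dvd_pow_self p a.ne')

theorem TE6.tor_mem {G : Type*} [Group G] {q : ℕ} {θ : K ≃+* K} (F : FrF 2 q θ) {S : StSys chevE6 K G} (hS : S.HMul) :
    ∀ c ∈ Tf flipE6 fun _ => θ, torS hS c ∈ Subgroup.closure (wordG S.x '' e6Words K q) := fun c hc => by
  have h1 := fun a ha t ht => Subgroup.subset_closure (Set.mem_image_of_mem (wordG S.x) (TE6.mem1 F (a := a) ha (t := t) ht))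
  have h2 := fun a ha t => Subgroup.subset_closure (Set.mem_image_of_mem (wordG S.x) (TE6.mem2 F (a := a) ha t))
  refine torS_mem_of _ [[nd _ 1], [nd _ 3], [nd _ 0, nd _ 5], [nd _ 2, nd _ 4]] (by decide) ?_
  simp only [List.forall_mem_cons, List.map_cons, List.map_nil, List.prod_cons, List.prod_nil, mul_one]
  exact ⟨h_mem_one _ (h1 46 (by decide)) (h1 25 (by decide)) (hc (nd _ 1)).symm,
    h_mem_one _ (h1 39 (by decide)) (h1 32 (by decide)) (hc (nd _ 3)).symm,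
    (show (c (nd _ 5) : K) = θ (c (nd _ 0)) by exact hc (nd _ 0)) ▸ h_mem_two (by decide +kernel) θ (h2 (56, 36) (by decide)) (h2 (15, 35) (by decide)) _,
    (show (c (nd _ 4) : K) = θ (c (nd _ 2)) by exact hc (nd _ 2)) ▸ h_mem_two (by decide +kernel) θ (h2 (42, 37) (by decide)) (h2 (29, 34) (by decide)) _,
    by simp⟩

theorem TD4.tor_mem {G : Type*} [Group G] {q : ℕ} {θ : K ≃+* K} (F : FrF 3 q θ) {S : StSys chevD4 K G} (hS : S.HMul) :
    ∀ c ∈ Tf symD4a fun _ => θ, torS hS c ∈ Subgroup.closure (wordG S.x '' d4Words K q) := fun c hc => by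
  have h1 := fun a ha t ht => Subgroup.subset_closure (Set.mem_image_of_mem (wordG S.x) (TD4.mem1 F (a := a) ha (t := t) ht))
  have h2 := fun a ha t => Subgroup.subset_closure (Set.mem_image_of_mem (wordG S.x) (TD4.mem2 F (a := a) ha t))
  refine torS_mem_of _ [[nd _ 1], [nd _ 0, nd _ 2, nd _ 3]] (by decide) ?_
  simp only [List.forall_mem_cons, List.map_cons, List.map_nil, List.prod_cons, List.prod_nil, mul_one]
  refine ⟨h_mem_one _ (h1 14 (by decide)) (h1 9 (by decide)) (hc (nd _ 1)).symm, ?_, by simp⟩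
  rw [show (c (nd _ 3) : K) = θ (c (nd _ 2)) by exact hc (nd _ 2), show (c (nd _ 2) : K) = θ (c (nd _ 0)) by exact hc (nd _ 0)]
  exact h_mem_three (by decide +kernel) (by decide +kernel) θ (h2 (18, 13, 12) (by decide)) (h2 (5, 10, 11) (by decide)) _

open Lx in
theorem mult_E6 [Finite K] {q : ℕ} {θ : K ≃+* K} (F : FrF 2 q θ) (h3 : 3 ≤ q) :
    HasCyclicSchurMultiplier (twistedE6 K q) (Nat.gcd 3 (q + 1)) := by
  obtain ⟨σ', h'⟩ := exists_isTw_E6 θ
  obtain ⟨σ, h⟩ := exists_isTw_sg (rel_grE6 (sgSys chevE6 K).rel) (by decide +kernel) (π := flipE6) (by decide +kernel) θ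
  obtain ⟨p, _⟩ := CharP.exists K
  have := Fact.mk (CharP.char_is_prime K p)
  have := Fact.mk Nat.prime_three
  have T := TE6.tw F h (sgSys_grp _ _)
  have hM := (TE6.wd F h).le_MF orbD_E6
  refine T.mult_gen hM torS_sgE6 (TE6.tor_mem F _) (commutator_eq_top_of (Subgroup.inclusion_injective _) (inclusion_range_gen _)
    (TE6.comm_eq F h' (grpSys_θ_injective _ _) (grpSys_grp _ _))) (T.mult (p := p) hM torS_sgE6
    (rep := ![nd _ 1, nd _ 3, nd _ 4, nd _ 5]) (orbD_E6.rep (by decide)) (fun a b => ?_) (fun E _ _ κ C hκ _ _ _ a => ?_)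
    (noStem_sl F h3 h T (TE6.tor_mem F _) slD_E6 Fact.out (T.not_dvd_index (TE6.hq F h) (F.char_dvd p)))) (TE6.card_Z F) (Nat.gcd_dvd_left 3 _)
  · simp only [Function.onFun, orbD_E6.orb, Set.disjoint_left, Set.mem_ofPred_eq]; revert a b; decide
  fin_cases a
  exacts [T.ri_od C hκ (od1 orbD_E6 (i := nd _ 1) (by decide)) (by decide +kernel),
    T.ri_od C hκ (od1 orbD_E6 (i := nd _ 3) (by decide)) (by decide +kernel),
    T.ri_od C hκ (od2 orbD_E6 (a := nd _ 2) (b := nd _ 4) (by decide +kernel) F.iter) (by decide +kernel),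
    T.ri_od C hκ (od2 orbD_E6 (a := nd _ 0) (b := nd _ 5) (by decide +kernel) F.iter) (by decide +kernel)]

open Lx in
theorem mult_D4 [Finite K] {q : ℕ} {θ : K ≃+* K} (F : FrF 3 q θ) (h3 : ∀ p, p ∣ q → ∀ σ, IsTw (sgSys chevD4 K) σ grD4a θ →
    3 ≤ q ∨ H15.NoStem p (Subgroup.closure (wordG (sgSys chevD4 K).x '' d4Words K q))) : HasCyclicSchurMultiplier (twistedD4 K q) 1 := by
  obtain ⟨σ', h'⟩ := exists_isTw_D4 θ
  obtain ⟨σ, h⟩ := exists_isTw_sg (rel_grD4a (sgSys chevD4 K).rel) (by decide +kernel) (π := symD4a) (by decide +kernel) θ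
  obtain ⟨p, _⟩ := CharP.exists K
  have := Fact.mk (CharP.char_is_prime K p)
  have T := TD4.tw F h (sgSys_grp _ _)
  have hM := (TD4.wd F h).le_MF orbD_D4
  refine T.mult_gen hM torS_sgD4 (TD4.tor_mem F _) (commutator_eq_top_of (Subgroup.inclusion_injective _) (inclusion_range_gen _)
    (TD4.comm_eq F h' (grpSys_θ_injective _ _) (grpSys_grp _ _))) (T.mult (p := p) hM torS_sgD4
    (rep := repD4) (orbD_D4.rep (by decide)) (fun a b => ?_) (fun E _ _ κ C hκ _ _ _ a => ?_)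
    ((h3 p (F.char_dvd p) σ h).elim (fun h3 => noStem_sl F h3 h T (TD4.tor_mem F _) slD_D4 Fact.out
      (T.not_dvd_index (TD4.hq F h) (F.char_dvd p))) id)) (by rw [TD4.Z_eq, Subgroup.card_bot]) (one_dvd p)
  · simp only [Function.onFun, orbD_D4.orb, Set.disjoint_left, Set.mem_ofPred_eq]; revert a b; decide
  fin_cases a
  exacts [T.ri_od C hκ (odD4 F) (by decide +kernel), T.ri_od C hκ (od1 orbD_D4 (i := nd _ 1) (by decide)) (by decide +kernel)]

end H11
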