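import Cfsg.Agent.H28.Tw0
import Cfsg.Agent.H11.TwS

/-! The simply connected cover of `²E₆(2)` as a fixed point group over an algebraically closed field: `twA : H28.Tw.AStmt`. -/

namespace H11
open Cfsg Cfsg.Lie StSys

theorem twA.{u} : H28.Tw.AStmt.{u} := fun K _ _ hK => by
  obtain ⟨Ω, _, _, _, ⟨φ⟩⟩ := exists_unc K
  obtain ⟨τ, h1, h2⟩ := exists_frobΩ φ
  replace hK : Fintype.card K = 2 ^ 2 := hK
  have h0 : ((2 : ℕ) : Ω) = 0 := by
    rw [← pow_eq_zero_iff two_ne_zero, ← Nat.cast_pow, ← hK, ← map_natCast φ, FiniteField.cast_card_eq_zero, map_zero]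
  obtain ⟨θ, hθ⟩ := exists_frobq Nat.prime_two.isPrimePow h0
  obtain ⟨θ', F⟩ := exists_frF Nat.prime_two.isPrimePow two_ne_zero hK
  obtain ⟨σ, hσ⟩ := exists_isTw_sg (rel_grE6 (sgSys _ Ω).rel) (by decide +kernel) (π := flipE6) (by decide +kernel) θ
  obtain ⟨σ', hσ'⟩ := exists_isTw_sg (rel_grE6 (sgSys _ K).rel) (by decide +kernel) (π := flipE6) (by decide +kernel) θ'
  have h3 := TE6.simpAct hσ
  have hm : σ ^ 2 = (galSg chevE6 Ω).aut τ := MulEquiv.toMonoidHom_injective (hom_ext_simple (sgSys_grp _ _)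
    (fun i t => by simp [pow_succ, h3.pos, hθ, h1, hK, mul_assoc, (galSg chevE6 Ω).mor τ _,
      show flipE6 (flipE6 i) = i by revert i; decide])
    fun i t => by simp [pow_succ, h3.neg, hθ, h1, hK, mul_assoc, (galSg chevE6 Ω).mor τ _,
      show flipE6 (flipE6 i) = i by revert i; decide])
  obtain ⟨j, hj⟩ := exists_sgMor (hMul_sg (D := chevE6)) φ
  have k1 (g) : (sgSys chevE6 Ω).θ (j g) = 1 ↔ (sgSys chevE6 K).θ g = 1 := by
    rw [hj.θ (sgSys_grp _ _), ← map_one (Matrix.GeneralLinearGroup.map φ)]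
    exact ⟨fun e => Units.ext (Matrix.map_injective φ.injective (congrArg Units.val e)), fun e => by rw [e]⟩
  have hi : Function.Injective j := (injective_iff_map_eq_one j).2 fun g e => by
    obtain ⟨c, -, rfl⟩ := (center_eq_map hMul_sg (sgSys_grp _ _)).le
      ((center_eq_ker (sgSys_grp _ _)).ge ((k1 g).1 (by rw [e, map_one])))
    rw [hj.torS hMul_sg hMul_sg, ← map_one (torS hMul_sg)] at e
    rw [show c = 1 from funext fun i => Units.map_injective φ.injective ((congrFun (torS_sgE6 e) i).trans (map_one _).symm), map_one]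
  have T := TE6.tw F hσ' (sgSys_grp _ _)
  have h6 := (galSg chevE6 Ω).map_fix hMul_sg hj hi T h3 (fun _ t => by rw [hθ, F.eq, map_pow]) h2 (fun _ t => by rw [hθ, hθ, map_pow])
    hm fun c _ b => torS_sgE6 (b.trans (map_one _).symm)
  rw [← T.eq_fix (by
    rw [H_inf_fix_of hMul_sg ((TE6.simpAct hσ').map_torS hMul_sg) fun c _ b => torS_sgE6 (b.trans (map_one _).symm)]
    rintro _ ⟨c, hc, rfl⟩
    exact TE6.tor_mem F _ c (mem_Tf.2 hc))] at h6
  have := (sgSys chevE6 K).finite_of_gen (sgSys_grp _ _)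
  set M := Subgroup.closure (wordG (sgSys chevE6 K).x '' e6Words K 2)
  have h7 : M.map (sgSys chevE6 K).θ = chevE6.genSubgroup K (e6Words K 2) := by
    rw [genSubgroup_eq, MonoidHom.map_closure, MonoidHom.map_closure, Set.image_image, Set.image_image]
    congr 2; funext w
    rw [map_wordG, map_wordG]; congr; funext r t; exact (sgSys chevE6 K).θ_x' r t
  let e : M ≃* fixS σ := (M.equivMapOfInjective j hi).trans (MulEquiv.subgroupCongr h6)
  let π : M →* twistedE6 K 2 := ((sgSys chevE6 K).θ.comp M.subtype).codRestrict _ fun g => h7.le ⟨g, g.2, rfl⟩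
  refine ⟨Ω, _, inferInstance, inferInstance, (CharP.charP_iff_prime_eq_zero Nat.prime_two).2 h0, σ, π.comp e.symm.toMonoidHom,
    h3.tws (A := galSg chevE6 Ω) torS_sgE6 (fun _ => hθ) Fintype.one_lt_card h1 hm, (funext hθ : ⇑θ = fun t => t ^ 2) ▸ hσ,
    .of_equiv _ e.toEquiv, Function.Surjective.comp (g := π) (fun g => let ⟨a, b, e⟩ := h7.ge g.2; ⟨⟨a, b⟩, Subtype.ext e⟩)
      e.symm.surjective,
    fun g => ?_⟩
  obtain ⟨g, rfl⟩ := e.surjective g
  rw [center_eq_ker (sgSys_grp _ _), MonoidHom.comp_apply, MulEquiv.coe_toMonoidHom, e.symm_apply_apply, Subtype.ext_iff]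
  exact (k1 g).symm

end H11
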