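import Cfsg.Agent.H11.TwOut

/-! The nodes of `²E₆`, `³D₄`, `²F₄` (`od1`, `od2`, `odD4`, the Suzuki node `sz`) and the orders of their outer automorphism groups. -/

namespace H11.Lx
open Cfsg Cfsg.Lie H11.StSys H12 H12.Lt H12.St Equiv

variable {K : Type*} [Field K] {G : Type*} [Group G]

/-- the fixed field -/
abbrev Fx (θ : K ≃+* K) : Subfield K := RingHom.eqLocusField (θ : K →+* K) (RingHom.id K)

theorem exists_pow_of {M : Type*} [CommGroup M] [Finite M] [IsCyclic M] {a b : ℕ} (h : Nat.card M = a * b) {x : M} (hx : x ^ a = 1) :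
    ∃ y, y ^ b = x := by
  have h0 : 0 < a * b := h ▸ Nat.card_pos
  have : (powMonoidHom b : M →* M).range = (powMonoidHom a : M →* M).ker :=
    Subgroup.eq_of_le_of_card_ge (by rintro _ ⟨y, rfl⟩; simp [← pow_mul, mul_comm b, ← h]) (by
      rw [IsCyclic.card_powMonoidHom_ker, IsCyclic.card_powMonoidHom_range, h, Nat.gcd_mul_right_left, Nat.gcd_mul_left_left,
        Nat.mul_div_cancel _ (Nat.pos_of_mul_pos_left h0)])
  exact this.ge hx

theorem exists_norm {k q : ℕ} {θ : K ≃+* K} (F : FrF k q θ) (t : Fx θ) (ht : t ≠ 0) :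
    ∃ s : K, s ≠ 0 ∧ s ^ (∑ i ∈ Finset.range k, q ^ i) = t := by
  have := F.finite
  have h1 := F.lt
  obtain ⟨y, hy⟩ := exists_pow_of (M := Kˣ) (a := q - 1) (b := ∑ i ∈ Finset.range k, q ^ i) (by
    rw [Nat.card_units, F.card, mul_comm, Nat.geomSum_eq h1, Nat.div_mul_cancel (Nat.sub_one_dvd_pow_sub_one q k)])
    (x := .mk0 t.1 (by simpa using ht)) (Units.ext (mul_right_cancel₀ (b := t.1) (by simpa using ht) (by
      simpa [← pow_succ, Nat.sub_add_cancel h1.le, ← F.eq] using show θ t = t from t.2)))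
  exact ⟨y, y.ne_zero, congrArg Units.val hy⟩

section
variable {D : ChevalleyDatum} [Good D] {ρ : Perm (Node D)} {f : Node D → K ≃+* K} {P N W} (O : OrbD ρ P N W)
include O

theorem od1 {i : Node D} (h : P i = [D.simple i] ∧ ρ i = i) : OD ρ f i [i] fun _ => (Fx (f i)).subtype :=
  ⟨(h.1 ▸ O.pos i : IsList _ [_]), List.pairwise_singleton _ _, fun j hj t => by rw [List.mem_singleton.1 hj]; exact t.2.symm,
    fun v hv => ⟨⟨v i, by simpa [h.2] using (hv i (by simp)).symm⟩, by simp⟩⟩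

theorem od2 {a b : Node D} (h : P b = [D.simple a, D.simple b] ∧ Orth [a, b] ∧ ρ a = b ∧ ρ b = a ∧ b ≠ a) (hf : ∀ t, f a (f b t) = t) :
    OD ρ f b [a, b] fun k => if k = a then f b else RingHom.id K :=
  ⟨(h.1 ▸ O.pos b : IsList _ [_, _]), h.2.1, by simp [h.2.2, hf], fun v hv => ⟨v b, by simpa [h.2.2] using hv b (by simp)⟩⟩

theorem perm_of_len {c : ℕ → ℕ} (hc : Function.Injective c) {A : H12.Lt.Orb ρ → ℕ} (hA : ∀ a, A a = c ((P a.out).length / 2))
    (h : ∀ i j, (P i).length / 2 = (P j).length / 2 → j ∈ orbL ρ i) {a b : H12.Lt.Orb ρ} (e : A a = A b) : b = a := by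
  rw [← b.out_eq, ← mem_orb_out, O.orb]; exact h _ _ (hc (by rw [← hA, ← hA, e]))

theorem comm_iff {F : Fast} (A : Agree D F) {i j : Node D} {m : ℕ} (e : F.chkOrd ((W i ++ W j).map Fin.val) m = true) :
    Commute (wJ (orb ρ i)) (wJ (orb ρ j)) ↔ m ∣ 2 := by
  rw [← orderOf_of_chk A _ _ e, wp_append, ← O.wJ, ← O.wJ, orderOf_dvd_iff_pow_eq_one, sq, mul_eq_one_iff_eq_inv, mul_inv_rev, wJ_inv, wJ_inv]
  rfl

end

theorem odD4 {q : ℕ} {θ : K ≃+* K} (F : FrF 3 q θ) : OD symD4a (fun _ => θ) (nd _ 0) [nd _ 0, nd _ 2, nd _ 3]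
    (![RingHom.id K, RingHom.id K, θ, (θ.trans θ : K ≃+* K)] : Fin 4 → K →+* K) :=
  ⟨by convert orbD_D4.pos (nd _ 0); decide, by decide +kernel, by simpa using ⟨fun _ => rfl, fun _ => rfl, fun t => (F.iter t).symm⟩,
    fun v hv => ⟨v (nd _ 0), by
      simp only [List.mem_cons, List.not_mem_nil, or_false, forall_eq_or_imp, forall_eq] at hv ⊢
      exact ⟨rfl, hv.1, hv.2.1.trans (congrArg θ hv.1)⟩⟩⟩

variable {G' : Type*} [Group G']

theorem out_D4 {q : ℕ} {θ : K ≃+* K} (F : FrF 3 q θ) {σ} (h : IsTw (grpSys chevD4 K) σ grD4a θ) {j : G' →* chevD4.group K}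
    (hj : Function.Injective j) (hr : j.range = Subgroup.closure (wordG (grpSys chevD4 K).x '' d4Words K q)) :
    Nat.card (Out G') = Nat.card (K ≃+* K) := by
  have := F.finite
  have := Fact.mk (CharP.char_is_prime K (ringChar K))
  have e := TD4.eq_fix F h (grpSys_θ_injective _ _) (grpSys_grp _ _)
  have T := TD4.tw F h (grpSys_grp _ _)
  have big := (TD4.wd F h).big' orbD_D4
  rw [e] at T big hr
  have O1 := od1 (f := fun _ => θ) orbD_D4 (i := nd _ 1) (by decide)
  have h1 := card_out_tw T hj hr (odD4 F) big (ringChar K) (fun t => ⟨t, rfl⟩) (Qr.first T hj hr (odD4 F) big (ringChar K)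
    (Qr.next T hj hr O1 big (ringChar K) (odD4 F) (Qr.all T hj hr big (ringChar K) (by simp only [orbD_D4.orb]; decide)) (by simp)
      fun t ht => ?_) fun φ => ⟨φ, ?_⟩) fun π _ a _ b => perm_of_len orbD_D4 (c := fun n => q ^ (2 * n + 1))
        (fun a b e => by simpa using Nat.pow_right_injective F.lt e) (A := fun a => Nat.card (XT _ _ j a))
        (fun a => by rw [card_comap hj, hr, TD4.hq F h, orbD_D4.len]; generalize a.out = i; fin_cases i <;> rfl) (by decide) (a b)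
  · rw [TD4.card_H F h (grpSys_θ_injective _ _), TD4.card_Tf F, mul_comm] at h1
    obtain ⟨r, rfl⟩ := Nat.exists_eq_add_of_lt F.lt
    rw [show (1 + r + 1) ^ 3 = (1 + r) * ((1 + r + 1) ^ 2 + (1 + r + 1) + 1) + 1 by ring, Nat.add_sub_cancel, Nat.add_sub_cancel] at h1
    exact mul_left_cancel₀ (by positivity) (h1.trans (by ring))
  · obtain ⟨s, h2, h3⟩ := exists_norm F t⁻¹ (inv_ne_zero ht)
    refine ⟨s, h2, ?_⟩
    simp only [Finset.sum_range_succ, Finset.range_zero, Finset.sum_empty, pow_add, sq q, pow_mul, pow_one, pow_zero, ← F.eq] at h3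
    simp [show pair (sroot (nd chevD4 0)) (sroot (nd chevD4 1)) = -1 by decide, show pair (sroot (nd chevD4 2)) (sroot (nd chevD4 1)) = -1 by decide,
      show pair (sroot (nd chevD4 3)) (sroot (nd chevD4 1)) = -1 by decide]
    rw [← mul_inv, ← mul_inv, inv_eq_iff_eq_inv, ← mul_assoc]; exact (show s * θ s * θ (θ s) = _ by simpa using h3)
  · simpa using ⟨fun _ => rfl, fun t => aut_comm θ φ t, fun t => (congrArg θ (aut_comm θ φ t)).trans (aut_comm ..)⟩

theorem out_E6 {q : ℕ} {θ : K ≃+* K} (F : FrF 2 q θ) {σ} (h : IsTw (grpSys chevE6 K) σ grE6 θ) {j : G' →* chevE6.group K}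
    (hj : Function.Injective j) (hr : j.range = Subgroup.closure (wordG (grpSys chevE6 K).x '' e6Words K q)) :
    Nat.card (Out G') = Nat.gcd 3 (q + 1) * Nat.card (K ≃+* K) := by
  have := F.finite
  have := Fact.mk (CharP.char_is_prime K (ringChar K))
  have e := TE6.eq_fix F h (grpSys_θ_injective _ _) (grpSys_grp _ _)
  have T := TE6.tw F h (grpSys_grp _ _)
  have big := (TE6.wd F h).big' orbD_E6
  rw [e] at T big hr
  have O1 := od1 (f := fun _ => θ) orbD_E6 (i := nd _ 1) (by decide)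
  have O3 := od1 (f := fun _ => θ) orbD_E6 (i := nd _ 3) (by decide)
  have O4 := od2 (f := fun _ => θ) orbD_E6 (a := nd _ 2) (b := nd _ 4) (by decide +kernel) F.iter
  have O5 := od2 (f := fun _ => θ) orbD_E6 (a := nd _ 0) (b := nd _ 5) (by decide +kernel) F.iter
  have q1 := Qr.all (l := [nd _ 1, nd _ 3, nd _ 5, nd _ 4]) T hj hr big (ringChar K) (by simp only [orbD_E6.orb]; decide)
  have q2 := Qr.next T hj hr O1 big (ringChar K) O3 q1 (by simp) fun t ht => ⟨t⁻¹, inv_ne_zero ht, by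
    simp [show pair (sroot (nd chevE6 3)) (sroot (nd chevE6 1)) = -1 by decide]⟩
  have q3 := Qr.next T hj hr O3 big (ringChar K) O4 q2 (by simp) fun t ht => by
    obtain ⟨s, h2, h3⟩ := exists_norm F t⁻¹ (inv_ne_zero ht)
    refine ⟨s, h2, ?_⟩
    simp only [Finset.sum_range_succ, Finset.range_zero, Finset.sum_empty, pow_add, pow_one, pow_zero, ← F.eq] at h3
    simp [show pair (sroot (nd chevE6 2)) (sroot (nd chevE6 3)) = -1 by decide, show pair (sroot (nd chevE6 4)) (sroot (nd chevE6 3)) = -1 by decide]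
    rw [← mul_inv, inv_eq_iff_eq_inv, mul_comm]; simpa using h3
  have q4 := Qr.next T hj hr O5 big (ringChar K) O4 q3 (by simp) fun t ht => ⟨t⁻¹, inv_ne_zero ht, by
    simp [show pair (sroot (nd chevE6 2)) (sroot (nd chevE6 0)) = -1 by decide, show pair (sroot (nd chevE6 4)) (sroot (nd chevE6 0)) = 0 by decide,
      show pair (sroot (nd chevE6 2)) (sroot (nd chevE6 5)) = 0 by decide, show pair (sroot (nd chevE6 4)) (sroot (nd chevE6 5)) = -1 by decide]⟩
  have h1 := card_out_tw T hj hr O4 big (ringChar K) (fun t => ⟨t, rfl⟩) (Qr.first T hj hr O4 big (ringChar K) q4 fun φ => ⟨φ, by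
    simpa using aut_comm θ φ⟩) fun π a b c => ?_
  · have h2 := TE6.card_H F h (grpSys_θ_injective _ _)
    rw [TE6.card_Tf F, mul_comm] at h1
    have := finite_of_gen (grpSys_grp chevE6 K)
    refine mul_left_cancel₀ (Nat.card_pos (α := ↥((grpSys chevE6 K).H ⊓ fixS σ))).ne' (h1.trans ?_)
    rw [← mul_assoc, mul_comm _ (Nat.gcd _ _), h2, show q ^ 2 - 1 = (q + 1) * (q - 1) from Nat.sq_sub_sq q 1]; ring
  let cl : Node chevE6 → Fin 4 := (![3, 0, 2, 1, 2, 3] : Fin 6 → Fin 4)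
  have h2 : ∀ i k, Commute (wJ (orb flipE6 i)) (wJ (orb flipE6 k)) ↔ CoxeterMatrix.F₄ (cl i) (cl k) ∣ 2 := fun i k =>
    comm_iff orbD_E6 agreeE6 (by revert i k; decide +kernel)
  have h3 : ∀ i, (PE6 (π ⟦i⟧).out).length = (PE6 i).length := fun i => Nat.pow_right_injective F.lt (by
    simpa only [card_comap hj, hr, orb_out, TE6.hq F h, orbD_E6.len] using (b ⟦i⟧).symm)
  have h4 : ∀ i k, (π ⟦k⟧).out ∈ orbL flipE6 (π ⟦i⟧).out → k ∈ orbL flipE6 i := fun i k e => by
    have := mem_orb_out.1 ((orbD_E6.orb _).ge e)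
    rw [Quotient.out_eq] at this
    exact (orbD_E6.orb i).le (Quotient.exact (a this).symm)
  have h5 := (by decide +kernel : ∀ a b c d : Node chevE6, (PE6 a).length = 1 → (PE6 b).length = 1 → (PE6 c).length = 2 → (PE6 d).length = 2 →
    ¬ CoxeterMatrix.F₄ (cl b) (cl c) ∣ 2 → b ∉ orbL flipE6 a → d ∉ orbL flipE6 c → ∀ z ∈ [(nd _ 1, a), (nd _ 3, b), (nd _ 2, c), (nd _ 0, d)],
      z.2 ∈ orbL flipE6 z.1) _ _ _ _ (h3 (nd _ 1)) (h3 (nd _ 3)) (h3 (nd _ 2)) (h3 (nd _ 0))
    (fun e => absurd ((h2 _ _).1 (by simpa only [orb_out] using c _ _ ((h2 _ _).2 e))) (by decide))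
    (mt (h4 _ _) (by decide)) (mt (h4 _ _) (by decide))
  intro z
  obtain ⟨i, h6, h7⟩ := (by decide : ∀ k : Node chevE6, ∃ i ∈ [nd _ 1, nd _ 3, nd _ 2, nd _ 0], k ∈ orbL flipE6 i) z.out
  obtain rfl : ⟦i⟧ = z := (Quotient.sound ((orbD_E6.orb i).ge h7)).trans z.out_eq
  refine (Quotient.out_eq _).symm.trans (Quotient.sound ((orbD_E6.orb i).ge (h5 (i, (π ⟦i⟧).out) ?_))).symm
  simp only [List.mem_cons, List.not_mem_nil, or_false] at h6
  rcases h6 with rfl | rfl | rfl | rfl <;> simp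

/-- the root group of the Suzuki node of `²F₄` -/
def sz (S : StSys chevF4 K G) (θ : K ≃+* K) (t u : K) : G := Q4 S (θ t) t (θ t * t + u) (θ u ^ 2)

section
variable {e : ℕ} {θ : K ≃+* K} (F : ReeF 2 e θ) {S : StSys chevF4 K G}

theorem sz_inj {t u t' u' : K} : sz S θ t u = sz S θ t' u' ↔ t = t' ∧ u = u' :=
  ⟨fun h => by obtain ⟨-, rfl, h, -⟩ := Q4_inj.1 h; exact ⟨rfl, add_left_cancel h⟩, by rintro ⟨rfl, rfl⟩; rfl⟩

theorem sz_zero : sz S θ 0 0 = 1 := wordG_zero (by simp)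

theorem map_sz {β : G →* G} {χ : Root chevF4 → K} (h : ∀ r t, β (S.x r t) = S.x r (χ r * t)) {a : K}
    (h1 : χ (rt _ 27) = θ a ∧ χ (rt _ 25) = a ∧ χ (rt _ 28) = θ a * a ∧ χ (rt _ 30) = θ (θ a * a) ^ 2) (t u : K) :
    β (sz S θ t u) = sz S θ (a * t) (θ a * a * u) := by
  change β (S.x (rt _ 27) _ * (S.x (rt _ 25) _ * (S.x (rt _ 28) _ * (S.x (rt _ 30) _ * 1)))) =
    S.x (rt _ 27) _ * (S.x (rt _ 25) _ * (S.x (rt _ 28) _ * (S.x (rt _ 30) _ * 1)))
  simp only [map_mul, map_one, h, h1]; ring_nf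

include F

theorem sz_mul (t u t' u' : K) : sz S θ t u * sz S θ t' u' = sz S θ (t + t') (u + u' + θ t * t') := by
  have h2 : (2 : K) = 0 := by simpa using RF4.two F
  refine (Q4_mul S (RF4.two F) ..).trans (Q4_inj.2 ⟨(map_add ..).symm, rfl, ?_, ?_⟩)
  · rw [map_add]; linear_combination (-θ t * t') * h2
  · simp only [map_add, map_mul, RF4.sq_add F, mul_pow, F.sq]; ring

theorem norm_surj [Finite K] : Function.Surjective fun v : K => θ v * v := Finite.surjective_of_injective fun v w e => by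
  have h3 : θ v ^ 2 * v = θ w ^ 2 * w := by
    have := congrArg (fun x => θ x ^ 2) e
    simp only [map_mul, mul_pow, F.sq] at this
    linear_combination this
  by_cases h0 : w = 0
  · simpa [h0] using e
  refine θ.injective (mul_right_cancel₀ (mul_ne_zero ((map_ne_zero θ).2 h0) h0) ?_)
  linear_combination h3 - θ v * e

theorem exists_ne (h : ∃ t : Kˣ, t ≠ 1) : ∃ t, θ t ≠ t := h.elim fun t ht => ⟨t, fun e => ht (Units.ext (by
  have := F.sq t
  rwa [e, e, sq, mul_eq_left₀ t.ne_zero] at this))⟩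

theorem odF4 [Finite K] : OD flipF4 (RF4.fn F) (nd _ 3) [nd _ 0, nd _ 3] fun k => if k = nd _ 0 then θ else RingHom.id K :=
  od2 (f := RF4.fn F) orbD_F4 (by decide +kernel) F.sq

end

theorem out_F4 [Finite K] {e : ℕ} {θ : K ≃+* K} (F : ReeF 2 e θ) (ht : ∃ t : Kˣ, t ≠ 1) {σ} (h : IsTw (grpSys chevF4 K) σ exF4 θ)
    {j : G' →* chevF4.group K} (hj : Function.Injective j) (hr : j.range = Subgroup.closure (wordG (grpSys chevF4 K).x '' f4Words K e)) :
    Nat.card (Out G') = Nat.card (K ≃+* K) := by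
  have := F.char
  have e := RF4.eq_fix F h (grpSys_θ_injective _ _) (grpSys_grp _ _)
  have T := RF4.tw F h (grpSys_grp _ _)
  have big := (RF4.wd F h).big' orbD_F4
  rw [e] at T big hr
  have h1 := card_out_tw T hj hr (odF4 F) big 2 (fun t => ⟨t, rfl⟩) (Qr.first T hj hr (odF4 F) big 2
    ((Qr.all (l := [nd _ 1, nd _ 3]) T hj hr big 2 (by simp only [orbD_F4.orb]; decide)).step fun α a b c => ?_) fun φ => ⟨φ, by
      simpa using aut_comm θ φ⟩) fun π _ a _ b => perm_of_len orbD_F4 (Nat.pow_right_injective Finite.one_lt_card)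
        (A := fun a => Nat.card (XT _ _ j a)) (fun a => by rw [card_comap hj, hr, RF4.card_pos F h]) (by decide) (a b)
  · rw [RF4.card_H F h (grpSys_θ_injective _ _), RF4.Tf_eq F, ← Nat.card_congr (MonoidHom.ofInjective RF4.tor_injective).toEquiv,
      Nat.card_prod, Nat.card_units, ← sq, mul_comm] at h1
    exact mul_left_cancel₀ (pow_ne_zero _ (Nat.sub_ne_zero_of_lt Finite.one_lt_card)) h1
  have m := fun {g} => (mem_Q4 F h (i := nd _ 1) rfl (x := g)).trans (show _ ↔ ∃ t u, g = sz _ θ t u from Iff.rfl)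
  choose x hx using fun t u => hr.ge (m.2 ⟨t, u, rfl⟩).2
  have m1 : ∀ z, z ∈ XT (grpSys chevF4 K) flipF4 j ⟦nd _ 1⟧ ↔ ∃ t u, z = x t u := fun z => by
    simp only [← hj.eq_iff, hx, ← m, Subgroup.mem_comap, orb_out, Subgroup.mem_inf, show j z ∈ fixS σ from hr.le ⟨z, rfl⟩, and_true]
  have m2 : ∀ t u t' u', x t u * x t' u' = x (t + t') (u + u' + θ t * t') := fun _ _ _ _ => hj (by rw [map_mul, hx, hx, hx, sz_mul F])
  have m3 : ∀ {t u t' u'}, x t u = x t' u' → t = t' ∧ u = u' := fun e => sz_inj.1 (by rw [← hx, e, hx])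
  obtain ⟨k, d, h2⟩ := (m1 _).1 ((b _).2 ((m1 _).2 ⟨1, 0, rfl⟩))
  have h3 : ∀ t, α (x t 0) = x (t * k) (θ t * t * d) := fun t => by
    by_cases h0 : t = 0
    · simp [h0, show x 0 0 = 1 from hj (by rw [hx, sz_zero, map_one])]
    obtain ⟨y, h3, h4⟩ := (odF4 F).exists_h T hj hr big 2 a (c _ (by simp)) (inv_ne_zero h0)
    have h5 : ∀ r u, y * x r u * y⁻¹ = x (t * r) (θ t * t * u) := fun r u => hj (by
      rw [map_mul, map_mul, map_inv, hx, hx]
      refine map_sz (β := (MulAut.conj (j y)).toMonoidHom) h4 ?_ _ _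
      simp [show pair (sroot (nd chevF4 0)) (rt chevF4 27) = -1 by decide, show pair (sroot (nd chevF4 3)) (rt chevF4 27) = 0 by decide,
        show pair (sroot (nd chevF4 0)) (rt chevF4 25) = 0 by decide, show pair (sroot (nd chevF4 3)) (rt chevF4 25) = -1 by decide,
        show pair (sroot (nd chevF4 0)) (rt chevF4 28) = -1 by decide, show pair (sroot (nd chevF4 3)) (rt chevF4 28) = -1 by decide,
        show pair (sroot (nd chevF4 0)) (rt chevF4 30) = -2 by decide, show pair (sroot (nd chevF4 3)) (rt chevF4 30) = -1 by decide,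
        mul_pow, F.sq, mul_comm, zpow_ofNat])
    have := congrArg α (h5 1 0)
    rw [map_mul, map_mul, map_inv, h3, h2, h5] at this
    simpa using this.symm
  have a0 := CharTwo.add_self_eq_zero (R := K)
  have h4 : ∀ u, α (x 0 u) = x 0 (θ k * k * u) := fun u => by
    obtain ⟨t, rfl⟩ := norm_surj F u
    have := congrArg α (m2 t 0 t 0)
    rw [map_mul, h3, m2] at this
    simp only [a0, zero_add, map_mul] at this
    rw [← this]; ring_nf
  have h5 : ∀ t u, α (x t u) = x (t * k) (θ t * t * d + θ k * k * u) := fun t u => by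
    have := congrArg α (m2 t 0 0 u)
    rw [map_mul, h3, h4, m2] at this
    simpa using this.symm
  obtain rfl : d = 0 := by
    obtain ⟨t, h6⟩ := exists_ne F ht
    have := congrArg α (m2 t 0 1 0)
    rw [map_mul, h3, h3, m2, h5] at this
    refine (mul_eq_zero.1 (?_ : (θ t + t) * d = 0)).resolve_left fun e => h6 (CharTwo.add_eq_zero.1 e)
    have := (m3 this).2
    simp only [map_add, map_mul, map_one] at this
    linear_combination -this
  have h6 : k ≠ 0 := by
    rintro rfl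
    exact one_ne_zero (m3 (α.injective ((h4 1).trans (by simp [h4]) : _ = α (x 0 0)))).2
  obtain ⟨β, h7, h8, h9⟩ := exists_diag (h := RF4.simpAct F h) (i := nd _ 1) hj hr ((RF4.Tf_eq F).ge ⟨(1, .mk0 k h6), rfl⟩) (by
    simp only [orbD_F4.orb]; intro i; fin_cases i; exacts [fun _ => map_one (Units.map (θ : K →* K)), fun e => (e (by decide)).elim, fun e => (e (by decide)).elim, fun _ => rfl])
  refine ⟨β, h7, fun z hz => ?_, fun k _ => h9 _⟩
  obtain ⟨t, u, rfl⟩ := (m1 z).1 hz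
  refine hj ?_
  rw [h5, h8, hx, hx, mul_zero, zero_add, mul_comm t]
  refine (map_sz (β := (df (RF4.tor θ (1, .mk0 k h6)) 1).toMonoidHom) (χ := fun r => (chiS (RF4.tor θ (1, .mk0 k h6)) r).1)
    (fun r t => df_x _ 1 r t) ?_ _ _).symm
  have r1 := rco_eq (r := rt chevF4 28) (a := (![0, 1, 1, 0] : Fin 4 → ℤ)) (by decide)
  have r2 := rco_eq (r := rt chevF4 30) (a := (![0, 2, 1, 0] : Fin 4 → ℤ)) (by decide)
  refine ⟨congrArg Units.val (chiS_sroot _ (nd chevF4 1)), congrArg Units.val (chiS_sroot _ (nd chevF4 2)), ?_, ?_⟩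
  · rw [chiS, r1]; exact (congrArg Units.val (Fin.prod_univ_four _)).trans (by simp; rfl)
  · rw [chiS, r2]; exact (congrArg Units.val (Fin.prod_univ_four _)).trans (by simp [mul_pow, F.sq, mul_comm, zpow_ofNat]; rfl)

end H11.Lx
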