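import Cfsg.Agent.H11.TwP
import Cfsg.Agent.H11.TwOD
import Cfsg.Agent.H11.TwsEx
import Cfsg.Agent.H15.Mult

/-! Schur multipliers of twisted groups: `Tw.mult`, `noStem_of_kill`, `vc_zero`, `vc_fix`, `kill_of_comm`, `OD.ri`. -/

namespace H11
open Cfsg Cfsg.Lie Equiv StSys
open scoped commutatorElement
attribute [-simp] commutatorElement_inv map_commutatorElement

universe u
variable {D : ChevalleyDatum} [Good D] {K G E : Type*} [Field K] [Group G] [Group E] {S : StSys D K G}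

variable (S) in
/-- `g` is a product of root elements for `T`, in any order -/
def Pr (T : Set (Root D)) (g : G) : Prop :=
  ∀ L : List (Root D), L.Nodup → (∀ r ∈ T, r ∈ L) → ∃ t, (∀ r ∉ T, t r = 0) ∧ g = S.prodL L t

theorem pr_lv {c : ℤ} {g : G} (hg : g ∈ S.US (Lv (phiV D) c)) : Pr S (Lv (phiV D) c) g := fun L hn hL => by
  classical
  obtain ⟨t, rfl⟩ := exists_prodL (T := Lv (phiV D) c) (fun r hr s hs v i j hi hj e => by
    have := fv_lin (phiV D) e; have : 0 < fv _ r := hr.1; have : 0 < fv _ s := hs.1; have := hr.2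
    exact ⟨show 0 < fv _ v by nlinarith, by nlinarith⟩) (fun _ a => a.1) reg_phiV (L := L.filter (· ∈ Lv (phiV D) c))
    (fun r => by simpa using hL r) (hn.filter _) hg
  refine ⟨fun r => if r ∈ Lv (phiV D) c then t r else 0, fun r hr => if_neg hr, ?_⟩
  clear hn hL hg
  induction L with
  | nil => rfl
  | cons a L ih => by_cases h : a ∈ Lv (phiV D) c <;> simp [h, ih]

theorem Pr.map {T : Set (Root D)} {g : G} (h : Pr S T g) {α : G →* G} {π : Perm (Root D)} (h1 : ∀ r, S.Maps α r (π r)) :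
    Pr S (π '' T) (α g) := fun L hn hL => by
  obtain ⟨t, a, rfl⟩ := h (L.map π.symm) (hn.map π.symm.injective) fun r hr => List.mem_map.2 ⟨_, hL _ ⟨r, hr, rfl⟩, by simp⟩
  choose u hu using fun s => h1 (π.symm s) (t (π.symm s))
  refine ⟨u, fun r hr => x_eq_one (S := S) (r := r) ?_, ?_⟩
  · simpa [a _ fun e => hr ⟨_, e, π.apply_symm_apply r⟩] using congrArg S.θ (hu r).symm
  · rw [prodL, map_list_prod, List.map_map, List.map_map]
    exact congrArg _ (List.map_congr_left fun s _ => by simpa using hu s)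

theorem Pr.eq {T T' : Set (Root D)} {g g' : G} (h : Pr S T g) (h' : Pr S T' g') (hT : ∀ r ∈ T ∪ T', IsPos r) {m : Root D}
    (hm : IsPos m) (h1 : m ∉ T ∪ T') {s s' : K} (e : S.x m s * g = S.x m s' * g') : s = s' := by
  classical
  obtain ⟨L, a, b, -⟩ := exists_list (T ∪ T')
  obtain ⟨t, -, rfl⟩ := h L b fun r hr => (a r).2 (.inl hr)
  obtain ⟨t', -, rfl⟩ := h' L b fun r hr => (a r).2 (.inr hr)
  have h2 : ∀ s t, S.x m s * S.prodL L t = S.prodL (m :: L) (Function.update t m s) := fun s t => by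
    rw [prodL_cons, Function.update_self, prodL_congr fun r hr => Function.update_of_ne (fun e : r = m => h1 ((a m).1 (e ▸ hr))) s t]
  have := prodL_inj' closed_isPos pos_U reg_phiV (L := m :: L) (by simpa [hm, a] using hT)
    (List.nodup_cons.2 ⟨mt (a m).1 h1, b⟩) (h2 .. ▸ h2 .. ▸ e) m List.mem_cons_self
  rwa [Function.update_self, Function.update_self] at this

section
variable {M : Subgroup G} {α : G →* G} {π : Perm (Root D)} (h1 : ∀ r, S.Maps α r (π r)) (h2 : ∀ r, IsPos r → IsPos (π r))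
  (h3 : ∀ g ∈ M, α g = g)
include h1 h2 h3

theorem vc_zero {r : Root D} (hr : IsPos (π r)) (h : r < π r) : Vc S (phiV D) M (π r) ⊆ {0} := fun s ⟨g, hg, e⟩ => by
  have hm := isPos_iff_phi.1 hr
  refine (pr_lv e).eq ((pr_lv (lv_le hm (e.mem hm))).map h1) ?_ hr ?_ (by simp [h3 g hg])
  · rintro _ (a | ⟨r, a, rfl⟩)
    exacts [isPos_iff_phi.2 a.1, h2 _ (isPos_iff_phi.2 a.1)]
  · rintro (a | ⟨r, a, b⟩)
    exacts [by have := a.2; omega, (phi_lt_iff.2 h).not_ge (π.injective b ▸ a.2)]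

theorem vc_fix {m : Root D} (hm : IsPos m) (h4 : π m = m) {θ : K → K} (h : ∀ t, α (S.x m t) = S.x m (θ t)) {s : K}
    (hs : s ∈ Vc S (phiV D) M m) : θ s = s := by
  obtain ⟨g, hg, e⟩ := hs
  refine ((pr_lv e).map h1).eq (pr_lv e) ?_ hm ?_ (by simp [h3 g hg, ← h])
  · rintro _ (⟨r, a, rfl⟩ | a)
    exacts [h2 _ (isPos_iff_phi.2 a.1), isPos_iff_phi.2 a.1]
  · rintro (⟨r, a, b⟩ | a)
    exacts [by have := π.injective (b.trans h4.symm) ▸ a.2; omega, by have := a.2; omega]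

end

section
variable {φ : Node D → ℤ} {M : Subgroup G} {k m : Root D} {κ : E →* G}

omit [Good D] in
theorem Kill.symm (h : Kill S φ M k m κ) : Kill S φ M m k κ := fun β a b c d s hs t ht =>
  h (fun s t => β t s) (fun s hs s' hs' t ht => b t ht s hs s' hs') (fun s hs t ht t' ht' => a t ht t' ht' s hs)
    (fun y hy u v hu hv s hs t ht => c y hy v u hv hu t ht s hs) (fun g v s t hg hv e => d v g t s hv hg e.symm) t ht s hs

omit [Good D] in
theorem commute_lift (hc : κ.ker ≤ Subgroup.center E) (g : E) {v : G}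
    (hv : v ∈ ⁅Subgroup.centralizer {κ g} ⊓ κ.range, Subgroup.centralizer {κ g} ⊓ κ.range⁆) : ∃ w, κ w = v ∧ Commute g w := by
  rw [inf_comm, ← Subgroup.map_comap_eq, ← Subgroup.map_commutator] at hv
  obtain ⟨w, hw, rfl⟩ := hv
  refine ⟨w, rfl, (Subgroup.mem_centralizer_singleton_iff.1 (Subgroup.commutator_le.2 (fun a ha b hb => ?_) hw)).symm⟩
  rw [Subgroup.mem_centralizer_singleton_iff, eq_comm, ← mul_inv_eq_iff_eq_mul, conjugate_commutatorElement]
  exact H16.commutatorElement_eq_of_map_eq hc (by simp [← Subgroup.mem_centralizer_singleton_iff.1 ha])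
    (by simp [← Subgroup.mem_centralizer_singleton_iff.1 hb])

omit [Good D] in
theorem kill_of_comm (hc : κ.ker ≤ Subgroup.center E) (hκ : κ.range = M) (h : ∀ s ∈ Vc S φ M k, ∀ t ∈ Vc S φ M m, ∃ g ∈ M,
    ∃ v ∈ ⁅Subgroup.centralizer {g} ⊓ M, Subgroup.centralizer {g} ⊓ M⁆, S.Co φ k g s ∧ S.Co φ m v t) : Kill S φ M k m κ := by
  subst hκ
  refine kill_comm fun s hs t ht => ?_
  obtain ⟨_, ⟨g, rfl⟩, v, hv, a, b⟩ := h s hs t ht
  obtain ⟨w, rfl, e⟩ := commute_lift hc g hv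
  exact ⟨g, w, a, b, e⟩

end

omit [Good D] in
theorem range_comp_of {M : Subgroup G} {ξ : E →* M} (h : Function.Surjective ξ) : (M.subtype.comp ξ).range = M := by
  rw [MonoidHom.range_comp, MonoidHom.range_eq_top.2 h, ← MonoidHom.range_eq_map, Subgroup.range_subtype]

variable [Cert D] [Finite K]

theorem noStem_of_kill {G : Type u} [Group G] {S : StSys D K G} {M : Subgroup G} {p : ℕ} (hp : p.Prime)
    (hP : ¬ p ∣ (S.U.subgroupOf M).index) (hK : ∀ (E : Type u) [Group E] (κ : E →* G), κ.ker ≤ Subgroup.center E → κ.range = M →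
      ∀ k m, IsPos k → IsPos m → Kill S (phiV D) M k m κ)
    (hF : ∀ m, IsPos m → Vc S (phiV D) M m ⊆ {0} ∨ ∃ y ∈ S.H ⊓ M, ∃ b ≠ 1, S.Ac y m b) : H15.NoStem p M := by
  refine .of_sub hp _ hP fun X _ _ ξ hξ _ => eq_bot_iff.2 fun z hz => ?_
  have h1 : (M.subtype.comp ξ).range = M := range_comp_of hξ.1
  have h2 : (M.subtype.comp ξ).ker ≤ Subgroup.center X := fun z hz => hξ.2.1 (Subtype.ext hz)
  refine ker_inf_comm (S := S) h2 reg_phiV (fun k m a b => h1.symm ▸ hK X _ h2 h1 k m (isPos_iff_phi.2 a) (isPos_iff_phi.2 b))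
    (fun m a => h1.symm ▸ hF m (isPos_iff_phi.2 a)) (congrArg Subtype.val hz.1) ?_
  simp only [fv_phiV, ← isPos_iff_phi]
  exact hz.2

namespace StSys.Tw
variable {σ : MulAut G} {ρ : Perm (Node D)} {c : Node D → Kˣ} {f : Node D → K ≃+* K} {h : S.SimpAct σ ρ c f} {M : Subgroup G}
  {p : ℕ} [Fact p.Prime] [CharP K p]

theorem not_dvd_index (T : Tw h M) {q : ℕ} (hq : ∀ i, Nat.card ↥(S.US (PosJ (orb ρ i)) ⊓ fixS σ) = q ^ len sW (wJ (orb ρ i)))
    (hp : p ∣ q) : ¬ p ∣ (S.U.subgroupOf M).index := fun e => by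
  classical
  have := S.finite_of_gen T.gen
  have h1 := T.card (R := ℕ) hq
  have h2 : Nat.card ↥(S.U ⊓ M) = _ := T.card_U (R := ℕ) hq
  rw [Nat.cast_id, Nat.cast_id, ← (S.U.subgroupOf M).card_mul_index, ← h2, ← Subgroup.inf_subgroupOf_right,
    Nat.card_congr (Subgroup.subgroupOfEquivOfLe inf_le_right).toEquiv, mul_assoc, mul_right_inj' Nat.card_pos.ne',
    Subgroup.inf_subgroupOf_right] at h1
  rcases (Fact.out : p.Prime).dvd_mul.1 (h1 ▸ e) with a | a
  · exact not_dvd_card_H p (a.trans (Subgroup.card_dvd_of_le inf_le_left))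
  rw [SimpAct.poinF, ← Finset.add_sum_erase _ _ (Finset.mem_univ 1), if_pos ⟨one_mem _, one_mem _⟩, len_one, pow_zero] at a
  refine (Fact.out : p.Prime).not_dvd_one ((Nat.dvd_add_left (Finset.dvd_sum fun w hw => ?_)).1 a)
  split_ifs
  · exact hp.trans (dvd_pow_self q fun e => Finset.ne_of_mem_erase hw ((weylPreCox D).len_eq_zero e))
  · exact dvd_zero _

theorem mult {G : Type u} [Group G] {S : StSys D K G} {σ : MulAut G} {h : S.SimpAct σ ρ c f} {M : Subgroup G} (T : Tw h M)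
    (hM : M ≤ S.MF σ ρ) (hi : Function.Injective (torS S.hMul_of_finite)) {ι : Type*} [Fintype ι] {rep : ι → Node D}
    (hr : ∀ i, ∃ a, i ∈ orb ρ (rep a)) (hd : Pairwise (Function.onFun Disjoint fun a => orb ρ (rep a)))
    (hR : ∀ (E : Type u) [Group E] [Finite E] (κ : E →* G), PF p κ → κ.range = M → ∀ r, r.Prime → (∀ z, κ z = 1 → z ^ r = 1) →
      ∀ a, RI S p κ (orb ρ (rep a))) (hp : H15.NoStem p M) : HasCyclicSchurMultiplier M 1 := by
  have := S.finite_of_gen T.gen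
  refine H15.hasTrivial_of_noStem fun r hr' => ?_
  rcases eq_or_ne r p with rfl | e
  · exact hp
  intro X _ _ ξ hξ he
  have h1 : (M.subtype.comp ξ).range = M := range_comp_of hξ.1
  have C : PF p (M.subtype.comp ξ) := ⟨fun z hz => hξ.2.1 (Subtype.ext hz), fun z a b => by
    simpa [(Nat.coprime_primes hr' Fact.out).2 e] using pow_gcd_eq_one.2 ⟨he z (Subtype.ext a), b⟩⟩
  obtain ⟨A, a, b⟩ := T.exists_compl C h1 hM hi hr hd (hR X _ C h1 r hr' fun z a => he z (Subtype.ext a))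
  rw [H16.eq_top_of_stem hξ (H := A) (Subgroup.map_injective M.subtype_injective (by
    rw [Subgroup.map_map, b, ← MonoidHom.range_eq_map, Subgroup.range_subtype]))] at a
  exact eq_bot_iff.2 fun z hz => a.le ⟨trivial, congrArg Subtype.val hz⟩

theorem ri_od {h : S.SimpAct σ ρ 1 f} (T : Tw h M) [Finite E] {κ : E →* G} (C : PF p κ) (hκ : κ.range = M) {F : Type*} [Field F] [Finite F]
    {i : Node D} {L : List (Node D)} {g : Node D → F →+* K} (O : Lx.OD ρ f i L g)
    (h1 : L.Pairwise (fun i j => j ≠ i ∧ Nc (sroot i) (sroot j) = 0 ∧ Nc (sroot i) (sroot j).rev = 0) ∧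
      ∀ j ∈ L, ¬ D.nroots < 2 * L.foldr (fun (i : Node D) r => D.reflectRoot i r) (D.simple j) + 1) : RI S p κ (orb ρ i) := by
  have key : ∀ L : List (Node D), L ≠ [] → L.Pairwise (fun i j => j ≠ i ∧ Nc (sroot i) (sroot j) = 0 ∧ Nc (sroot i) (sroot j).rev = 0) →
      S2 S L (fun t => Lx.xv S sroot L (g · t)) fun t => Lx.xv S Lx.nrt L (g · t) := fun L a b => by
    induction L with
    | nil => exact absurd rfl a
    | cons i L ih =>
      rcases eq_or_ne L [] with rfl | e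
      · simpa [Lx.xv] using S2.single (S := S) i (g i)
      · exact (ih e b.of_cons).cons i (g i) (List.pairwise_cons.1 b).1
  have R := key L (List.ne_nil_of_mem (O.mem.2 (mem_orb_self ρ i))) h1.1
  exact ri_sl2 C hκ R ⟨fun _ => O.mem, wJ_eq_wp L (fun _ => O.mem.1) fun j hj => h1.2 j (O.mem.2 hj)⟩ ⟨i, mem_orb_self ρ i⟩
    (fun t => T.U_le ⟨US_mono (by rintro _ ⟨j, -, rfl⟩; exact isPos_sroot j) (R.hX t), (O.fix h t).1⟩)
    (fun t => T.V_le ⟨US_mono (by rintro _ ⟨j, -, rfl⟩; exact not_isPos_rev (isPos_sroot j)) (R.hY t), (O.fix h t).2⟩)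
    fun _ a => O.ex h a.1 (T.le a.2)

theorem mult_gen {K G : Type u} [Field K] [Finite K] [Group G] {S : StSys D K G} {σ : MulAut G} {f : Node D → K ≃+* K}
    {h : S.SimpAct σ ρ 1 f} {A : Set (List (ℕ × K))} (T : Tw h (Subgroup.closure (wordG S.x '' A)))
    (hM : Subgroup.closure (wordG S.x '' A) ≤ S.MF σ ρ) (hi : Function.Injective (torS S.hMul_of_finite))
    (hT : ∀ c ∈ Tf ρ f, torS S.hMul_of_finite c ∈ Subgroup.closure (wordG S.x '' A)) (hc : commutator (D.genSubgroup K A) = ⊤)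
    (h0 : HasCyclicSchurMultiplier (Subgroup.closure (wordG S.x '' A)) 1) {n r : ℕ} [Fact r.Prime]
    (hn : Nat.card ↥((mact (cartanM D)).ker ⊓ Tf ρ f) = n) (hr : n ∣ r) : HasCyclicSchurMultiplier (D.genSubgroup K A) n := by
  have := S.finite_of_gen T.gen
  obtain ⟨p, hp⟩ := CharP.exists K
  have := Fact.mk (CharP.char_is_prime K p)
  set M := Subgroup.closure (wordG S.x '' A)
  have h1 : M.map S.θ = D.genSubgroup K A := by
    rw [genSubgroup_eq, MonoidHom.map_closure, MonoidHom.map_closure, Set.image_image, Set.image_image]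
    congr 2; funext w
    rw [map_wordG, map_wordG]; congr; funext r t; exact S.θ_x' r t
  let π : M →* D.genSubgroup K A := (S.θ.comp M.subtype).codRestrict _ fun g => h1.le ⟨g, g.2, rfl⟩
  have h2 : Function.Surjective π := fun g => let ⟨a, b, e⟩ := h1.ge g.2; ⟨⟨a, b⟩, Subtype.ext e⟩
  have h3 : ∀ z ∈ π.ker, z.1 ∈ Subgroup.center G := fun z hz => center_eq_ker T.gen ▸ congrArg Subtype.val hz
  have h4 : Nat.card π.ker = n := by
    rw [← hn, ← Subgroup.card_map_of_injective M.subtype_injective, ← Subgroup.card_map_of_injective hi]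
    congr 2
    refine le_antisymm ?_ ?_
    · rintro _ ⟨z, hz, rfl⟩
      obtain ⟨c, a, b⟩ := (center_eq_map S.hMul_of_finite T.gen).le (h3 z hz)
      exact ⟨c, ⟨a, mem_Tf.2 (hi (by rw [← h.map_torS, b]; exact T.le z.2))⟩, b⟩
    · rintro _ ⟨c, a, rfl⟩
      exact ⟨⟨_, hT c a.2⟩, Subtype.ext ((center_eq_ker T.gen).le ((center_eq_map S.hMul_of_finite T.gen).ge ⟨c, a.1, rfl⟩)), rfl⟩
  refine H15.hasCyclic_of_cover (commutator_eq_top_of M.subtype_injective M.range_subtype (T.comm_eq hM fun i u hu => ?_)) h0 h2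
    (fun z hz => Subgroup.mem_center_iff.2 fun g => Subtype.ext (Subgroup.mem_center_iff.1 (h3 z hz) g)) h4
    (isCyclic_of_card_dvd_prime (h4 ▸ hr))
  obtain ⟨v, a, b⟩ : π ⟨u, T.pos i hu⟩ ∈ (commutator M).map π := by
    rw [commutator, Subgroup.map_commutator, Subgroup.map_top_of_surjective _ h2, ← commutator, hc]; trivial
  obtain ⟨k, hk⟩ := PE.of_mem (isPGroup_U (S := S) p) (US_mono (fun _ a => a.1) hu.1)
  have h5 : (v⁻¹ * ⟨u, T.pos i hu⟩ : M).1 ∈ S.H := mem_H_of_θ_eq_one (T.gen ▸ trivial)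
    (congrArg Subtype.val (show π (v⁻¹ * ⟨u, T.pos i hu⟩) = 1 by rw [map_mul, map_inv, b, inv_mul_cancel]))
  have h6 : Abelianization.of (⟨u, T.pos i hu⟩ : M) = 1 := by
    have h7 := congrArg Abelianization.of (Subtype.ext (congrArg Subtype.val (pow_card_eq_one' (x := (⟨_, h5⟩ : S.H))) :) :
      (v⁻¹ * ⟨u, T.pos i hu⟩ : M) ^ Nat.card S.H = 1)
    rw [map_pow, map_mul, map_inv, (Abelianization.ker_of M).ge a, inv_one, one_mul, map_one] at h7
    have := pow_gcd_eq_one.2 ⟨by rw [← map_pow, show (⟨u, T.pos i hu⟩ : M) ^ p ^ k = 1 from Subtype.ext hk, map_one], h7⟩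
    rwa [(((Fact.out : p.Prime).coprime_iff_not_dvd.2 (not_dvd_card_H p)).pow_left k).gcd_eq_one, pow_one] at this
  simpa [commutator, Subgroup.map_commutator, ← MonoidHom.range_eq_map] using
    Subgroup.mem_map_of_mem M.subtype ((Abelianization.ker_of M).le h6)

end StSys.Tw

end H11
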