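import Cfsg.Agent.H11.LtX
import Cfsg.Agent.H11.Ree1

/-! Twisted groups: the `SL₂`-type nodes (`OD`, `OD.exists_nd`), `Yg_eq`, `exists_n0`. -/

namespace H11.Lx
open Cfsg Cfsg.Lie H11.StSys H12 H12.Lt H12.St Equiv

variable {D : ChevalleyDatum} [Good D] {K : Type*} [Field K] {G : Type*} [Group G] {F : Type*} [Field F]

/-- product of root elements along a list of nodes -/
def xv (S : StSys D K G) (sg : Node D → Root D) (L : List (Node D)) (v : Node D → K) : G := (L.map fun j => S.x (sg j) (v j)).prod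

/-- the negative simple roots -/
abbrev nrt (j : Node D) : Root D := (sroot j).rev

/-- mutually orthogonal nodes -/
def Orth (L : List (Node D)) : Prop := L.Pairwise fun a b : Node D => CmL D [D.simple a, D.neg (D.simple a)] [D.simple b, D.neg (D.simple b)]

instance instDecOrth (L : List (Node D)) : Decidable (Orth L) := by unfold Orth; infer_instance

variable {S : StSys D K G}

theorem xv_congr {sg : Node D → Root D} {L : List (Node D)} {v w : Node D → K} (h : ∀ j ∈ L, v j = w j) : xv S sg L v = xv S sg L w :=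
  congrArg List.prod (List.map_congr_left fun j hj => by rw [h j hj])

theorem xv_mem {sg : Node D → Root D} {L : List (Node D)} {M : Subgroup G} (h : ∀ j ∈ L, ∀ t, S.x (sg j) t ∈ M) (v : Node D → K) :
    xv S sg L v ∈ M := Subgroup.list_prod_mem _ (by simpa using fun j hj => h j hj _)

theorem map_xv {G' : Type*} [Group G'] {S' : StSys D K G'} (β : G →* G') {sg sg' : Node D → Root D} {L : List (Node D)} {v w : Node D → K}
    (h : ∀ j ∈ L, β (S.x (sg j) (v j)) = S'.x (sg' j) (w j)) : β (xv S sg L v) = xv S' sg' L w := by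
  rw [xv, map_list_prod, List.map_map]; exact congrArg List.prod (List.map_congr_left h)

theorem xv_eq (L : List (Node D)) (v : Node D → K) : xv S sroot L v = wordG S.x (L.map fun j : Node D => (D.simple j, v j)) := by
  induction L with
  | nil => rfl
  | cons a L ih => rw [List.map_cons, wordG_cons, ← ih]; exact congrArg (· * _) (xNat_val S.x (sroot a) _).symm

theorem cm_x {a b : Node D} (h : CmL D [D.simple a, D.neg (D.simple a)] [D.simple b, D.neg (D.simple b)]) {r s : Root D}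
    (hr : r = sroot a ∨ r = nrt a) (hs : s = sroot b ∨ s = nrt b) (t u : K) : Commute (S.x r t) (S.x s u) :=
  commute_US h _ (x_mem_US (by rcases hr with rfl | rfl <;> simp [← neg_val, -Fin.val_rev]) _) _ (x_mem_US (by rcases hs with rfl | rfl <;> simp [← neg_val, -Fin.val_rev]) _)

variable [Cert D]

theorem xv_rel {L : List (Node D)} (h : Orth L) (g : Node D → F →+* K) :
    SL2Rel (fun t => xv S sroot L (g · t)) (fun t => xv S nrt L (g · t)) ∧
      ∀ t, wEl (fun t => xv S sroot L (g · t)) (fun t => xv S nrt L (g · t)) t = (L.map fun j => S.n (sroot j) (g j t)).prod := by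
  induction L with
  | nil => exact ⟨⟨by simp [xv], by simp [xv], by simp [xv, wEl]⟩, by simp [xv, wEl]⟩
  | cons a L ih =>
    obtain ⟨h1, h2⟩ := List.pairwise_cons.1 h
    let A := S.US {sroot a, nrt a}
    have h3 : ∀ j ∈ L, ∀ r, r = sroot j ∨ r = nrt j → ∀ t, S.x r t ∈ Subgroup.centralizer (A : Set G) := fun j hj r hr t =>
      fun _ a => Subgroup.mem_centralizer_singleton_iff.1 ((US_le (M := Subgroup.centralizer {S.x r t})).2
        (fun s hs u => Subgroup.mem_centralizer_singleton_iff.2 (cm_x (h1 j hj) hs hr u t).eq) a)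
    obtain ⟨h4, h5⟩ := sl2Rel_mul (sl2Rel_comp (S.sl2Rel (sroot a)) (g a)) (ih h2).1 (A := A) (B := Subgroup.centralizer A)
      (fun _ ha _ hb => hb _ ha) (fun _ => x_mem_US (by simp) _) (fun _ => x_mem_US (by simp) _)
      (fun _ => xv_mem (fun j hj => h3 j hj _ (.inl rfl)) _) fun _ => xv_mem (fun j hj => h3 j hj _ (.inr rfl)) _
    exact ⟨h4, fun t => (h5 t).trans (by rw [(ih h2).2]; simp [wEl, StSys.n])⟩

theorem xv_h {L : List (Node D)} (h : Orth L) (g : Node D → F →+* K) {t : F} (ht : t ≠ 0) (r : Root D) (u : K) :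
    hEl (fun t => xv S sroot L (g · t)) (fun t => xv S nrt L (g · t)) t * S.x r u *
      (hEl (fun t => xv S sroot L (g · t)) (fun t => xv S nrt L (g · t)) t)⁻¹ = S.x r ((L.map fun j => g j t ^ pair (sroot j) r).prod * u) := by
  have h1 : hEl (fun t => xv S sroot L (g · t)) (fun t => xv S nrt L (g · t)) t = (L.map fun j => S.h (sroot j) (g j t)).prod := by
    rw [hEl, (xv_rel h g).2, (xv_rel h g).2]
    induction L with
    | nil => simp
    | cons a L ih =>
      obtain ⟨h1, h2⟩ := List.pairwise_cons.1 h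
      simp only [List.map_cons, List.prod_cons]
      rw [← ih h2, (Commute.list_prod_left _ _ ?_).mul_mul_mul_comm, map_neg, map_one, StSys.h]
      simp only [List.mem_map]
      rintro _ ⟨j, hj, rfl⟩
      have := fun r s hr hs => cm_x (S := S) (r := r) (s := s) (h1 j hj) hr hs
      simp only [StSys.n]
      refine .mul_left (.mul_left ?_ ?_) ?_ <;> refine .mul_right (.mul_right ?_ ?_) ?_ <;>
        exact (this _ _ (by simp) (by simp) _ _).symm
  rw [h1]; clear h1 h
  induction L with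
  | nil => simp
  | cons a L ih =>
    simp only [List.map_cons, List.prod_cons, mul_inv_rev]
    rw [mul_assoc _ _ u, ← h_conj _ _ ((map_ne_zero _).2 ht), ← ih]; group

theorem conj_neg_iff {J : Set (Node D)} {m : S.N} (e : S.π m = wJ J) {g : G} :
    m * g * (m : G)⁻¹ ∈ S.US (PosJ J) ↔ g ∈ S.US (NegJ J) := by
  have ha := acts_π m
  have hb := acts_π m⁻¹
  rw [map_inv, e, wJ_inv] at hb
  rw [e] at ha
  exact ⟨fun h => by
    simpa [mul_assoc] using hb.conj_mem (T' := NegJ J) (fun r hr => ⟨fun a => (isPos_wJ hr.2).1 a hr.1, (par_inJ (wJ_mem _) r).2 hr.2⟩) h,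
    ha.conj_mem (T' := PosJ J) fun r hr => ⟨(isPos_wJ hr.2).2 hr.1, (par_inJ (wJ_mem _) r).2 hr.2⟩⟩

omit [Cert D] in
theorem chiS_eq_one {J : Set (Node D)} {c : Node D → Kˣ} (h : ∀ j ∈ J, c j = 1) {r : Root D} (hr : InJ J r) : chiS c r = 1 := by
  refine rootJ_induction (C := fun r => chiS c r = 1) (fun i hi => by simp [h i hi]) (fun i hi s _ ih => ?_) hr
  simp only [chiS] at ih ⊢
  rw [rco_lin (r := s) (s := sroot i) (a := 1) (b := -pair (sroot i) s) (by rw [wt_refl]; module), rco_sroot]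
  simp only [one_smul, Pi.add_apply, zpow_add, Finset.prod_mul_distrib, ih, one_mul]
  exact Finset.prod_eq_one fun j _ => by by_cases e : j = i <;> simp [e, h i hi]

/-- data for an orbit of mutually orthogonal nodes -/
structure OD (ρ : Perm (Node D)) (f : Node D → K ≃+* K) (i : Node D) (L : List (Node D)) (g : Node D → F →+* K) : Prop where
  list : IsList (PosJ (orb ρ i)) (L.map fun j : Node D => D.simple j)
  orth : Orth L
  tw : ∀ j ∈ L, ∀ t, g (ρ j) t = f j (g j t)
  surj : ∀ v : Node D → K, (∀ j ∈ L, v (ρ j) = f j (v j)) → ∃ t, ∀ j ∈ L, v j = g j t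

variable {σ : MulAut G} {ρ : Perm (Node D)} {f : Node D → K ≃+* K} (h : S.SimpAct σ ρ 1 f)

namespace OD
variable {i : Node D} {L : List (Node D)} {g : Node D → F →+* K} (O : OD ρ f i L g)
include O

omit [Cert D] in
theorem mem {j : Node D} : j ∈ L ↔ j ∈ orb ρ i := by
  refine Iff.trans ?_ ((O.list.1 (sroot j)).trans ((and_iff_right (isPos_sroot j)).trans inJ_sroot))
  exact (List.mem_map_of_injective (f := fun j : Node D => D.simple j) fun a b e => sroot_injective (Fin.ext e)).symm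

omit [Cert D] in
theorem perm : (L.map ρ).Perm L := by
  have h1 : L.Nodup := O.list.2.2.of_map
  refine (List.perm_ext_iff_of_nodup (h1.map ρ.injective) h1).2 fun a => ?_
  obtain ⟨a, rfl⟩ := ρ.surjective a
  rw [List.mem_map_of_injective ρ.injective, O.mem, O.mem, apply_mem_orb]

omit [Cert D] in
theorem act {sg : Node D → Root D} (h1 : ∀ j, sg j = sroot j ∨ sg j = nrt j) (h2 : ∀ j t, σ (S.x (sg j) t) = S.x (sg (ρ j)) (f j t))
    (v : Node D → K) : σ (xv S sg L v) = xv S sg L fun j => f (ρ⁻¹ j) (v (ρ⁻¹ j)) := by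
  rw [show σ _ = _ from map_xv σ.toMonoidHom (S' := S) (sg' := sg ∘ ρ) (w := fun j => f j (v j)) fun j _ => h2 j _, xv, xv,
    (O.perm.map fun j => S.x (sg j) (f (ρ⁻¹ j) (v (ρ⁻¹ j)))).symm.prod_eq' (List.pairwise_map.2 (O.orth.imp fun e => cm_x e (h1 _) (h1 _) _ _)),
    List.map_map]
  simp [Function.comp_def]

include h

omit [Cert D] in
theorem fix (t : F) : xv S sroot L (g · t) ∈ fixS σ ∧ xv S nrt L (g · t) ∈ fixS σ := by
  have : ∀ j ∈ L, f (ρ⁻¹ j) (g (ρ⁻¹ j) t) = g j t := fun j hj => by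
    rw [← O.tw _ (O.mem.2 (apply_mem_orb.1 (by simpa using O.mem.1 hj)))]; simp
  exact ⟨(O.act (by simp) (by simpa using h.pos) _).trans (xv_congr this), (O.act (by simp) (by simpa using h.neg) _).trans (xv_congr this)⟩

omit h [Cert D] in
theorem inj {v w : Node D → K} (e : xv S sroot L v = xv S sroot L w) : ∀ j ∈ L, v j = w j := by
  rw [xv_eq, xv_eq] at e
  simpa using inj_pos (fun _ a => a.1) O.list (by simp) (by simp) e

omit [Cert D] in
theorem ex {x : G} (hx : x ∈ S.US (PosJ (orb ρ i))) (hf : x ∈ fixS σ) : ∃ t, xv S sroot L (g · t) = x := by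
  obtain ⟨w, hw, rfl⟩ := exists_posJ O.list hx
  have : Inhabited K := ⟨0⟩
  obtain ⟨v, rfl⟩ := exists_fun_of_map (L := L.map sroot) ((O.list.2.2.of_map).map sroot_injective) (w := w) (by rw [hw, List.map_map]; rfl)
  have h1 : wordG S.x ((L.map sroot).map fun r => (r.1, v r)) = xv S sroot L (v ∘ sroot) := by rw [xv_eq, List.map_map]; rfl
  rw [h1] at hf ⊢
  obtain ⟨t, ht⟩ := O.surj (v ∘ sroot) fun j hj => by
    simpa using (O.inj ((O.act (by simp) (by simpa using h.pos) _).symm.trans hf) _ (O.mem.2 (apply_mem_orb.2 (O.mem.1 hj)))).symm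
  exact ⟨t, (xv_congr ht).symm⟩

end OD

variable {h} (T : Tw h (fixS σ)) {G' : Type*} [Group G'] {j : G' →* G} (hj : Function.Injective j) (hr : j.range = fixS σ)

/-- the root group of an orbit -/
abbrev XT (S : StSys D K G) (ρ : Perm (Node D)) (j : G' →* G) (a : H12.Lt.Orb ρ) : Subgroup G' := (S.US (PosJ (orb ρ a.out))).comap j

omit [Good D] [Cert D] in
theorem orb_out (i : Node D) : orb ρ (⟦i⟧ : H12.Lt.Orb ρ).out = orb ρ i := (orb_eq (mem_orb_out.2 rfl)).symm

theorem Yg_eq (a : H12.Lt.Orb ρ) : Yg (fun a => T.nu hr a.out) (XT S ρ j) a = (S.US (NegJ (orb ρ a.out))).comap j := by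
  ext g; rw [mem_Yg, Subgroup.mem_comap, Subgroup.mem_comap, ← conj_neg_iff (T.π_nu hr _)]; simp

include hj in
theorem OD.exists_nd {i : Node D} {L : List (Node D)} {g : Node D → F →+* K} (O : OD ρ f i L g) : ∃ x y : F → G',
    Nd (S.N.comap j) (XT S ρ j ⟦i⟧) (Yg (fun a => T.nu hr a.out) (XT S ρ j) ⟦i⟧) x y ∧
      (∀ t, j (x t) = xv S sroot L (g · t)) ∧ ∀ t, j (y t) = xv S nrt L (g · t) := by
  choose x hx using fun t => hr.ge (O.fix h t).1
  choose y hy using fun t => hr.ge (O.fix h t).2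
  obtain ⟨R, hw⟩ := xv_rel (S := S) O.orth g
  have h1 : ∀ t, j (wEl x y t) = wEl (fun t => xv S sroot L (g · t)) (fun t => xv S nrt L (g · t)) t := fun t => by simp [wEl, hx, hy]
  refine ⟨x, y, ⟨⟨fun t u => hj (by rw [map_mul, hx, hx, hx, R.hx]), fun t u => hj (by rw [map_mul, hy, hy, hy, R.hy]),
    fun t u ht => hj (by rw [map_mul, map_mul, map_inv, h1, hx, hy, R.hw _ _ ht])⟩, fun z => ⟨fun hz => ?_, ?_⟩, fun t e => ?_,
    fun t ht => ?_, fun t => ?_⟩, hx, hy⟩
  · obtain ⟨t, e⟩ := O.ex h (orb_out i ▸ hz) (hr.le ⟨z, rfl⟩)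
    exact ⟨t, hj ((hx t).trans e)⟩
  · rintro ⟨t, rfl⟩
    rw [Subgroup.mem_comap, hx, orb_out]
    exact xv_mem (fun k hk => x_mem_US (T := PosJ _) ⟨isPos_sroot k, inJ_sroot.2 (O.mem.1 hk)⟩) _
  · simpa using O.inj (S := S) (v := (g · t)) (w := (g · 0)) (by rw [← hx, e, map_one, R.x_zero]) i (O.mem.2 (mem_orb_self _ _))
  · rw [Subgroup.mem_comap, h1, hw]
    exact Subgroup.list_prod_mem _ (by simpa using fun k _ => n_mem_N _ ((map_ne_zero _).2 ht))
  · rw [Yg_eq, Subgroup.mem_comap, hy, orb_out]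
    exact xv_mem (fun k hk => x_mem_US (T := NegJ _) ⟨not_isPos_rev (isPos_sroot k), inJ_rev.2 (inJ_sroot.2 (O.mem.1 hk))⟩) _

theorem exists_n0 : ∃ n ∈ S.N.comap j, Top (h.sF Quotient.out) (AT h) Set.univ (dT T hr n) ∧ cj n (S.U.comap j) = S.V.comap j := by
  obtain ⟨⟨m, hm, e⟩, -⟩ := T.exists_rep (h.wJ_mem_Wf (J := Set.univ) (by simp))
  obtain ⟨n, hn⟩ := hr.ge hm
  have h1 : (dT T hr n).1 = wJ Set.univ := by rw [← e, ← dl_N T.gen, ← hn]; rfl
  refine ⟨n, (hn ▸ m.2 : j n ∈ S.N), ⟨(mem_par_iff _).2 (h1 ▸ wJ_mem _), fun t _ => ?_⟩, ?_⟩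
  · simpa [AT, h1, isPos_wJ (J := Set.univ) (inJ_sroot.2 trivial)] using isPos_sroot _
  · ext g
    have := conj_neg_iff (m := m⁻¹) (by rw [map_inv, e, wJ_inv]) (g := j g)
    simpa [mem_cj, hn, PosJ, NegJ, InJ, StSys.U, StSys.V] using this

end H11.Lx
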