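import Cfsg.Agent.H11.TwNd

/-! Automorphisms of twisted groups: diagonal and field automorphisms (`df`, `Rs`, `card_Rs`), `Qr`, `card_out_tw`. -/

namespace H11.Lx
open Cfsg Cfsg.Lie H11.StSys H12 H12.Lt H12.St Equiv

variable {D : ChevalleyDatum} [Good D] {K : Type*} [Field K] {F : Type*} [Field F] [Cert D] {ρ : Perm (Node D)} {f : Node D → K ≃+* K}
  {G' : Type*} [Group G']

/-- diagonal times field automorphism -/
noncomputable abbrev df (c : Node D → Kˣ) (φ : K ≃+* K) : MulAut (D.group K) := diagAut D K c * fieldAut D K φ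

theorem df_mul (c d : Node D → Kˣ) (φ ψ : K ≃+* K) : df c φ * df d ψ = df (c * fun i => Units.map (φ : K →* K) (d i)) (φ * ψ) :=
  ((simpAct_diag_field c φ).mul (simpAct_diag_field d ψ)).ext (grpSys_grp D K) (simpAct_diag_field _ _)

omit [Cert D] in
theorem df_x (c : Node D → Kˣ) (φ : K ≃+* K) (r : Root D) (t : K) : df c φ ((grpSys D K).x r t) = (grpSys D K).x r (chiS c r * φ t) := by simp

omit [Cert D] in
theorem df_mem (c : Node D → Kˣ) (φ : K ≃+* K) {A : Set (Root D)} {g : D.group K} (hg : g ∈ (grpSys D K).US A) :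
    df c φ g ∈ (grpSys D K).US A :=
  (US_le (M := ((grpSys D K).US A).comap (df c φ).toMonoidHom)).2 (fun r hr t => Subgroup.mem_comap.2 ((df_x c φ r t).symm ▸ x_mem_US hr _ : df c φ _ ∈ _)) hg

omit [Cert D] in
theorem df_xv (c : Node D → Kˣ) (φ : K ≃+* K) (L : List (Node D)) (v : Node D → K) :
    df c φ (xv (grpSys D K) sroot L v) = xv (grpSys D K) sroot L fun k => c k * φ (v k) :=
  map_xv (df c φ).toMonoidHom fun k _ => (df_x ..).trans (by rw [chiS_sroot])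

variable [Finite K]

omit [Good D] [Cert D] in
theorem aut_comm (a b : K ≃+* K) (t : K) : a (b t) = b (a t) := by
  have := Fact.mk (CharP.char_is_prime K (ringChar K))
  obtain ⟨n, -, e⟩ := exists_card_eq (K := K) (ringChar K)
  have := (ringAut_facts (ringChar K) e).2
  exact DFunLike.congr_fun (IsCyclic.commGroup.mul_comm a b) t

omit [Good D] [Cert D] in
theorem map_mem_Tf {c : Node D → Kˣ} (hc : c ∈ Tf ρ f) (φ : K ≃+* K) : (fun i => Units.map (φ : K →* K) (c i)) ∈ Tf ρ f :=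
  fun i => (congrArg φ (hc i)).trans (aut_comm ..)

variable (ρ f) in
/-- the automorphisms induced by diagonal and field automorphisms -/
def Rs (j : G' →* D.group K) : Subgroup (MulAut G') where
  carrier := {α | ∃ c ∈ Tf ρ f, ∃ φ, ∀ g, j (α g) = df c φ (j g)}
  one_mem' := ⟨1, one_mem _, 1, by simp⟩
  mul_mem' := fun ⟨c, hc, φ, a⟩ ⟨d, hd, ψ, b⟩ => ⟨_, mul_mem hc (map_mem_Tf hd φ), φ * ψ, fun g => by
    rw [← df_mul, MulAut.mul_apply, MulAut.mul_apply _ (df c φ), a, b]⟩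
  inv_mem' := fun {α} ⟨c, hc, φ, a⟩ => ⟨_, map_mem_Tf (inv_mem hc) φ⁻¹, φ⁻¹, fun g => (df c φ).injective (by
    rw [← a, ← MulAut.mul_apply _ (df c φ), df_mul, show (c * fun i => Units.map (φ : K →* K) (Units.map (φ⁻¹ : K ≃+* K) (c⁻¹ i))) = 1 by
      ext i; simp [show ∀ t, φ (φ⁻¹ t) = t from φ.apply_symm_apply]]; simp)⟩

variable {σ : MulAut (D.group K)} {h : (grpSys D K).SimpAct σ ρ 1 f} (T : Tw h (fixS σ)) {j : G' →* D.group K}
  (hj : Function.Injective j) (hr : j.range = fixS σ)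

include h hj hr in
theorem exists_Rs {c : Node D → Kˣ} (hc : c ∈ Tf ρ f) (φ : K ≃+* K) : ∃ α ∈ Rs ρ f j, ∀ g, j (α g) = df c φ (j g) := by
  have := finite_of_gen (grpSys_grp D K)
  have := Finite.of_injective j hj
  have h1 : σ * df c φ = df c φ * σ := (h.mul (simpAct_diag_field c φ)).ext (grpSys_grp D K) (by
    convert (simpAct_diag_field c φ).mul h using 1
    · simp
    · ext i; simp [hc i]
    · ext i t; exact aut_comm ..)
  choose a ha using fun g => hr.ge (x := df c φ (j g)) (by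
    rw [mem_fixS, ← MulAut.mul_apply, h1, MulAut.mul_apply, mem_fixS.1 (hr.le ⟨g, rfl⟩)])
  have h2 : Function.Injective a := fun x y e => hj ((df c φ).injective (by rw [← ha, e, ha]))
  exact ⟨.ofBijective (MonoidHom.mk' a fun x y => hj (by simp only [map_mul, ha])) ⟨h2, Finite.injective_iff_surjective.1 h2⟩,
    ⟨c, hc, φ, ha⟩, ha⟩

theorem Rs_mp {α : MulAut G'} (hα : α ∈ Rs ρ f j) (A : Set (Root D)) :
    Mp α (((grpSys D K).US A).comap j) (((grpSys D K).US A).comap j) := by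
  have k : ∀ β ∈ Rs ρ f j, ∀ g, j g ∈ (grpSys D K).US A → j (β g) ∈ (grpSys D K).US A := fun β ⟨c, _, φ, a⟩ g hg => a g ▸ df_mem c φ hg
  exact fun g => ⟨fun a => by simpa using k _ (inv_mem hα) _ a, k _ hα g⟩

variable {i : Node D} {L : List (Node D)} {g : Node D → F →+* K} (O : OD ρ f i L g)
  (big : ∀ i, ∃ k ∈ orb ρ i, ∃ u ∈ (grpSys D K).U ⊓ fixS σ, u ∉ (grpSys D K).UJ {k})

include h hj hr O big in
theorem card_Rs (hs : Function.Surjective (g i)) : Nat.card (Rs ρ f j) = Nat.card (Tf ρ f) * Nat.card (K ≃+* K) := by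
  choose a ha h1 using fun z : Tf ρ f × (K ≃+* K) => exists_Rs (h := h) hj hr z.1.2 z.2
  rw [← Nat.card_prod]
  refine (Nat.card_eq_of_bijective (fun z => ⟨a z, ha z⟩) ⟨fun ⟨⟨c, hc⟩, φ⟩ ⟨⟨d, hd⟩, ψ⟩ e => ?_, fun ⟨α, c, hc, φ, e⟩ =>
    ⟨(⟨c, hc⟩, φ), Subtype.ext (MulEquiv.ext fun g => hj (by rw [h1, e]))⟩⟩).symm
  have h2 : ∀ u ∈ fixS σ, df c φ u = df d ψ u := fun u hu => by
    obtain ⟨u, rfl⟩ := hr.ge hu
    exact (h1 (⟨c, hc⟩, φ) u).symm.trans ((congrArg (fun α => j (α.1 u)) e).trans (h1 _ u))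
  have h3 := fun t => O.inj (by simpa only [df_xv] using h2 _ (O.fix h t).1) i (O.mem.2 (mem_orb_self _ _))
  obtain rfl : φ = ψ := RingEquiv.ext fun t => by
    obtain ⟨t, rfl⟩ := hs t
    have h4 := h3 1
    simp only [map_one, mul_one] at h4
    exact mul_left_cancel₀ (c i).ne_zero (by rw [h3, h4])
  refine Prod.ext (Subtype.ext (funext fun k => ?_)) rfl
  obtain ⟨l, hl, u, hu, h4⟩ := big k
  refine orb_induction (C := fun k => c k = d k) (fun k e => Units.ext (by rw [hc k, hd k, e])) (i := l) ?_ (Perm.SameCycle.symm hl)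
  obtain ⟨v, hv, t, rfl⟩ := exists_mul_x_of_mem_U l hu.1
  have h5 := h2 _ hu.2
  rw [map_mul, map_mul, df_x, df_x, chiS_sroot, chiS_sroot, ← eq_mul_inv_iff_mul_eq, mul_assoc, x_inv, StSys.add, ← inv_mul_eq_iff_eq_mul] at h5
  by_contra e
  refine x_not_mem_UJ l (fun e' => ?_) (h5 ▸ mul_mem (inv_mem (df_mem d φ hv)) (df_mem c φ hv))
  rw [add_neg_eq_zero, mul_left_inj' ((map_ne_zero _).2 (by rintro rfl; exact h4 (by simpa using hv)))] at e'
  exact e (Units.ext e'.symm)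

include h hj hr in
theorem exists_diag {c : Node D → Kˣ} (hc : c ∈ Tf ρ f) (h1 : ∀ k ∉ orb ρ i, c k = 1) :
    ∃ β ∈ Rs ρ f j, (∀ z, j (β z) = df c 1 (j z)) ∧ ∀ b ≠ ⟦i⟧, ∀ z ∈ XT (grpSys D K) ρ j b, β z = z := by
  obtain ⟨β, h2, h3⟩ := exists_Rs (h := h) hj hr hc 1
  refine ⟨β, h2, h3, fun b hb z hz => hj ((h3 z).trans ((US_le (M := fixS (df c 1))).2 (fun r hr t => ?_) hz))⟩
  rw [mem_fixS, df_x, chiS_eq_one (fun k hk => h1 k fun e => hb ?_) hr.2]; · simp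
  rw [← mem_orb_out.1 hk, eq_comm]; exact Quotient.sound e

variable {n0 : G'} (hn0 : n0 ∈ (grpSys D K).N.comap j) (ht : Top (h.sF Quotient.out) (AT h) Set.univ (dT T hr n0))
  (hV : cj n0 ((grpSys D K).U.comap j) = (grpSys D K).V.comap j)

variable (ρ f j) in
/-- automorphisms fixing the root groups of the nodes in `l` are diagonal times field automorphisms -/
def Qr (l : List (Node D)) : Prop := ∀ α ∈ A0 ((grpSys D K).U.comap j) ((grpSys D K).V.comap j),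
  (∀ a, Mp α (XT (grpSys D K) ρ j a) (XT (grpSys D K) ρ j a)) → (∀ k ∈ l, ∀ z ∈ XT (grpSys D K) ρ j ⟦k⟧, α z = z) → α ∈ Rs ρ f j

theorem Qr.step {l : List (Node D)} (h1 : Qr ρ f j (i :: l)) (h2 : ∀ α ∈ A0 ((grpSys D K).U.comap j) ((grpSys D K).V.comap j),
    Mp α (XT (grpSys D K) ρ j ⟦i⟧) (XT (grpSys D K) ρ j ⟦i⟧) → (∀ k ∈ l, ∀ z ∈ XT (grpSys D K) ρ j ⟦k⟧, α z = z) → ∃ β ∈ Rs ρ f j,
      (∀ z ∈ XT (grpSys D K) ρ j ⟦i⟧, α z = β z) ∧ ∀ k ∈ l, (⟦k⟧ : H12.Lt.Orb ρ) ≠ ⟦i⟧ → ∀ z ∈ XT (grpSys D K) ρ j ⟦k⟧, β z = z) :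
    Qr ρ f j l := fun α a b c => by
  obtain ⟨β, h3, h4, h5⟩ := h2 α a (b _) c
  have h6 := inv_mem h3
  refine (Subgroup.mul_mem_cancel_left _ h6).1 (h1 _ (mul_mem ⟨Rs_mp h6 _, Rs_mp h6 _⟩ a) (fun a => (Rs_mp h6 _).mul (b a)) fun k hk z hz => ?_)
  rw [MulAut.mul_apply, MulAut.inv_apply, MulEquiv.symm_apply_eq]
  by_cases e : (⟦k⟧ : H12.Lt.Orb ρ) = ⟦i⟧
  · exact h4 z (e ▸ hz)
  · have := (List.mem_cons.1 hk).resolve_left (by rintro rfl; exact e rfl)
    rw [c k this z hz, h5 k this e z hz]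

include h hj hr O in
theorem OD.exists_diag {x : F → G'} (hx : ∀ t, j (x t) = xv (grpSys D K) sroot L (g · t)) {a : F} (ha : a ≠ 0) :
    ∃ β ∈ Rs ρ f j, (∀ t, β (x t) = x (a * t)) ∧ ∀ b ≠ ⟦i⟧, ∀ z ∈ XT (grpSys D K) ρ j b, β z = z := by
  classical
  obtain ⟨β, h1, h2, h3⟩ := Lx.exists_diag (h := h) (i := i) hj hr (c := fun k => if k ∈ L then .mk0 _ ((map_ne_zero (g k)).2 ha) else 1)
    (fun k => by by_cases e : k ∈ L <;> simp [show ρ k ∈ L ↔ k ∈ L by rw [O.mem, O.mem, apply_mem_orb], e, O.tw]) fun k hk => if_neg (mt O.mem.1 hk)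
  exact ⟨β, h1, fun t => hj (by rw [h2, hx, hx, df_xv]; exact xv_congr fun k hk => by simp [hk]), h3⟩

variable (p : ℕ) [Fact p.Prime] [CharP K p]
include T hj hr big p

theorem Qr.all {l : List (Node D)} (hl : ∀ i, ∃ k ∈ l, i ∈ orb ρ k) : Qr ρ f j l := fun α a _ c => by
  have := finite_of_gen (grpSys_grp D K)
  have := Finite.of_injective j hj
  obtain ⟨n0, hn0, ht, hV⟩ := exists_n0 T hr
  rw [eq_one (α := α) (lt_tw T hj hr p (grpSys_θ_injective D K) big) hn0 ht (hV ▸ a) fun b => ?_]; · exact one_mem _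
  obtain ⟨k, h1, h2⟩ := hl b.out
  exact (Quotient.sound h2).trans b.out_eq ▸ c k h1

include O

theorem Qr.first [Finite F] (h1 : Qr ρ f j [i]) (hφ : ∀ φ : F ≃+* F, ∃ ψ : K ≃+* K, ∀ k ∈ L, ∀ t, g k (φ t) = ψ (g k t)) : Qr ρ f j [] :=
  h1.step fun α a b _ => by
    have := finite_of_gen (grpSys_grp D K)
    have := Finite.of_injective j hj
    obtain ⟨n0, hn0, ht, hV⟩ := exists_n0 T hr
    obtain ⟨x, y, R, hx, -⟩ := O.exists_nd T hj hr
    obtain ⟨c, φ, e⟩ := R.exists_aut (lt_tw T hj hr p (grpSys_θ_injective D K) big) hn0 ht (hV ▸ a) b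
    obtain ⟨ψ, hψ⟩ := hφ φ
    obtain ⟨β, h2, h3, -⟩ := O.exists_diag (h := h) hj hr hx c.ne_zero
    obtain ⟨γ, h4, h5⟩ := exists_Rs (h := h) hj hr (one_mem _) ψ
    refine ⟨β * γ, mul_mem h2 h4, fun z hz => ?_, by simp⟩
    obtain ⟨t, rfl⟩ := (R.mem z).1 hz
    rw [e, ← h3, MulAut.mul_apply]
    exact congrArg β (hj (by rw [h5, hx, hx, df_xv]; exact xv_congr fun k hk => by simp [hψ k hk]))

omit O in
theorem OD.exists_h {F' : Type*} [Field F'] {k : Node D} {L' : List (Node D)} {g' : Node D → F' →+* K} (O' : OD ρ f k L' g')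
    {α : MulAut G'} (a : α ∈ A0 ((grpSys D K).U.comap j) ((grpSys D K).V.comap j)) (c : ∀ z ∈ XT (grpSys D K) ρ j ⟦k⟧, α z = z)
    {t : F'} (ht : t ≠ 0) : ∃ y, α y = y ∧ ∀ r u, j y * (grpSys D K).x r u * (j y)⁻¹ =
      (grpSys D K).x r ((L'.map fun b => g' b t ^ pair (sroot b) r).prod * u) := by
  have := finite_of_gen (grpSys_grp D K)
  have := Finite.of_injective j hj
  obtain ⟨n0, hn0, h0, hV⟩ := exists_n0 T hr
  obtain ⟨x, y, R, hx, hy⟩ := O'.exists_nd T hj hr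
  refine ⟨_, fix_L (lt_tw T hj hr p (grpSys_θ_injective D K) big) hn0 h0 (hV ▸ a) c (R.h_mem t), fun r u => ?_⟩
  rw [← xv_h O'.orth g' ht]; simp [hEl, wEl, hx, hy]

theorem Qr.next {F' : Type*} [Field F'] {k : Node D} {L' : List (Node D)} {g' : Node D → F' →+* K} (O' : OD ρ f k L' g')
    {l : List (Node D)} (h1 : Qr ρ f j (i :: l)) (hk : k ∈ l)
    (hT : ∀ t ≠ 0, ∃ t' ≠ 0, ∀ a ∈ L, (L'.map fun b => g' b t' ^ pair (sroot b) (sroot a)).prod = g a t) : Qr ρ f j l :=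
  h1.step fun α a b c => by
    obtain ⟨x, y, R, hx, -⟩ := O.exists_nd T hj hr
    obtain ⟨d, hd⟩ := lin_of_trans (α := α) R.x_zero (((R.mem _).1 ((b _).2 (R.xX 1))).imp fun _ e => e.symm) fun t ht => by
      obtain ⟨t', h2, h3⟩ := hT t ht
      obtain ⟨z, h4, h5⟩ := O'.exists_h T hj hr big p a (c k hk) h2
      refine ⟨z, h4, fun u => hj ?_⟩
      rw [map_mul, map_mul, map_inv, hx, hx]
      exact map_xv (MulAut.conj (j z)).toMonoidHom fun a ha => (h5 _ _).trans (by rw [h3 a ha, map_mul])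
    obtain ⟨β, h2, h3, h4⟩ := O.exists_diag (h := h) hj hr hx (a := d) (by
      rintro rfl
      exact one_ne_zero (R.inj 1 (α.injective (by rw [hd, zero_mul, R.x_zero, map_one]))))
    refine ⟨β, h2, fun z hz => ?_, fun k _ => h4 _⟩
    obtain ⟨t, rfl⟩ := (R.mem z).1 hz
    rw [hd, h3]

theorem card_out_tw (hs : Function.Surjective (g i)) (h1 : Qr ρ f j []) (h2 : ∀ π : H12.Lt.Orb ρ → H12.Lt.Orb ρ, Function.Injective π →
    (∀ a, Nat.card (XT (grpSys D K) ρ j a) = Nat.card (XT (grpSys D K) ρ j (π a))) →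
    (∀ a b, Commute (wJ (orb ρ (π a).out)) (wJ (orb ρ (π b).out)) → Commute (wJ (orb ρ a.out)) (wJ (orb ρ b.out))) → ∀ a, π a = a) :
    Nat.card (Out G') * Nat.card ↥((grpSys D K).H ⊓ fixS σ) = Nat.card (Tf ρ f) * Nat.card (K ≃+* K) := by
  have := finite_of_gen (grpSys_grp D K)
  have := Finite.of_injective j hj
  obtain ⟨n0, hn0, ht, hV⟩ := exists_n0 T hr
  have C := lt_tw T hj hr p (grpSys_θ_injective D K) big
  rw [← hr, ← card_comap hj, card_out C hn0 ht, ← card_Rs (h := h) hj hr O big hs, hV]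
  refine congrArg (fun A : Subgroup _ => Nat.card A) (le_antisymm (fun α a => ?_) fun α a => ⟨Rs_mp a _, Rs_mp a _⟩)
  obtain ⟨π, h3, h4, h5⟩ := exists_perm' C hn0 ht (hV ▸ a)
  have h6 := h2 π h3 (fun a => (h4 a).card) fun a b e => congrArg Subtype.val (h5 a b (Subtype.ext e))
  exact h1 α a (fun b => by simpa only [h6] using h4 b) (by simp)

end H11.Lx
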