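import Cfsg.Agent.H11.TwQ

/-! Central extensions of subgroups `M` of Chevalley groups: splitting over `U ⊓ M` from torus actions (`ker_inf_comm`, `Kill`). -/

namespace H11
open Cfsg Cfsg.Lie Equiv StSys
open scoped commutatorElement
attribute [-simp] commutatorElement_inv map_commutatorElement

variable {D : ChevalleyDatum} [Good D] {K G E : Type*} [Field K] [Group G] [Group E] {S : StSys D K G} {φ : Node D → ℤ}

/-- levels of the filtration -/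
abbrev Lv (φ : Node D → ℤ) (c : ℤ) : Set (Root D) := lev φ {r | 0 < fv φ r} c

/-- leading coordinate -/
def StSys.Co (S : StSys D K G) (φ : Node D → ℤ) (m : Root D) (g : G) (t : K) : Prop := (S.x m t)⁻¹ * g ∈ S.US (Lv φ (fv φ m + 1))

/-- `y` acts on the root subgroup of `r` as the scalar `a` -/
def StSys.Ac (S : StSys D K G) (y : G) (r : Root D) (a : K) : Prop := ∀ t, y * S.x r t * y⁻¹ = S.x r (a * t)

omit [Good D] in
theorem co_zero {m : Root D} {g : G} : S.Co φ m g 0 ↔ g ∈ S.US (Lv φ (fv φ m + 1)) := by simp [Co]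

omit [Good D] in
theorem co_mul_x {m : Root D} {g : G} (h : g ∈ S.US (Lv φ (fv φ m + 1))) (t : K) : S.Co φ m (S.x m t * g) t := by simpa [Co]

omit [Good D] in
theorem StSys.Ac.mul {y z : G} {r : Root D} {a b : K} (h : S.Ac y r a) (h' : S.Ac z r b) : S.Ac (y * z) r (a * b) := fun t => by
  rw [mul_assoc a, ← h, ← h']; group

omit [Good D] in
theorem StSys.Ac.inv {y : G} {r : Root D} {a : K} (h : S.Ac y r a) (ha : a ≠ 0) : S.Ac y⁻¹ r a⁻¹ := fun t => by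
  rw [← mul_inv_cancel_left₀ ha t, ← h, inv_mul_cancel_left₀ ha]; group

namespace StSys.Co
variable {m : Root D} {g g' : G} {t t' : K}

omit [Good D] in
theorem sub (h : S.Co φ m g t) (h' : S.Co φ m g' t) : g⁻¹ * g' ∈ S.US (Lv φ (fv φ m + 1)) := by
  simpa [mul_assoc] using mul_mem (inv_mem h) h'

theorem conj [Cert D] (h : S.Co φ m g t) {y : G} (hy : y ∈ S.H) {b : K} (hb : S.Ac y m b) : S.Co φ m (y * g * y⁻¹) (b * t) := by
  rw [Co, ← hb]; simpa [mul_assoc] using (H_le_normalizer _ hy _).1 h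

variable (hm : 0 < fv φ m)
include hm

omit [Good D] in
theorem mem (h : S.Co φ m g t) : g ∈ S.US (Lv φ (fv φ m + 1) ∪ {m}) := by
  simpa using mul_mem (x_mem_US (T := Lv φ (fv φ m + 1) ∪ {m}) (.inr rfl) t) (US_mono Set.subset_union_left h)

omit [Good D] in
theorem _root_.H11.lv_le : S.US (Lv φ (fv φ m + 1) ∪ {m}) ≤ S.US (Lv φ (fv φ m)) :=
  US_mono (Set.union_subset (lev_mono (by omega)) (by rintro _ rfl; exact ⟨hm, le_rfl⟩))

omit [Good D] in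
theorem pos (h : S.Co φ m g t) : g ∈ S.US {r | 0 < fv φ r} := US_mono (fun _ a => a.1) (lv_le hm (h.mem hm))

theorem mul (h : S.Co φ m g t) (h' : S.Co φ m g' t') : S.Co φ m (g * g') (t + t') := by
  rw [Co, ← S.add]
  simpa [mul_assoc] using mul_mem (conj_mem_lev (closed_pos φ) (fun _ a => a) (inv_mem (x_mem_US hm t')) h) h'

theorem inv (h : S.Co φ m g t) : S.Co φ m g⁻¹ (-t) := by
  rw [Co, ← S.x_inv]
  simpa [mul_assoc] using conj_mem_lev (closed_pos φ) (fun _ a => a) (x_mem_US hm t) (inv_mem h)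

theorem unique (h : S.Co φ m g t) (h' : S.Co φ m g t') : t = t' := by
  have := mul_mem h (inv_mem h')
  rw [mul_inv_rev, inv_inv, mul_assoc, mul_inv_cancel_left, x_inv, S.add] at this
  exact neg_add_eq_zero.1 (eq_zero_of_mem_US hm.le (fun _ a => a.2) this)

theorem _root_.H11.exists_co (hg : g ∈ S.US (Lv φ (fv φ m + 1) ∪ {m})) : ∃ t, S.Co φ m g t :=
  US_induction (C := fun g => ∃ t, S.Co φ m g t) ⟨0, by simp [Co]⟩ (by
    rintro r (hr | rfl) t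
    exacts [⟨0, co_zero.2 (x_mem_US hr t)⟩, ⟨t, by simp [Co]⟩]) (fun _ _ _ _ ⟨_, a⟩ ⟨_, b⟩ => ⟨_, a.mul hm b⟩) hg

end StSys.Co

variable (S φ) in
/-- the leading coordinates of elements of `M` -/
def Vc (M : Subgroup G) (m : Root D) : Set K := {t | ∃ g ∈ M, S.Co φ m g t}

variable {M : Subgroup G} {k m : Root D}

omit [Good D] in
theorem Vc.zero : 0 ∈ Vc S φ M m := ⟨1, one_mem _, by simp [Co]⟩

theorem Vc.add (hm : 0 < fv φ m) {s t : K} (h : s ∈ Vc S φ M m) (h' : t ∈ Vc S φ M m) : s + t ∈ Vc S φ M m :=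
  let ⟨_, a, b⟩ := h; let ⟨_, c, d⟩ := h'; ⟨_, mul_mem a c, b.mul hm d⟩

theorem Vc.neg (hm : 0 < fv φ m) {s : K} (h : s ∈ Vc S φ M m) : -s ∈ Vc S φ M m := let ⟨_, a, b⟩ := h; ⟨_, inv_mem a, b.inv hm⟩

variable [Cert D]

theorem Vc.smul {y : G} (hy : y ∈ S.H ⊓ M) {b : K} (hb : S.Ac y m b) {s : K} (h : s ∈ Vc S φ M m) : b * s ∈ Vc S φ M m :=
  let ⟨_, a, c⟩ := h; ⟨_, mul_mem (mul_mem hy.2 a) (inv_mem hy.2), c.conj hy.1 hb⟩

theorem Vc.surj [Finite K] (hm : 0 < fv φ m) {y : G} (hy : y ∈ S.H ⊓ M) {b : K} (hb : S.Ac y m b) (h1 : b ≠ 1) {t : K}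
    (h : t ∈ Vc S φ M m) : ∃ s ∈ Vc S φ M m, b * s + -s = t := by
  obtain ⟨s, e⟩ := (Finite.injective_iff_surjective (f := fun s : Vc S φ M m =>
    (⟨_, Vc.add hm (Vc.smul hy hb s.2) (Vc.neg hm s.2)⟩ : Vc S φ M m))).1 (fun a c e => Subtype.ext (mul_left_cancel₀ (sub_ne_zero.2 h1)
      (by have : b * a + -a = b * c + -c := congrArg Subtype.val e; linear_combination this))) ⟨t, h⟩
  exact ⟨s, s.2, congrArg Subtype.val e⟩

variable (S φ M k m) in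
/-- invariant biadditive pairings vanishing on commuting lifts are trivial -/
def Kill (κ : E →* G) : Prop := ∀ β : K → K → E,
  (∀ s ∈ Vc S φ M k, ∀ s' ∈ Vc S φ M k, ∀ t ∈ Vc S φ M m, β (s + s') t = β s t * β s' t) →
  (∀ s ∈ Vc S φ M k, ∀ t ∈ Vc S φ M m, ∀ t' ∈ Vc S φ M m, β s (t + t') = β s t * β s t') →
  (∀ y ∈ S.H ⊓ M, ∀ a b, S.Ac y k a → S.Ac y m b → ∀ s ∈ Vc S φ M k, ∀ t ∈ Vc S φ M m, β (a * s) (b * t) = β s t) →
  (∀ g v s t, S.Co φ k (κ g) s → S.Co φ m (κ v) t → Commute g v → β s t = 1) → ∀ s ∈ Vc S φ M k, ∀ t ∈ Vc S φ M m, β s t = 1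

variable {κ : E →* G}

omit [Good D] [Cert D] in
theorem kill_left (h : Vc S φ M k ⊆ {0}) : Kill S φ M k m κ := fun β h1 _ _ _ s hs t ht => by
  rw [h hs]; simpa using h1 0 Vc.zero 0 Vc.zero t ht

omit [Good D] [Cert D] in
theorem kill_right (h : Vc S φ M m ⊆ {0}) : Kill S φ M k m κ := fun β _ h1 _ _ s hs t ht => by
  rw [h ht]; simpa using h1 s hs 0 Vc.zero 0 Vc.zero

omit [Good D] [Cert D] in
theorem kill_comm (h : ∀ s ∈ Vc S φ M k, ∀ t ∈ Vc S φ M m, ∃ g v, S.Co φ k (κ g) s ∧ S.Co φ m (κ v) t ∧ Commute g v) :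
    Kill S φ M k m κ := fun _ _ _ _ h4 s hs t ht => let ⟨g, v, a, b, c⟩ := h s hs t ht; h4 g v s t a b c

variable [Finite K]

theorem kill_sep (hm : 0 < fv φ m) {y : G} (hy : y ∈ S.H ⊓ M) {b : K} (ha : S.Ac y k 1) (hb : S.Ac y m b) (h1 : b ≠ 1) :
    Kill S φ M k m κ := fun β _ h2 h3 _ s hs _ ht' => by
  obtain ⟨t, ht, rfl⟩ := Vc.surj hm hy hb h1 ht'
  rw [h2 s hs _ (Vc.smul hy hb ht) _ (Vc.neg hm ht), ← one_mul s, h3 y hy 1 b ha hb s hs t ht, one_mul, ← h2 s hs _ ht _ (Vc.neg hm ht)]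
  simpa using h2 s hs 0 Vc.zero 0 Vc.zero

theorem kill_sep' (hk : 0 < fv φ k) {y : G} (hy : y ∈ S.H ⊓ M) {a : K} (ha : S.Ac y k a) (hb : S.Ac y m 1) (h1 : a ≠ 1) :
    Kill S φ M k m κ := fun β h2 _ h3 _ _ hs' t ht => by
  obtain ⟨s, hs, rfl⟩ := Vc.surj hk hy ha h1 hs'
  rw [h2 _ (Vc.smul hy ha hs) _ (Vc.neg hk hs) t ht, ← one_mul t, h3 y hy a 1 ha hb s hs t ht, one_mul, ← h2 s hs _ (Vc.neg hk hs) t ht]
  simpa using h2 0 Vc.zero 0 Vc.zero t ht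

theorem kill_self (hm : 0 < fv φ m) {y z : G} (hy : y ∈ S.H ⊓ M) (hz : z ∈ S.H ⊓ M) {v : K} (ha : S.Ac y m v) (hb : S.Ac z m (1 - v))
    (h0 : v ≠ 0) (h1 : v ≠ 1) (h2 : v * (1 - v) ≠ 1) : Kill S φ M m m κ := fun β a1 a2 a3 _ _ hs' t ht => by
  have h4 : 1 - v ≠ 0 := sub_ne_zero.2 h1.symm
  have h3 : ∀ y ∈ S.H ⊓ M, ∀ c ≠ 0, S.Ac y m c → ∀ s ∈ Vc S φ M m, β (c * s) t = β s (c⁻¹ * t) := fun y hy c hc e s hs => by
    rw [← a3 y hy c c e e s hs _ (Vc.smul (inv_mem hy) (e.inv hc) ht), mul_inv_cancel_left₀ hc]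
  obtain ⟨s, hs, rfl⟩ := Vc.surj hm (mul_mem hy hz) (ha.mul hb) h2 hs'
  rw [a1 _ (Vc.smul (mul_mem hy hz) (ha.mul hb) hs) _ (Vc.neg hm hs) t ht, h3 _ (mul_mem hy hz) _ (mul_ne_zero h0 h4) (ha.mul hb) s hs,
    show (v * (1 - v))⁻¹ * t = v⁻¹ * t + (1 - v)⁻¹ * t by field_simp; ring,
    a2 s hs _ (Vc.smul (inv_mem hy) (ha.inv h0) ht) _ (Vc.smul (inv_mem hz) (hb.inv h4) ht), ← h3 y hy v h0 ha s hs, ← h3 z hz _ h4 hb s hs,
    ← a1 _ (Vc.smul hy ha hs) _ (Vc.smul hz hb hs) t ht, ← a1 _ (Vc.add hm (Vc.smul hy ha hs) (Vc.smul hz hb hs)) _ (Vc.neg hm hs) t ht,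
    show v * s + (1 - v) * s + -s = 0 by ring]
  simpa using a1 0 Vc.zero 0 Vc.zero t ht

variable (S φ κ) in
/-- a normal complement to the kernel -/
structure Cp (T : Set (Root D)) (A : Subgroup E) : Prop where
  inj : ∀ a ∈ A, κ a = 1 → a = 1
  le : ∀ a ∈ A, κ a ∈ S.US T
  ex : ∀ e, κ e ∈ S.US T → ∃ a ∈ A, κ a = κ e
  conj : ∀ g, κ g ∈ S.US {r | 0 < fv φ r} ∨ κ g ∈ S.H → ∀ a ∈ A, g * a * g⁻¹ ∈ A

variable (hc : κ.ker ≤ Subgroup.center E)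
include hc

omit [Good D] [Cert D] [Finite K] in
theorem Cp.comm {T : Set (Root D)} {A : Subgroup E} (C : Cp S φ κ T A) {g v : E} (hg : κ g ∈ S.US {r | 0 < fv φ r} ∨ κ g ∈ S.H)
    (hv : κ v ∈ S.US T) : ⁅g, v⁆ ∈ A :=
  let ⟨a, ha, e⟩ := C.ex v hv
  H16.commutatorElement_eq_of_map_eq hc rfl e ▸ mul_mem (C.conj g hg a ha) (inv_mem ha)

omit [Finite K] in
theorem Cp.key (hφ : Reg φ) (hm : 0 < fv φ m) {A : Subgroup E} (C : Cp S φ κ (Lv φ (fv φ m + 1)) A)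
    (hK : ∀ k, 0 < fv φ k → Kill S φ κ.range k m κ) {g v : E} (hg : κ g ∈ S.US {r | 0 < fv φ r})
    (hv : κ v ∈ S.US (Lv φ (fv φ m + 1) ∪ {m})) : ⁅g, v⁆ ∈ A := by
  have cen : ∀ {z}, κ z = 1 → ∀ a, a * z = z * a := fun h => Subgroup.mem_center_iff.1 (hc h)
  let F : E → E → E → Prop := fun g v z => κ z = 1 ∧ ⁅g, v⁆ * z⁻¹ ∈ A
  have f1 : ∀ {g v z z'}, F g v z → F g v z' → z = z' := fun a b =>
    mul_inv_eq_one.1 (C.inj _ (by simpa [mul_assoc] using mul_mem (inv_mem a.2) b.2) (by simp [a.1, b.1]))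
  have f2 : ∀ {g g' v z z'}, κ g ∈ S.US {r | 0 < fv φ r} → F g v z → F g' v z' → F (g * g') v (z * z') :=
    fun {g g' v z z'} h a b => ⟨by simp [a.1, b.1], by
      convert mul_mem (C.conj g (.inl h) _ b.2) a.2 using 1
      rw [mul_assoc g, mul_assoc _ z'⁻¹, ← cen (z := z'⁻¹) (by simp [b.1]), ← mul_assoc _ g⁻¹, ← mul_assoc g, mul_assoc _ z'⁻¹,
        ← cen (z := z'⁻¹) (by simp [b.1]), ← cen a.1]
      simp only [commutatorElement_def]; group⟩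
  have f3 : ∀ {g v v' z z'}, κ v ∈ S.US {r | 0 < fv φ r} → F g v z → F g v' z' → F g (v * v') (z * z') :=
    fun {g v v' z z'} h a b => ⟨by simp [a.1, b.1], by
      convert mul_mem a.2 (C.conj v (.inl h) _ b.2) using 1
      rw [mul_assoc _ z⁻¹, ← cen (z := z⁻¹) (by simp [a.1]), mul_assoc v, mul_assoc _ z'⁻¹, ← cen (z := z'⁻¹) (by simp [b.1])]
      simp only [commutatorElement_def]; group⟩
  refine lev_induction hφ _ (P := fun T => ∀ g v, κ g ∈ S.US T → κ v ∈ S.US (Lv φ (fv φ m + 1) ∪ {m}) → ⁅g, v⁆ ∈ A)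
    (fun g v h _ => by rw [commutatorElement_eq_one_iff_mul_comm.2 (cen (by simpa using h) v).symm]; exact one_mem _)
    (fun k hk ih g v hg hv => ?_) 0 g v (US_mono (lev_zero fun _ a => a) hg) hv
  have f4 : ∀ g v s t, S.Co φ k (κ g) s → S.Co φ m (κ v) t → ∃ z, F g v z := fun g v s t a b => by
    obtain ⟨x, hx, e⟩ := C.ex ⁅g, v⁆ (by
      simpa [commutatorElement_def, mul_assoc] using
        inv_mem (comm_mem_lev (closed_pos φ) (fun _ a => a) (inv_mem (a.pos hk)) (inv_mem (lv_le hm (b.mem hm)))))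
    exact ⟨x⁻¹ * ⁅g, v⁆, by rw [map_mul, map_inv, e, inv_mul_cancel], by simpa using hx⟩
  choose! gk g1 using fun s (h : s ∈ Vc S φ κ.range k) => show ∃ g, S.Co φ k (κ g) s from let ⟨_, ⟨g, rfl⟩, e⟩ := h; ⟨g, e⟩
  choose! gm g2 using fun s (h : s ∈ Vc S φ κ.range m) => show ∃ g, S.Co φ m (κ g) s from let ⟨_, ⟨g, rfl⟩, e⟩ := h; ⟨g, e⟩
  choose! β hβ using fun s (h : s ∈ Vc S φ κ.range k) t (h' : t ∈ Vc S φ κ.range m) => f4 _ _ s t (g1 s h) (g2 t h')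
  have f5 : ∀ {g v s t}, S.Co φ k (κ g) s → S.Co φ m (κ v) t → F g v (β s t) := fun {g v s t} a b => by
    have a' := g1 s ⟨_, ⟨g, rfl⟩, a⟩
    have b' := g2 t ⟨_, ⟨v, rfl⟩, b⟩
    simpa using f3 (b'.pos hm) (f2 (a'.pos hk) (hβ s ⟨_, ⟨g, rfl⟩, a⟩ t ⟨_, ⟨v, rfl⟩, b⟩) (g' := (gk s)⁻¹ * g) (z' := 1)
      ⟨map_one κ, by simpa using ih _ _ (by rw [map_mul, map_inv]; exact a'.sub a) (b'.mem hm)⟩) (v' := (gm t)⁻¹ * v) (z' := 1)
      ⟨map_one κ, by simpa using C.comm hc (.inl (a.pos hk)) (by simpa using b'.sub b)⟩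
  obtain ⟨s, hs⟩ := exists_co hk hg
  obtain ⟨t, ht⟩ := exists_co hm hv
  have := hK k hk β (fun s a s' b t c => f1 (f5 (map_mul κ _ _ ▸ (g1 s a).mul hk (g1 s' b)) (g2 t c))
      (f2 ((g1 s a).pos hk) (hβ s a t c) (hβ s' b t c)))
    (fun s a t b t' c => f1 (f5 (g1 s a) (map_mul κ _ _ ▸ (g2 t b).mul hm (g2 t' c))) (f3 ((g2 t b).pos hm) (hβ s a t b) (hβ s a t' c)))
    (by rintro _ ⟨hy, y, rfl⟩ a b ha hb s c t d; exact f1 (f5 (g := y * gk s * y⁻¹) (v := y * gm t * y⁻¹) (by simpa using (g1 s c).conj hy ha)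
      (by simpa using (g2 t d).conj hy hb)) ⟨(hβ s c t d).1, by
        convert C.conj y (.inr hy) _ (hβ s c t d).2 using 1
        rw [← mul_assoc y ⁅_, _⁆, mul_assoc _ (β s t)⁻¹, ← cen (z := (β s t)⁻¹) (by simp [(hβ s c t d).1])]
        simp only [commutatorElement_def]; group⟩)
    (fun g v s t a b c => f1 (f5 a b) ⟨map_one κ, by simp [c.commutator_eq]⟩) s ⟨_, ⟨g, rfl⟩, hs⟩ t ⟨_, ⟨v, rfl⟩, ht⟩
  simpa [this] using (f5 hs ht).2

theorem Cp.step (hφ : Reg φ) (hm : 0 < fv φ m) {A : Subgroup E} (C : Cp S φ κ (Lv φ (fv φ m + 1)) A)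
    (hK : ∀ k, 0 < fv φ k → Kill S φ κ.range k m κ) (hF : Vc S φ κ.range m ⊆ {0} ∨ ∃ y ∈ S.H ⊓ κ.range, ∃ b ≠ 1, S.Ac y m b) :
    ∃ A', Cp S φ κ (Lv φ (fv φ m + 1) ∪ {m}) A' := by
  rcases hF with h | ⟨_, ⟨hy, y, rfl⟩, b, h1, hb⟩
  · refine ⟨A, C.inj, fun a ha => US_mono Set.subset_union_left (C.le a ha), fun e he => C.ex e ?_, C.conj⟩
    obtain ⟨t, ht⟩ := exists_co hm he
    exact co_zero.1 (h ⟨_, ⟨e, rfl⟩, ht⟩ ▸ ht)
  have key := fun g v => C.key hc hφ hm hK (g := g) (v := v)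
  have h2 : ∀ {v t}, S.Co φ m (κ v) t → S.Co φ m (κ ⁅y, v⁆) (b * t + -t) := fun h => by
    simpa [commutatorElement_def] using (h.conj hy hb).mul hm (h.inv hm)
  have h3 : ∀ {v}, κ v ∈ S.US (Lv φ (fv φ m + 1) ∪ {m}) → κ ⁅y, v⁆ ∈ S.US (Lv φ (fv φ m + 1) ∪ {m}) := fun h =>
    let ⟨_, e⟩ := exists_co hm h; (h2 e).mem hm
  have h4 : ∀ {g}, g ∈ S.US (Lv φ (fv φ m + 1) ∪ {m}) → g ∈ S.US {r | 0 < fv φ r} := fun h => US_mono (fun _ a => a.1) (lv_le hm h)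
  let A' : Subgroup E :=
    { carrier := {e | ∃ v, κ v ∈ S.US (Lv φ (fv φ m + 1) ∪ {m}) ∧ e * ⁅y, v⁆⁻¹ ∈ A}
      one_mem' := ⟨1, by simp, by simp⟩
      mul_mem' := fun ⟨v, a, b⟩ ⟨w, c, d⟩ => ⟨v * w, by simpa using mul_mem a c, by
        convert mul_mem b (C.conj _ (.inl (h4 (h3 a))) _ (mul_mem d (inv_mem (key _ _ (h4 a) (h3 c))))) using 1
        simp only [commutatorElement_def]; group⟩
      inv_mem' := fun ⟨v, a, b⟩ => ⟨v⁻¹, by simpa using a, by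
        convert mul_mem (C.conj ⁅y, v⁆⁻¹ (.inl (by simpa using h4 (h3 a))) _ (inv_mem b))
          (key ⁅y, v⁆⁻¹ v⁻¹ (by simpa using h4 (h3 a)) (by simpa using a)) using 1
        simp only [commutatorElement_def]; group⟩ }
  have h5 : ∀ e ∈ A', κ e ∈ S.US (Lv φ (fv φ m + 1) ∪ {m}) := fun e ⟨v, a, b⟩ => by
    simpa using mul_mem (US_mono Set.subset_union_left (C.le _ b)) (h3 a)
  refine ⟨A', fun e ⟨v, a, c⟩ he => C.inj e ?_ he, h5, fun e he => ?_, fun g hg e he => ?_⟩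
  · obtain ⟨t, ht⟩ := exists_co hm a
    have := (h2 ht).unique hm (co_zero.2 (by simpa [he] using C.le _ c))
    obtain rfl : t = 0 := mul_left_cancel₀ (sub_ne_zero.2 h1) (by linear_combination this)
    simpa using mul_mem c (C.comm hc (.inr hy) (co_zero.1 ht))
  · obtain ⟨t, ht⟩ := exists_co hm he
    obtain ⟨s, ⟨_, ⟨v, rfl⟩, hs⟩, rfl⟩ := Vc.surj (M := κ.range) hm ⟨hy, y, rfl⟩ hb h1 ⟨_, ⟨e, rfl⟩, ht⟩
    obtain ⟨a, ha, e'⟩ := C.ex (e * ⁅y, v⁆⁻¹) (by simpa using (ht.inv hm).sub ((h2 hs).inv hm))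
    exact ⟨a * ⁅y, v⁆, ⟨v, hs.mem hm, by simpa⟩, by simp [e']⟩
  · obtain ⟨v, a, c⟩ := id he
    rcases hg with hg | hg
    · exact ⟨v, a, by simpa [commutatorElement_def, mul_assoc] using mul_mem (key g e hg (h5 e he)) c⟩
    · refine ⟨g * v * g⁻¹, by simpa using (H_le_normalizer _ hg _).1 a, ?_⟩
      rw [H16.commutatorElement_eq_of_map_eq hc (a' := g * y * g⁻¹) (b' := g * v * g⁻¹) (by simp [H_comm hg hy]) rfl]
      convert C.conj g (.inr hg) _ c using 1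
      simp only [commutatorElement_def]; group

theorem ker_inf_comm (hφ : Reg φ) (hK : ∀ k m, 0 < fv φ k → 0 < fv φ m → Kill S φ κ.range k m κ)
    (hF : ∀ m, 0 < fv φ m → Vc S φ κ.range m ⊆ {0} ∨ ∃ y ∈ S.H ⊓ κ.range, ∃ b ≠ 1, S.Ac y m b) {z : E} (hz : κ z = 1)
    (h : z ∈ ⁅(S.US {r | 0 < fv φ r}).comap κ, (S.US {r | 0 < fv φ r}).comap κ⁆) : z = 1 := by
  obtain ⟨A, C⟩ := lev_induction hφ {r | 0 < fv φ r} (P := fun T => ∃ A, Cp S φ κ T A)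
    ⟨⊥, by simp, by simp, fun e he => ⟨1, one_mem _, by simp_all⟩, by simp⟩
    (fun m hm ⟨_, C⟩ => C.step hc hφ hm (fun k hk => hK k m hk hm) (hF m hm)) 0
  exact C.inj z (Subgroup.commutator_le.2 (fun g hg v hv => C.comm hc (.inl hg) (US_mono (lev_zero fun _ a => a) hv)) h) hz

end H11
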