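import Cfsg.Agent.H11.Hat
import Cfsg.Agent.H11.TwE6

/-! Central extensions of twisted groups with kernel prime to the characteristic: `Tw.exists_compl`, rank one data `RI`, `ri_sl2`. -/

namespace H11
open Cfsg Cfsg.Lie Equiv StSys
open scoped Pointwise

variable {D : ChevalleyDatum} [Good D] [Cert D] {K G E : Type*} [Field K] [Group G] [Group E] {S : StSys D K G}

/-- elements of `N` with a given image in the Weyl group -/
def StSys.AN (S : StSys D K G) (g : G) (w : Weyl D) : Prop := g ∈ S.N ∧ S.Acts g w.1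

theorem an_π (m : S.N) : S.AN m (S.π m) := ⟨m.2, acts_π m⟩

omit [Cert D] in
theorem StSys.AN.mul {g g' : G} {w w' : Weyl D} (a : S.AN g w) (b : S.AN g' w') : S.AN (g * g') (w * w') :=
  ⟨mul_mem a.1 b.1, a.2.mul (Weyl.aut _) b.2⟩

omit [Cert D] in
theorem StSys.AN.inv {g : G} {w : Weyl D} (a : S.AN g w) : S.AN g⁻¹ w⁻¹ := ⟨inv_mem a.1, a.2.inv (Weyl.aut _)⟩

theorem an_one {g : G} : S.AN g 1 ↔ g ∈ S.H := ⟨fun a => mem_H_of_acts a.1 a.2, fun a => ⟨H_le_N a, acts_of_mem_H a⟩⟩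

omit [Cert D] in
theorem StSys.AN.unique {g : G} {w w' : Weyl D} (a : S.AN g w) (b : S.AN g w') : w = w' := Subtype.ext (a.2.unique b.2)

theorem StSys.AN.mem_H {g g' : G} {w : Weyl D} (a : S.AN g w) (b : S.AN g' w) : g * g'⁻¹ ∈ S.H :=
  an_one.1 (mul_inv_cancel w ▸ a.mul b.inv)

theorem H_comm [Finite K] {y z : G} (hy : y ∈ S.H) (hz : z ∈ S.H) : y * z = z * y := by
  rw [← torS_range S.hMul_of_finite] at hy hz
  obtain ⟨a, rfl⟩ := hy; obtain ⟨b, rfl⟩ := hz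
  rw [← map_mul, mul_comm, map_mul]

omit [Cert D] in
theorem wJ_ne_one {J : Set (Node D)} (h : J.Nonempty) : wJ J ≠ 1 := fun e => by simpa [e] using len_wJ_pos h

variable (S) in
/-- the subgroup generated by the `p`-elements over the unipotent subgroups of a Levi factor -/
def Lh (p : ℕ) (κ : E →* G) (J : Set (Node D)) : Subgroup E :=
  Subgroup.closure {e | PE p e ∧ (κ e ∈ S.US (PosJ J) ∨ κ e ∈ S.US (NegJ J))}

variable {p : ℕ} {κ : E →* G}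

omit [Cert D] in
theorem Lh_conj {J J' : Set (Node D)} {g : E} {w : Weyl D} (hw : S.Acts (κ g) w.1) (hJ : ∀ r ∈ PosJ J, w.1 r ∈ PosJ J') {e : E}
    (he : e ∈ Lh S p κ J) : g * e * g⁻¹ ∈ Lh S p κ J' := by
  refine (Subgroup.closure_le ((Lh S p κ J').comap (MulAut.conj g).toMonoidHom)).2 (fun e he => Subgroup.subset_closure
    ⟨he.1.conj g, he.2.imp (fun a => ?_) fun a => ?_⟩) he
  · simpa using hw.conj_mem hJ a
  · simpa using hw.conj_mem (fun r hr => by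
      have := hJ r.rev ⟨isPos_rev_iff.2 hr.1, inJ_rev.2 hr.2⟩
      rw [RootAut.rev (Weyl.aut w)] at this
      exact (⟨isPos_rev_iff.1 this.1, inJ_rev.1 this.2⟩ : _ ∈ NegJ J')) a

variable (S p κ) in
/-- the rank one condition -/
def RI [Finite K] (J : Set (Node D)) : Prop := ∀ e ∈ Lh S p κ J, κ e ∈ S.H →
  ∃ c : Node D → Kˣ, (∀ j ∉ J, c j = 1) ∧ κ e = torS S.hMul_of_finite c ∧ (c = 1 → e = 1)

theorem Ch_conj {J : Set (Node D)} {y e : E} (hy : κ y ∈ S.H) (he : e ∈ Lh S p κ J ⊓ S.H.comap κ) :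
    y * e * y⁻¹ ∈ Lh S p κ J ⊓ S.H.comap κ :=
  ⟨Lh_conj (w := 1) (acts_of_mem_H hy) (fun _ a => a) he.1, by
    simpa using conj_mem_H (H_le_N hy) he.2⟩

theorem ri_sup [Finite K] [Finite E] {ι : Type*} {J : ι → Set (Node D)} (hd : Pairwise (Function.onFun Disjoint J)) (h : ∀ a, RI S p κ (J a))
    (X : Finset ι) : ∀ e ∈ ⨆ a ∈ X, Lh S p κ (J a) ⊓ S.H.comap κ,
      ∃ c : Node D → Kˣ, (∀ j, (∀ a ∈ X, j ∉ J a) → c j = 1) ∧ κ e = torS S.hMul_of_finite c ∧ (c = 1 → e = 1) := by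
  classical
  induction X using Finset.induction_on with
  | empty => intro e he; exact ⟨1, by simp, by simp_all, by simp_all⟩
  | insert a X ha ih =>
    intro e he
    rw [Finset.iSup_insert] at he
    obtain ⟨x, hx, y, hy, rfl⟩ := exists_mul_of_mem_sup (iSup₂_le fun b _ => inf_le_right.trans fun y hy =>
      Subgroup.mem_normalizer_fintype fun _ => Ch_conj hy) he
    · obtain ⟨c, h1, h2, h3⟩ := h a x hx.1 hx.2
      obtain ⟨d, h4, h5, h6⟩ := ih y hy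
      refine ⟨c * d, fun j hj => by simp [h1 j (hj a (by simp)), h4 j fun b hb => hj b (by simp [hb])], by simp [h2, h5], fun e => ?_⟩
      have : c = 1 := funext fun j => by_contra fun e' => e' (by
        simpa [h4 j fun b hb hj => Set.disjoint_left.1 (hd (ne_of_mem_of_not_mem hb ha)) hj (by_contra fun n => e' (h1 j n))]
          using congrFun e j)
      rw [h3 this, h6 (by simpa [this] using e), mul_one]

section S2
open H12
variable {F : Type*} [Field F] [Finite K]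

variable (S) in
/-- an `SL₂` diagonally embedded in commuting fundamental subgroups -/
structure S2 (L : List (Node D)) (X Y : F → G) : Prop where
  rel : SL2Rel X Y
  hX : ∀ t, X t ∈ S.US {r | ∃ j ∈ L, r = sroot j}
  hY : ∀ t, Y t ∈ S.US {r | ∃ j ∈ L, r = (sroot j).rev}
  hw : ∀ t ≠ 0, S.AN (wEl X Y t) (wp sW L)
  hh : ∀ t ≠ 0, ∃ c : Node D → Kˣ, (∀ j ∉ L, c j = 1) ∧ hEl X Y t = torS S.hMul_of_finite c ∧ (c = 1 → t = 1)

theorem S2.single (i : Node D) (φ : F →+* K) : S2 S [i] (fun t => S.x (sroot i) (φ t)) fun t => S.x (sroot i).rev (φ t) := by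
  have h0 : ∀ t, wEl (fun t => S.x (sroot i) (φ t)) (fun t => S.x (sroot i).rev (φ t)) t = S.n (sroot i) (φ t) := fun t => by
    simp [wEl, StSys.n]
  refine ⟨⟨by simp [S.add], by simp [S.add], fun t u ht => ?_⟩, fun t => x_mem_US (by simp) _, fun t => x_mem_US (by simp) _,
    fun t ht => ?_, fun t ht => ⟨Pi.mulSingle i (Units.mk0 (φ t) (by simpa)), fun j hj => Pi.mulSingle_eq_of_ne (by simpa using hj) _,
      by simp [hEl, h0, torS_single, StSys.h], fun e => φ.injective (by simpa [Units.ext_iff] using congrFun e i)⟩⟩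
  · simpa [h0, wEl, StSys.n] using (S.sl2Rel (sroot i)).hw (φ t) (φ u) (by simpa)
  · rw [h0, wp_singleton]; exact ⟨n_mem_N _ (by simpa), acts_n _ (by simpa)⟩

theorem S2.cons {L : List (Node D)} {X Y : F → G} (R : S2 S L X Y) (i : Node D) (φ : F →+* K)
    (hc : ∀ j ∈ L, j ≠ i ∧ Nc (sroot i) (sroot j) = 0 ∧ Nc (sroot i) (sroot j).rev = 0) :
    S2 S (i :: L) (fun t => S.x (sroot i) (φ t) * X t) fun t => S.x (sroot i).rev (φ t) * Y t := by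
  have R' := S2.single (S := S) i φ
  set X' := fun t => S.x (sroot i) (φ t)
  set Y' := fun t => S.x (sroot i).rev (φ t)
  show S2 S _ (fun t => X' t * X t) fun t => Y' t * Y t
  let A := S.US {r | r = sroot i ∨ r = (sroot i).rev}
  let B := S.US {r | ∃ j ∈ L, r = sroot j ∨ r = (sroot j).rev}
  have h0 : ∀ {a b}, a ∈ A → b ∈ B → Commute a b := fun {a b} ha hb => by
    refine US_induction (C := fun a => Commute a b) (.one_left _) (fun r hr t => US_induction (C := Commute _) (.one_right _)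
      (fun s hs u => ?_) (fun _ _ _ _ => .mul_right) hb) (fun _ _ _ _ => .mul_left) ha
    obtain ⟨j, hj, hs⟩ := hs
    obtain ⟨c1, c2, c3⟩ := hc j hj
    have c4 := fun e => c1 (sroot_injective e)
    have c5 : ∀ a b : Node D, sroot a ≠ (sroot b).rev := fun a b e => not_isPos_rev (isPos_sroot b) (e ▸ isPos_sroot a)
    have c6 := Nc_rev_rev (sroot i) (sroot j).rev
    rcases hr with rfl | rfl <;> rcases hs with rfl | rfl <;> refine S.commute_of_Nc ?_ ?_ _ _ <;>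
      simp_all [Nc_rev_rev, (c5 _ _).symm, Fin.rev_inj]
  have a1 : ∀ t, X' t ∈ A := fun t => x_mem_US (by simp) _
  have a2 : ∀ t, Y' t ∈ A := fun t => x_mem_US (by simp) _
  have b1 : ∀ t, X t ∈ B := fun t => US_mono (by rintro _ ⟨j, a, b⟩; exact ⟨j, a, .inl b⟩) (R.hX t)
  have b2 : ∀ t, Y t ∈ B := fun t => US_mono (by rintro _ ⟨j, a, b⟩; exact ⟨j, a, .inr b⟩) (R.hY t)
  have a3 : ∀ t, wEl X' Y' t ∈ A := fun t => mul_mem (mul_mem (a1 _) (a2 _)) (a1 _)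
  have b3 : ∀ t, wEl X Y t ∈ B := fun t => mul_mem (mul_mem (b1 _) (b2 _)) (b1 _)
  have h1 : ∀ {a b a' b'}, b ∈ B → a' ∈ A → a * b * (a' * b') = a * a' * (b * b') := fun hb ha => (h0 ha hb).symm.mul_mul_mul_comm _ _
  have h2 : ∀ t, wEl (fun t => X' t * X t) (fun t => Y' t * Y t) t = wEl X' Y' t * wEl X Y t := fun t => by
    simp only [wEl]; rw [h1 (b1 _) (a2 _), h1 (mul_mem (b1 _) (b2 _)) (a1 _)]
  refine ⟨⟨fun t u => by rw [h1 (b1 _) (a1 _), R.rel.hx, R'.rel.hx], fun t u => by rw [h1 (b2 _) (a2 _), R.rel.hy, R'.rel.hy],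
    fun t u ht => ?_⟩, fun t => mul_mem (x_mem_US (by simp) _) (US_mono (by simp +contextual) (R.hX t)),
    fun t => mul_mem (x_mem_US (by simp) _) (US_mono (by simp +contextual) (R.hY t)), fun t ht => ?_, fun t ht => ?_⟩
  · rw [h2, h1 (b3 _) (a1 _), ← R.rel.hw t u ht, ← R'.rel.hw t u ht, (h0 (a3 t) (b3 t)).eq, mul_inv_rev,
      h1 (mul_mem (b3 _) (b1 _)) (inv_mem (a3 _))]
  · simpa [h2] using (R'.hw t ht).mul (R.hw t ht)
  · obtain ⟨c, c1, c2, c3⟩ := R.hh t ht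
    obtain ⟨d, d1, d2, d3⟩ := R'.hh t ht
    refine ⟨d * c, fun j hj => by simp_all, by rw [map_mul, ← c2, ← d2, hEl, h2, h2, h1 (b3 _) (a3 _)]; rfl, fun e => d3 (funext fun j => ?_)⟩
    by_cases hj : j = i
    · simpa [hj, c1 i fun a => (hc i a).1 rfl] using congrFun e i
    · exact d1 j (by simpa)

end S2

namespace StSys.Tw
variable {σ : MulAut G} {ρ : Perm (Node D)} {c : Node D → Kˣ} {f : Node D → K ≃+* K} {h : S.SimpAct σ ρ c f} {M : Subgroup G}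
  (T : Tw h M)
include T

theorem an_mem {g : G} {w : Weyl D} (a : S.AN g w) (hg : g ∈ M) : w ∈ h.Wf :=
  (an_π ⟨g, a.1⟩).unique a ▸ h.π_mem_Wf (m := ⟨g, a.1⟩) (T.le hg)

theorem neg_bruhat {i : Node D} {y : G} (h1 : y ∈ M) (h2 : y ∈ S.US (NegJ (orb ρ i))) (h3 : y ≠ 1) :
    ∃ u ∈ S.US (PosJ (orb ρ i)) ⊓ M, ∃ v ∈ S.US (PosJ (orb ρ i)) ⊓ M, S.AN (u⁻¹ * y * v⁻¹) (wJ (orb ρ i)) := by
  obtain ⟨u, hu, m, hm, v, hv, rfl⟩ := T.bruhat h1
  have hv' : v ∈ S.U := US_mono (fun _ a => a.1) hv.1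
  have h4 : u * m * v ∈ S.PJ (orb ρ i) := US_le.2 (fun _ hr => x_mem_PJ hr.2) h2
  have h5 : S.π m ∈ par sW (orb ρ i) := π_mem_par_iff.2 (by
    simpa [mul_assoc] using mul_mem (mul_mem (inv_mem (B_le_PJ _ (U_le_B hu.1))) h4) (inv_mem (B_le_PJ _ (U_le_B hv'))))
  rcases h.eq_or_of_par (h.π_mem_Wf (T.le hm)) h5 with e | e
  · exact absurd (B_inf_V.le ⟨mul_mem (mul_mem (U_le_B hu.1) (H_le_B (π_eq_one_iff.1 e))) (U_le_B hv'),
      US_mono (fun _ a => a.1) h2⟩) h3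
  rw [e, invS_wJ] at hv
  obtain ⟨a, ha, b, hb, rfl⟩ := exists_mul_of_union closed_isPos pos_U (A := {r | IsPos r ∧ ¬ InJ (orb ρ i) r})
    (B := PosJ (orb ρ i)) (by ext r; simp only [PosJ, Set.mem_union, Set.mem_ofPred_eq]; tauto) hu.1
  have hL : ∀ {T : Set (Root D)} {g}, (∀ r ∈ T, InJ (orb ρ i) r) → g ∈ S.US T → g ∈ S.LJ (orb ρ i) := fun a b =>
    Subgroup.mem_sup_right (US_mono a b)
  have h6 : a = 1 := (UJ_inf_LJ (S := S) (orb ρ i)).le ⟨ha, by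
    simpa [mul_assoc] using mul_mem (mul_mem (mul_mem (hL (fun _ a => a.2) h2) (inv_mem (hL (fun _ a => a.2) hv.1)))
      (inv_mem (mem_LJ_of_par h5))) (inv_mem (hL (fun _ a => a.2) hb))⟩
  subst h6
  exact ⟨b, ⟨hb, by simpa using hu.2⟩, v, hv, by simpa [mul_assoc, e] using an_π m⟩

theorem mul_of_mem_U (i : Node D) {u : G} (hu : u ∈ S.U ⊓ M) :
    ∃ a ∈ S.UJ (orb ρ i) ⊓ M, ∃ b ∈ S.US (PosJ (orb ρ i)) ⊓ M, u = a * b := by
  obtain ⟨a, ha, b, hb, rfl⟩ := exists_mul_of_union closed_isPos pos_U (A := {r | IsPos r ∧ ¬ InJ (orb ρ i) r})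
    (B := PosJ (orb ρ i)) (by ext r; simp only [PosJ, Set.mem_union, Set.mem_ofPred_eq]; tauto) hu.1
  have h1 : ∀ r, InJ (orb ρ i) r → InJ (orb ρ i) (h.R r) := fun r => h.inJ_R fun j => apply_mem_orb.2
  have h2 := (Finite.injective_iff_surjective (f := fun r : {r // InJ (orb ρ i) r} => (⟨h.R r, h1 _ r.2⟩ : {r // InJ (orb ρ i) r}))).1
    fun a b e => Subtype.ext (h.R.injective (congrArg Subtype.val e))
  have := h.fix_mul (by simpa only [← fv_psiJ_pos_iff] using closed_pos _) (closed_posJ _) (fun _ a => a.1) (fun _ a => a.1)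
    (Set.disjoint_left.2 fun _ a b => a.2 b.2) (A := {r | IsPos r ∧ ¬ InJ (orb ρ i) r}) (fun r a => ⟨h.isPos_R.2 a.1, fun e => a.2 (by
      obtain ⟨s, e'⟩ := h2 ⟨_, e⟩; exact h.R.injective (show h.R s.1 = h.R r from congrArg Subtype.val e') ▸ s.2)⟩)
    (fun r a => ⟨h.isPos_R.2 a.1, h1 r a.2⟩) ha hb (T.le hu.2)
  exact ⟨a, ⟨ha, T.U_le ⟨UJ_le_U _ ha, this.1⟩⟩, b, ⟨hb, T.pos i ⟨hb, this.2⟩⟩, rfl⟩

variable [Finite E] [Finite K] [Fact p.Prime] [CharP K p] (C : PF p κ) (hκ : κ.range = M)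
include hκ

theorem neg_hat {i : Node D} {y : E} (h1 : PE p y) (h2 : κ y ∈ S.US (NegJ (orb ρ i))) (h3 : κ y ≠ 1) :
    ∃ u v, PE p u ∧ κ u ∈ S.US (PosJ (orb ρ i)) ∧ PE p v ∧ κ v ∈ S.US (PosJ (orb ρ i)) ∧
      u⁻¹ * y * v⁻¹ ∈ Lh S p κ (orb ρ i) ∧ S.AN (κ (u⁻¹ * y * v⁻¹)) (wJ (orb ρ i)) := by
  obtain ⟨u, hu, v, hv, e⟩ := T.neg_bruhat (hκ.le ⟨y, rfl⟩) h2 h3
  obtain ⟨u, rfl, a⟩ := PF.exists_pe (isPGroup_U p) (US_mono (fun _ a => a.1) hu.1) (hκ.ge hu.2)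
  obtain ⟨v, rfl, b⟩ := PF.exists_pe (isPGroup_U p) (US_mono (fun _ a => a.1) hv.1) (hκ.ge hv.2)
  exact ⟨u, v, a, hu.1, b, hv.1, mul_mem (mul_mem (inv_mem (Subgroup.subset_closure ⟨a, .inl hu.1⟩))
    (Subgroup.subset_closure ⟨h1, .inr h2⟩)) (inv_mem (Subgroup.subset_closure ⟨b, .inl hv.1⟩)), by simpa using e⟩

theorem exists_nu_hat (i : Node D) : ∃ ν ∈ Lh S p κ (orb ρ i), S.AN (κ ν) (wJ (orb ρ i)) := by
  obtain ⟨y, h1, h2, h3⟩ := T.neg i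
  obtain ⟨y, rfl, a⟩ := PF.exists_pe (isPGroup_US p closed_not_isPos pos_V) (US_mono (fun _ a => a.1) h2) (hκ.ge h1)
  exact let ⟨_, _, _, _, _, _, e⟩ := T.neg_hat hκ a h2 h3; ⟨_, e⟩

theorem conj_nu {i j : Node D} {g ν : E} {w : Weyl D} (hg : S.AN (κ g) w) (e : wJ (orb ρ i) * w = w * wJ (orb ρ j))
    (h1 : ν ∈ Lh S p κ (orb ρ j)) (h2 : S.AN (κ ν) (wJ (orb ρ j))) : g * ν * g⁻¹ ∈ Lh S p κ (orb ρ i) := by
  wlog hp : IsPos (w.1 (sroot j)) generalizing g w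
  · have := this (g := g * ν) (map_mul κ g ν ▸ hg.mul h2) (by rw [← mul_assoc, e])
      (isPos_mul_wJ (fun k hk a => hp ((h.isPos_orb (T.an_mem hg (hκ.le ⟨g, rfl⟩)) hk).1 a)) j (mem_orb_self ρ j))
    simpa [mul_assoc] using this
  have h3 := fun k hk => (h.isPos_orb (T.an_mem hg (hκ.le ⟨g, rfl⟩)) (i := j) (j := k) hk).2 hp
  refine Lh_conj hg.2 (fun r hr => invS_wJ (orb ρ i) ▸ ⟨(isPos_iff_of_pos h3 hr.2).2 hr.1, ?_⟩) h1
  rw [show (wJ (orb ρ i)).1 (w.1 r) = w.1 ((wJ (orb ρ j)).1 r) from DFunLike.congr_fun (congrArg Subtype.val e) r,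
    isPos_iff_of_pos h3 ((par_inJ (wJ_mem _) _).2 hr.2), isPos_wJ hr.2]
  exact not_not.2 hr.1

include C in
theorem exists_compl (hM : M ≤ S.MF σ ρ) (hi : Function.Injective (torS S.hMul_of_finite)) {ι : Type*} [Fintype ι] {rep : ι → Node D}
    (hr : ∀ i, ∃ a, i ∈ orb ρ (rep a)) (hd : Pairwise (Function.onFun Disjoint fun a => orb ρ (rep a)))
    (hR : ∀ a, RI S p κ (orb ρ (rep a))) : ∃ A : Subgroup E, A ⊓ κ.ker = ⊥ ∧ A.map κ = M := by
  choose ν n1 n2 using fun a => T.exists_nu_hat (p := p) hκ (rep a)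
  set H0 : Subgroup E := ⨆ a ∈ (Finset.univ : Finset ι), Lh S p κ (orb ρ (rep a)) ⊓ S.H.comap κ with hH
  have a0 : ∀ a e, e ∈ Lh S p κ (orb ρ (rep a)) → S.AN (κ e) (wJ (orb ρ (rep a))) → e * (ν a)⁻¹ ∈ H0 := fun a e h1 h2 =>
    Subgroup.mem_iSup_of_mem a (Subgroup.mem_iSup_of_mem (Finset.mem_univ a) (Subgroup.mem_inf.2 ⟨mul_mem h1 (inv_mem (n1 a)), by
      simpa using h2.mem_H (n2 a)⟩))
  have a1 : H0 ≤ S.H.comap κ := iSup₂_le fun _ _ => inf_le_right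
  have a2 : ∀ a, ∀ y ∈ H0, ν a * y * (ν a)⁻¹ ∈ H0 := fun a y hy => by
    have h1 := an_one.2 (a1 hy)
    simpa [mul_assoc] using mul_mem hy (a0 a (y⁻¹ * ν a * y⁻¹⁻¹) (Lh_conj (w := 1) (by simpa using h1.inv.2) (fun _ a => a) (n1 a))
      (by simpa using (h1.inv.mul (n2 a)).mul h1))
  have a3 : ∀ l, S.AN (κ (wp ν l)) (wp (h.sF rep) l).1 := fun l => by
    induction l with
    | nil => simpa using an_one.2 (one_mem _)
    | cons a l ih => simpa [SimpAct.sF] using (n2 a).mul ih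
  have a4 : ∀ l, wp (h.sF rep) l = 1 → wp ν l ∈ H0 := fun l hl => by
    let N := Subgroup.normalizer (H0 : Set E)
    let ν' : ι → N := fun a => ⟨ν a, Subgroup.mem_normalizer_fintype (a2 a)⟩
    have e1 : ∀ l, (wp ν' l).1 = wp ν l := map_wp N.subtype ν'
    have := (h.preCoxF hr).wp_eq_one (f := fun a => QuotientGroup.mk' (H0.subgroupOf N) (ν' a)) (fun a => ?_) (fun l a b e => ?_) hl
    · rw [← map_wp, QuotientGroup.mk'_apply, QuotientGroup.eq_one_iff, Subgroup.mem_subgroupOf, e1] at this; exact this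
    · rw [← map_mul, QuotientGroup.mk'_apply, QuotientGroup.eq_one_iff, Subgroup.mem_subgroupOf]
      simpa using inv_mem (a0 a _ (inv_mem (n1 a)) (by simpa [wJ_inv] using (n2 a).inv))
    · have e' : wJ (orb ρ (rep a)) * (wp (h.sF rep) l).1 = (wp (h.sF rep) l).1 * wJ (orb ρ (rep b)) := congrArg Subtype.val e
      rw [← map_wp, ← map_mul, ← map_mul, eq_comm, ← mul_inv_eq_one, ← map_inv, ← map_mul, QuotientGroup.mk'_apply,
        QuotientGroup.eq_one_iff, Subgroup.mem_subgroupOf]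
      simpa [e1, mul_assoc] using a0 a _ (T.conj_nu hκ (a3 l) e' (n1 b) (n2 b))
        (by simpa [← e'] using ((a3 l).mul (n2 b)).mul (a3 l).inv)
  let U := C.hat (isPGroup_U (S := S) p)
  let Nz : E → Prop := fun k => ∃ y ∈ H0, ∃ l, k = y * wp ν l
  have b0 : ∀ k, Nz k → ∃ w, S.AN (κ k) w := by
    rintro _ ⟨y, hy, l, rfl⟩; exact ⟨_, map_mul κ _ _ ▸ (an_one.2 (a1 hy)).mul (a3 l)⟩
  have b1 : ∀ y ∈ H0, ∀ k, Nz k → Nz (y * k) := by
    rintro y hy _ ⟨z, hz, l, rfl⟩; exact ⟨_, mul_mem hy hz, l, (mul_assoc ..).symm⟩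
  have b2 : ∀ a k, Nz k → Nz (ν a * k) := by
    rintro a _ ⟨z, hz, l, rfl⟩; exact ⟨_, a2 a z hz, a :: l, by simp [mul_assoc]⟩
  have b3 : ∀ {g e w J}, S.AN (κ g) w → PE p e → κ e ∈ S.US (PosJ J) → (∀ j ∈ J, IsPos ((w⁻¹).1 (sroot j))) → g⁻¹ * e * g ∈ U :=
    fun a b c d => ⟨by simpa [StSys.U] using a.inv.2.conj_mem (fun r hr => (isPos_iff_of_pos d hr.2).2 hr.1) c, by simpa using b.conj _⁻¹⟩
  let X : Set E := {e | ∃ u ∈ U, ∃ k, Nz k ∧ ∃ v ∈ U, e = u * k * v}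
  let A := MulAction.stabilizer E X
  have c0 : ∀ g, (∀ u ∈ U, ∀ k, Nz k → ∀ v ∈ U, g * (u * k * v) ∈ X) → g ∈ A := fun g hg =>
    (MulAction.mem_stabilizer_set_iff_smul_set_subset X.toFinite).2 (by
      rintro _ ⟨_, ⟨u, hu, k, hk, v, hv, rfl⟩, rfl⟩; exact hg u hu k hk v hv)
  have c1 : U ≤ A := fun g hg => c0 g fun u hu k hk v hv => ⟨_, mul_mem hg hu, k, hk, v, hv, by group⟩
  have c2 : ∀ a, ν a ∈ A := fun a => c0 _ fun u hu k hk v hv => by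
    obtain ⟨x, hx, y, hy, e⟩ := T.mul_of_mem_U (rep a) ⟨hu.1, hκ.le ⟨u, rfl⟩⟩
    obtain ⟨y, rfl, py⟩ := PF.exists_pe (isPGroup_U p) (US_mono (fun _ a => a.1) hy.1) (hκ.ge hy.2)
    have h1 : ν a * (u * y⁻¹) * (ν a)⁻¹ ∈ U := ⟨UJ_le_U (orb ρ (rep a)) (by
      simpa [e] using (PJ_le_normalizer _ (π_mem_par_iff.1 (((an_π ⟨_, (n2 a).1⟩).unique (n2 a)).symm ▸ wJ_mem _)) x).1 hx.1),
      (mul_mem hu (inv_mem (show y ∈ U from ⟨US_mono (fun _ a => a.1) hy.1, py⟩))).2.conj _⟩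
    obtain ⟨w, hw⟩ := b0 k hk
    have h2 := fun j => h.isPos_orb (inv_mem (T.an_mem hw (hκ.le ⟨k, rfl⟩))) (i := rep a) (j := j)
    by_cases h3 : IsPos ((w⁻¹).1 (sroot (rep a)))
    · exact ⟨_, h1, _, b2 a k hk, _, mul_mem (b3 hw py hy.1 fun j hj => (h2 j hj).2 h3) hv, by group⟩
    by_cases h4 : κ y = 1
    · exact ⟨_, h1, _, b2 a k hk, _, hv, by rw [C.eq_one h4 py]; group⟩
    obtain ⟨x', y', d1, d2, d3, d4, d5, d6⟩ := T.neg_hat hκ (i := rep a) (py.conj (ν a)) (by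
      simpa using (n2 a).2.conj_mem (fun r hr => (image_wJ_posJ _).le (Set.mem_image_of_mem _ hr)) hy.1) (by simpa using h4)
    exact ⟨_, mul_mem h1 (show x' ∈ U from ⟨US_mono (fun _ a => a.1) d2, d1⟩), _, b1 _ (a0 a _ d5 d6) _ (b2 a _ (b2 a k hk)), _,
      mul_mem (b3 (map_mul κ _ _ ▸ (n2 a).mul hw) d3 d4 (by
        rw [mul_inv_rev, wJ_inv]; exact isPos_mul_wJ fun j hj a => h3 ((h2 j hj).1 a))) hv, by group⟩
  refine ⟨A, eq_bot_iff.2 fun z hz => ?_, le_antisymm (hκ ▸ Subgroup.map_le_range _ _) (hM.trans (iSup_le fun i => sup_le ?_ ?_))⟩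
  · obtain ⟨u, hu, _, ⟨y, hy, l, rfl⟩, v, hv, e⟩ := (MulAction.mem_stabilizer_iff.1 hz.1).le
      ⟨1, ⟨1, one_mem _, 1, ⟨1, one_mem _, [], by simp⟩, 1, one_mem _, by simp⟩, rfl⟩
    have e1 : z = u * (y * wp ν l) * v := by simpa using e
    have h1 := (an_one.2 (a1 hy)).mul (a3 l)
    have e2 := eq_of_unu h1.1 (one_mem _) hu.1 hv.1 (one_mem _) (one_mem _) (by simpa [e1] using hz.2)
    have h2 := mul_mem hy (a4 l (Subtype.ext (by simpa using h1.unique (an_one.2 (e2 ▸ one_mem _)))))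
    obtain ⟨c, -, h3, h4⟩ := ri_sup hd hR _ _ h2
    rw [h4 (hi (by rw [← h3, map_mul, e2, map_one])), mul_one] at e1
    exact C.eq_one hz.2 (e1 ▸ (mul_mem hu hv).2)
  · rintro g hg
    obtain ⟨u, rfl, a⟩ := PF.exists_pe (isPGroup_U p) (US_mono (fun _ a => a.1) hg.1) (hκ.ge (T.pos i hg))
    exact ⟨u, c1 ⟨US_mono (fun _ a => a.1) hg.1, a⟩, rfl⟩
  · rintro g hg
    obtain ⟨a, ha⟩ := hr i
    rw [orb_eq ha] at hg
    obtain ⟨u, rfl, b⟩ := PF.exists_pe (isPGroup_US p closed_not_isPos pos_V) (US_mono (fun _ a => a.1) hg.1)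
      (hκ.ge (T.V_le ⟨US_mono (fun _ a => a.1) hg.1, hg.2⟩))
    refine ⟨u, (Subgroup.mul_mem_cancel_left _ (c2 a)).1 ((Subgroup.mul_mem_cancel_right _ (inv_mem (c2 a))).1 (c1 ⟨?_, b.conj _⟩)), rfl⟩
    simpa [StSys.U] using (n2 a).2.conj_mem (T' := {r | IsPos r}) (fun r hr => (isPos_wJ hr.2).2 hr.1) hg.1

omit T in
include C in
open H12 in
theorem ri_sl2 {F : Type*} [Field F] [Finite F] {L : List (Node D)} {X Y : F → G} (R : S2 S L X Y) {J : Set (Node D)}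
    (hL : (∀ j, j ∈ L ↔ j ∈ J) ∧ wJ J = wp sW L) (hJ : J.Nonempty) (hX : ∀ t, X t ∈ M) (hY : ∀ t, Y t ∈ M)
    (hs : ∀ g ∈ S.US (PosJ J) ⊓ M, ∃ t, X t = g) : RI S p κ J := by
  have h1 : ∀ t, X t ∈ S.U := fun t => US_mono (by rintro _ ⟨j, -, rfl⟩; exact isPos_sroot j) (R.hX t)
  have h2 : ∀ t, Y t ∈ S.V := fun t => US_mono (by rintro _ ⟨j, -, rfl⟩; exact not_isPos_rev (isPos_sroot j)) (R.hY t)
  choose x x1 x2 using fun t => PF.exists_pe (isPGroup_U p) (h1 t) (hκ.ge (hX t))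
  choose y y1 y2 using fun t => PF.exists_pe (isPGroup_US p closed_not_isPos pos_V) (h2 t) (hκ.ge (hY t))
  have x3 : ∀ t, x t ∈ C.hat (isPGroup_U (S := S) p) := fun t => ⟨x1 t ▸ h1 t, x2 t⟩
  have y3 : ∀ t, y t ∈ C.hat (isPGroup_US (S := S) p closed_not_isPos pos_V) := fun t => ⟨y1 t ▸ h2 t, y2 t⟩
  have h3 : ∀ t, κ (wEl x y t) = wEl X Y t := by simp [wEl, x1, y1]
  have R' : SL2Rel x y := ⟨fun t u => C.uniq (by simp [x1, R.rel.hx]) (x2 _) (mul_mem (x3 t) (x3 u)).2,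
    fun t u => C.uniq (by simp [y1, R.rel.hy]) (y2 _) (mul_mem (y3 t) (y3 u)).2,
    fun t u ht => C.uniq (by simp [h3, x1, y1, R.rel.hw t u ht]) ((x2 _).conj _) (y2 _)⟩
  obtain ⟨φ, f1, f2⟩ := R'.exists_hom R'.h_mul_of_finite
  have f3 : ∀ t, φ (wEl upSL loSL t) = wEl x y t := by simp [wEl, f1, f2]
  have h4 : Lh S p κ J ≤ φ.range := (Subgroup.closure_le _).2 fun e he => by
    rcases he.2 with a | a
    · obtain ⟨t, ht⟩ := hs _ ⟨a, hκ.le ⟨e, rfl⟩⟩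
      exact ⟨_, (f1 t).trans (C.uniq ((x1 t).trans ht) (x2 t) he.1)⟩
    · obtain ⟨t, ht⟩ := hs (κ ((wEl x y 1)⁻¹ * e * (wEl x y 1)⁻¹⁻¹)) ⟨by
        simpa [h3] using (R.hw 1 one_ne_zero).inv.2.conj_mem (fun r hr => by
          rw [← hL.2, wJ_inv]; exact (⟨(isPos_wJ hr.2).2 hr.1, (par_inJ (wJ_mem _) _).2 hr.2⟩ : _ ∈ PosJ J)) a, hκ.le ⟨_, rfl⟩⟩
      exact ⟨wEl upSL loSL 1 * upSL t * (wEl upSL loSL 1)⁻¹, by
        simp [f1, f3, C.uniq ((x1 t).trans ht) (x2 t) (he.1.conj _), mul_assoc]⟩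
  intro e he hH
  obtain ⟨g, rfl⟩ := h4 he
  by_cases hg : g.1 1 0 = 0
  · obtain ⟨a, b⟩ := (sl2_bruhat g).1 hg
    obtain ⟨c, c1, c2, c3⟩ := R.hh _ a
    have h5 : κ (φ (hEl upSL loSL (g.1 0 0))) = torS S.hMul_of_finite c := by simp [← c2, hEl, f3, h3]
    rw [b, map_mul, map_mul, h5, f1] at hH ⊢
    have h6 := C.eq_one (U_inf_H.le ⟨x1 _ ▸ h1 _, (Subgroup.mul_mem_cancel_right _ (torS_mem _ c)).1 hH⟩) (x2 _)
    refine ⟨c, fun j hj => c1 j fun a => hj ((hL.1 j).1 a), by simp [h6], fun e => ?_⟩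
    rw [h6, c3 e, H12.sl2Rel.h_one, map_one, one_mul]
  · have h5 := R.hw (-(g.1 1 0)⁻¹) (by simpa)
    rw [(sl2_bruhat g).2 hg] at hH
    simp only [map_mul, f1, f3, x1, h3] at hH
    have := eq_of_unu h5.1 (H_le_N hH) (h1 _) (h1 _) (one_mem _) (one_mem _) (by rw [one_mul, mul_one])
    exact absurd (hL.2.trans (h5.unique (an_one.2 (this ▸ hH)))) (wJ_ne_one hJ)

end StSys.Tw

end H11
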